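import Cfsg.Agent.Lib.M24Join.Sound

/-!
The search excluding a cyclic complement of order six at seven: six families of linear characters.
-/

set_option maxRecDepth 100000

namespace Cfsg.Agent.M24Order

open Cfsg.Agent.M24Join
open Cfsg.Agent.Golay.Local (allF)

noncomputable section

/-- The members of the principal family at seven other than the trivial one. -/
def pSeven : List ℕ := [1035, 2024, 990, 990]

/-- The members of the principal family at five other than the trivial one. -/
def fFive : List ℕ := [1771, 2024, 5544, 5796]

/-- The options at five: the code of the residues `±1`, the residues `±2` and the part divisible by seven. -/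
def optsFive : List (ℕ × Grp) :=
  (listW.map fun w => (codeL (nz7 (fFive ++ [w.2, w.2])),
    (⟨codeL (nz7 w.1), stL (z7 (fFive ++ (w.1 ++ [w.2, w.2])))⟩ : Grp))) ++
  listQ.map fun q => (codeL (nz7 (fFive ++ (q ++ q))), (⟨0, stL (z7 (fFive ++ (q ++ q)))⟩ : Grp))

/-- The statistics of the six families. -/
def stAb (a b c : Opt) : St :=
  St.add (St.add (St.add (stL (1 :: pSeven)) (St.add a.st a.st)) (St.add c.st c.st)) b.st

/-- The code of the residues `±2` of the six families. -/
def cbAb (a b c : Opt) : ℕ :=
  Nat.add (Nat.add (Nat.add (codeL (selB pSeven)) (Nat.add a.cb a.cb)) (Nat.add c.cb c.cb)) b.cb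

/-- The last step. -/
def abLeaf (T : M24Join.Tree St) (s : St) (cb : ℕ) (g : Grp) : Bool :=
  !(limS (St.add s g.st)) || !(subC g.cb cb) ||
    allF (fun t => !(limS (St.add (St.add s g.st) t)) || !(compl (St.add (St.add s g.st) t)))
      (T.find (Nat.sub cb g.cb))

/-- Two families taken twice and one once never fit. -/
def runAb (S : M24Join.Tree Opt) (T : M24Join.Tree St) (g : ℕ × Grp) : Bool :=
  S.allT fun ka as => !(subC (Nat.add (codeL (selA pSeven)) (Nat.add ka ka)) g.1) ||
    S.allT fun kc cs =>
      !(subC (Nat.add kc kc) (Nat.sub g.1 (Nat.add (codeL (selA pSeven)) (Nat.add ka ka)))) ||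
      allF (fun b => allF (fun a => allF (fun c =>
        !(limS (stAb a b c)) || abLeaf T (stAb a b c) (cbAb a b c) g.2) cs) as)
        (S.find (Nat.sub (Nat.sub g.1 (Nat.add (codeL (selA pSeven)) (Nat.add ka ka))) (Nat.add kc kc)))

theorem runAb_ok : allF (runAb treeS treeT) optsFive = true := by decide +kernel

end

end Cfsg.Agent.M24Order
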