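import Cfsg.Agent.Lib.M24Order.FiveJoin
import Cfsg.Agent.Lib.Classical.DicksonGroups

/-!
A simple group of order 244823040: the local data at five from the rows at seven.
-/

set_option linter.unusedSectionVars false
set_option linter.style.haveILetI false

namespace Cfsg.Agent.M24Order

open Cfsg Cfsg.Agent.Char Cfsg.Agent.Blocks Cfsg.Agent.CCSylow Cfsg.Agent.DefOne
open Cfsg.Agent.M23Order (Rows)
open Cfsg.Agent.M24Uniq (Locals)

universe u

/-- An element of order six of a group of order twelve has a central cube. -/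
theorem central_cube {W : Type u} [Group W] [Finite W] (hW : Nat.card W = 12) {g : W} (hg : orderOf g = 6) :
    orderOf (g ^ 3) = 2 ∧ ∀ v : W, g ^ 3 * v = v * g ^ 3 := by
  have h2 : orderOf (g ^ 3) = 2 := by rw [orderOf_pow_of_dvd (by norm_num) (by rw [hg]; norm_num), hg]
  haveI : (Subgroup.zpowers g).Normal := Subgroup.normal_of_index_eq_two (by
    have h := (Subgroup.zpowers g).index_mul_card
    rw [Nat.card_zpowers, hg, hW] at h
    omega)
  refine ⟨h2, fun v => ?_⟩
  obtain ⟨j, hj⟩ := Subgroup.mem_zpowers_iff.1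
    (Subgroup.Normal.conj_mem (inferInstance : (Subgroup.zpowers g).Normal) g (Subgroup.mem_zpowers g) v)
  have h3 : v * g ^ 3 * v⁻¹ = (g ^ 3) ^ j := by
    rw [← conj_pow, ← hj, ← zpow_natCast, ← zpow_natCast, ← zpow_mul, ← zpow_mul, mul_comm]
  rw [← zpow_mod_orderOf, h2] at h3
  rcases Int.emod_two_eq_zero_or_one j with e | e
  · simp only [Nat.cast_ofNat, e, zpow_zero, conj_eq_one_iff] at h3
    rw [h3, orderOf_one] at h2
    norm_num at h2
  · simp only [Nat.cast_ofNat, e, zpow_one] at h3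
    exact (mul_inv_eq_iff_eq_mul.1 h3).symm

set_option maxRecDepth 20000 in
theorem alt_four_two :
    (Finset.univ.filter fun x : alternatingGroup (Fin 4) => x ^ 2 = 1 ∧ x ≠ 1).card = 3 := by decide +kernel

set_option maxRecDepth 20000 in
theorem alt_four_three :
    (Finset.univ.filter fun x : alternatingGroup (Fin 4) => x ^ 3 = 1 ∧ x ≠ 1).card = 8 := by decide +kernel

/-- The elements of prime order of a group of order twelve without elements of order six. -/
theorem counts_twelve {W : Type u} [Group W] [Finite W] (hW : Nat.card W = 12) (h6 : ∀ g : W, orderOf g ≠ 6) :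
    Nat.card {x : W // orderOf x = 2} = 3 ∧ Nat.card {x : W // orderOf x = 3} = 8 := by
  classical
  obtain ⟨e⟩ := Dickson.equiv_A4 hW h6
  have key : ∀ q : ℕ, [Fact q.Prime] → Nat.card {x : W // orderOf x = q} =
      (Finset.univ.filter fun x : alternatingGroup (Fin 4) => x ^ q = 1 ∧ x ≠ 1).card := by
    intro q _
    rw [← Fintype.card_subtype, ← Nat.card_eq_fintype_card]
    refine Nat.card_congr (e.toEquiv.subtypeEquiv fun x => ?_)
    rw [← orderOf_eq_prime_iff]
    exact ⟨fun h => (e.orderOf_eq x).trans h, fun h => (e.orderOf_eq x).symm.trans h⟩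
  haveI : Fact (Nat.Prime 2) := ⟨Nat.prime_two⟩
  haveI : Fact (Nat.Prime 3) := ⟨Nat.prime_three⟩
  exact ⟨(key 2).trans alt_four_two, (key 3).trans alt_four_three⟩

variable {G : Type u} [Group G] [Fintype G]

/-- A central involution of the complement gives one fixed by the normalizer. -/
theorem exists_fixed_of_central [Fact (Nat.Prime 5)] {P : Sylow 5 G} {V : Subgroup G}
    (K : Conf 5 (P : Subgroup G) V (Subgroup.normalizer ((P : Subgroup G) : Set G)) 4)
    {i₀ : G} (hi : i₀ ∈ V) (hio : orderOf i₀ = 2) (hcen : ∀ v ∈ V, i₀ * v = v * i₀) :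
    ∃ i ∈ V, orderOf i = 2 ∧
      Subgroup.normalizer ((P : Subgroup G) : Set G) ≤ Subgroup.centralizer ({i} : Set G) := by
  classical
  haveI : Fact (Nat.Prime 2) := ⟨Nat.prime_two⟩
  set N := Subgroup.normalizer ((P : Subgroup G) : Set G)
  let Z : Subgroup G :=
    { carrier := {x | x ∈ V ∧ x * x = 1 ∧ ∀ v ∈ V, x * v = v * x}
      one_mem' := ⟨V.one_mem, one_mul 1, fun v _ => by rw [one_mul, mul_one]⟩
      mul_mem' := fun {x y} hx hy => ⟨V.mul_mem hx.1 hy.1,
        by rw [mul_assoc, ← mul_assoc y, hy.2.2 x hx.1, mul_assoc x, hy.2.1, mul_one, hx.2.1],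
        fun v hv => by rw [mul_assoc, hy.2.2 v hv, ← mul_assoc, hx.2.2 v hv, mul_assoc]⟩
      inv_mem' := fun {x} hx => by
        rw [show x⁻¹ = x from inv_eq_of_mul_eq_one_right hx.2.1]
        exact hx }
  have hmem : ∀ n : N, ∀ x : Z, (n : G) * x * (n : G)⁻¹ ∈ Z := fun n x =>
    ⟨K.D.hNV _ n.2 _ x.2.1, by rw [conj_mul, x.2.2.1, mul_one, mul_inv_cancel], fun v hv => by
      have h := x.2.2.2 _ (by simpa using K.D.hNV _ (inv_mem n.2) _ hv : (n : G)⁻¹ * v * n ∈ V)
      calc (n : G) * x * (n : G)⁻¹ * v = n * (x * ((n : G)⁻¹ * v * n)) * (n : G)⁻¹ := by group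
        _ = n * ((n : G)⁻¹ * v * n * x) * (n : G)⁻¹ := by rw [h]
        _ = v * ((n : G) * x * (n : G)⁻¹) := by group⟩
  letI : MulAction N Z :=
    { smul := fun n x => ⟨(n : G) * x * (n : G)⁻¹, hmem n x⟩
      one_smul := fun x => Subtype.ext (show ((1 : N) : G) * x * ((1 : N) : G)⁻¹ = x by simp)
      mul_smul := fun m n x => Subtype.ext (show ((m * n : N) : G) * x * ((m * n : N) : G)⁻¹ =
        (m : G) * ((n : G) * x * (n : G)⁻¹) * (m : G)⁻¹ by simp [mul_assoc]) }
  set φ := MulAction.toPermHom N Z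
  have hker : (Subgroup.centralizer ((P : Subgroup G) : Set G)).subgroupOf N ≤ φ.ker := by
    intro n hn
    rw [MonoidHom.mem_ker]
    refine Equiv.ext fun x => Subtype.ext ?_
    obtain ⟨q, hq, v, hv, hqv⟩ := (K.hC _).1 (Subgroup.mem_subgroupOf.1 hn)
    change (n : G) * x * (n : G)⁻¹ = x
    rw [mul_inv_eq_iff_eq_mul, ← hqv, ← mul_assoc, ← K.D.pv q hq _ x.2.1, mul_assoc, ← x.2.2.2 v hv, mul_assoc]
  have hp2 : IsPGroup 2 φ.range := IsPGroup.of_card_dvd_pow (n := 2) (by
    rw [← Subgroup.index_ker]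
    exact (Subgroup.index_dvd_of_le hker).trans (dvd_of_eq K.D.he))
  have h2 : 2 ∣ Nat.card Z := hio ▸ Subgroup.orderOf_dvd_natCard Z
    (show i₀ ∈ Z from ⟨hi, by rw [← pow_two, ← hio, pow_orderOf_eq_one], hcen⟩)
  obtain ⟨x, hx, hx1⟩ := hp2.exists_fixed_point_of_prime_dvd_card_of_fixed_point Z h2
    (a := (1 : Z)) (by
      rintro ⟨σ, n, rfl⟩
      exact Subtype.ext (show (n : G) * 1 * (n : G)⁻¹ = 1 by simp))
  refine ⟨x, x.2.1, orderOf_eq_prime (by rw [pow_two]; exact x.2.2.1)
    (fun h => hx1 (Subtype.ext h).symm), fun n hn => ?_⟩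
  have h := congrArg Subtype.val (hx ⟨φ ⟨n, hn⟩, ⟨n, hn⟩, rfl⟩)
  change n * (x : G) * n⁻¹ = x at h
  exact Subgroup.mem_centralizer_singleton_iff.2 (mul_inv_eq_iff_eq_mul.1 h)

/-- The elements of prime order of the complement at five. -/
theorem five_counts (L : Locals G) [Fact (Nat.Prime 5)] [Fact (Nat.Prime 7)]
    {P : Sylow 5 G} {V : Subgroup G}
    (K : Conf 5 (P : Subgroup G) V (Subgroup.normalizer ((P : Subgroup G) : Set G)) 4)
    [Fintype (P : Subgroup G)] [Fintype V] [Fintype (Subgroup.normalizer ((P : Subgroup G) : Set G))]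
    [Fintype ((P : Subgroup G) →* ℂˣ)] {M : Ideal AlgInt} [M.IsPrime] (hM : IsPModular 5 M)
    {S : Finset (IrrCharacter G)} {c : IrrCharacter G → ℤ} {t : IrrCharacter G}
    (R : Rows 5 4 1 (P : Subgroup G) V M S c t) {P' : Sylow 7 G} {V' : Subgroup G}
    (K' : Conf 7 (P' : Subgroup G) V' (Subgroup.normalizer ((P' : Subgroup G) : Set G)) 3)
    [Fintype (P' : Subgroup G)] [Fintype V'] [Fintype (Subgroup.normalizer ((P' : Subgroup G) : Set G))]
    [Fintype ((P' : Subgroup G) →* ℂˣ)] {M' : Ideal AlgInt} [M'.IsPrime] (hM' : IsPModular 7 M')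
    {S' : Finset (IrrCharacter G)} {c' : IrrCharacter G → ℤ} {t' : IrrCharacter G}
    (R' : Rows 7 3 2 (P' : Subgroup G) V' M' S' c' t') {χu χb : IrrCharacter G}
    (hu : charDegree (χu : G → ℂ) = 1035) (hb : charDegree (χb : G → ℂ) = 2024)
    (hw : charDegree (t' : G → ℂ) = 990)
    (hS' : ∀ h : IrrCharacter G → ℂ, ∑ χ ∈ S', (c' χ : ℂ) * h χ = -h χu + h χb - h t') :
    Nat.card {v : V // orderOf v = 2} = 3 ∧ Nat.card {v : V // orderOf v = 3} = 8 := by
  have hV := comp_twelve L K hM R K' hM' R' hu hb hw hS'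
  refine counts_twelve hV fun g hg => ?_
  obtain ⟨h2, hcen⟩ := central_cube hV hg
  obtain ⟨i, hi, hio, hN⟩ := exists_fixed_of_central K (g ^ 3).2 (by rw [Subgroup.orderOf_coe, h2])
    fun v hv => congrArg Subtype.val (hcen ⟨v, hv⟩)
  exact no_fixed L K hM R K' hM' R' hu hb hw hS' hi hio hN

/-- The local data at five from the rows at seven. -/
theorem five_locals_of_seven (L : Locals G) [Fact (Nat.Prime 7)] {P' : Sylow 7 G} {V' : Subgroup G}
    (K' : Conf 7 (P' : Subgroup G) V' (Subgroup.normalizer ((P' : Subgroup G) : Set G)) 3)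
    [Fintype (P' : Subgroup G)] [Fintype V'] [Fintype (Subgroup.normalizer ((P' : Subgroup G) : Set G))]
    [Fintype ((P' : Subgroup G) →* ℂˣ)] {M' : Ideal AlgInt} [M'.IsPrime] (hM' : IsPModular 7 M')
    {S' : Finset (IrrCharacter G)} {c' : IrrCharacter G → ℤ} {t' : IrrCharacter G}
    (R' : Rows 7 3 2 (P' : Subgroup G) V' M' S' c' t') {χu χb : IrrCharacter G}
    (hu : charDegree (χu : G → ℂ) = 1035) (hb : charDegree (χb : G → ℂ) = 2024)
    (hw : charDegree (t' : G → ℂ) = 990)
    (hS' : ∀ h : IrrCharacter G → ℂ, ∑ χ ∈ S', (c' χ : ℂ) * h χ = -h χu + h χb - h t') :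
    (∀ x : G, orderOf x = 5 → Nat.card (Subgroup.centralizer ({x} : Set G)) = 60) ∧
      (∀ P : Sylow 5 G, Nat.card (Subgroup.normalizer ((P : Subgroup G) : Set G)) = 240) ∧
      (∀ x : G, orderOf x = 5 →
        Nat.card {g : G // g ∈ Subgroup.centralizer ({x} : Set G) ∧ orderOf g = 2} = 3 ∧
        Nat.card {g : G // g ∈ Subgroup.centralizer ({x} : Set G) ∧ orderOf g = 3} = 8) := by
  classical
  haveI : Fact (Nat.Prime 5) := ⟨by norm_num⟩
  obtain ⟨P, V, _, K, -⟩ := five_conf L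
  haveI : Fintype (P : Subgroup G) := Fintype.ofFinite _
  haveI : Fintype V := Fintype.ofFinite _
  haveI : Fintype (Subgroup.normalizer ((P : Subgroup G) : Set G)) := Fintype.ofFinite _
  haveI : Fintype ((P : Subgroup G) →* ℂˣ) := Fintype.ofFinite _
  obtain ⟨M, hM⟩ := exists_isPModular_witness 5
  haveI := IsPModular.isPrime hM
  obtain ⟨k, S, c, t, R⟩ := M23Order.exists_rows hM (by norm_num) K
  obtain rfl : k = 1 := by have := R.ek; omega
  have hV := comp_twelve L K hM R K' hM' R' hu hb hw hS'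
  have hcnt := five_counts L K hM R K' hM' R' hu hb hw hS'
  refine ⟨fun x hx => by rw [M22Uniq.cent_card K hx, hV], fun Q => ?_, fun x hx => ?_⟩
  · have h1 : (Subgroup.normalizer ((P : Subgroup G) : Set G)).index =
        (Subgroup.normalizer ((Q : Subgroup G) : Set G)).index :=
      P.card_eq_index_normalizer.symm.trans Q.card_eq_index_normalizer
    have h2 := (Subgroup.normalizer ((P : Subgroup G) : Set G)).index_mul_card
    have h3 := (Subgroup.normalizer ((Q : Subgroup G) : Set G)).index_mul_card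
    rw [K.D.hcard, K.hP, hV] at h2
    rw [← h1, ← h2] at h3
    exact Nat.eq_of_mul_eq_mul_left (Nat.pos_of_ne_zero Subgroup.index_ne_zero_of_finite) h3
  obtain ⟨y, hy, hy1, hxy⟩ := M22Uniq.exists_conj_mem P K.hP hx
  obtain ⟨g, hg⟩ := isConj_iff.1 hxy
  have move : ∀ q : ℕ, Nat.card {h : G // h ∈ Subgroup.centralizer ({x} : Set G) ∧ orderOf h = q} =
      Nat.card {h : G // h ∈ Subgroup.centralizer ({y} : Set G) ∧ orderOf h = q} := fun q =>
    Nat.card_congr ((MulAut.conj g).toEquiv.subtypeEquiv fun h => by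
      rw [← hg]
      simp only [Subgroup.mem_centralizer_singleton_iff, MulEquiv.toEquiv_eq_coe, MulEquiv.coe_toEquiv,
        MulEquiv.orderOf_eq]
      rw [← MulAut.conj_apply, ← map_mul, ← map_mul, (MulAut.conj g).injective.eq_iff])
  rw [move, move, M24Uniq.card_order_eq K hy hy1 (by norm_num), M24Uniq.card_order_eq K hy hy1 (by norm_num)]
  exact hcnt

end Cfsg.Agent.M24Order
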