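import Cfsg.Agent.Lib.M24Order.AbelianSound
import Cfsg.Agent.Lib.Blocks.Reynolds
import Cfsg.Agent.Lib.M24Order.FiveLocals
import Cfsg.Agent.Lib.M24Uniq.SmallOfFamilies
import Cfsg.Agent.Lib.M24Uniq.FiveFamilies

/-!
A simple group of order 244823040: the complement at seven is not abelian.
-/

set_option linter.unusedSectionVars false
set_option linter.style.haveILetI false

namespace Cfsg.Agent.M24Order

open Cfsg Cfsg.Agent.Char Cfsg.Agent.Blocks Cfsg.Agent.CCSylow Cfsg.Agent.DefOne
open Cfsg.Agent.M23Order (Rows)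
open Cfsg.Agent.M24Uniq (Locals Fam)
open Cfsg.Agent.M23Uniq (dg degMS)
open Cfsg.Agent.M24Join (pm fM pN p5 sM gM Fam7 Rel rowsU rowsP)

open scoped ComplexConjugate

universe u

/-- An abelian group of order six is generated by one element. -/
theorem gen_six {V : Type u} [Group V] [Fintype V] (hV : Nat.card V = 6) (hc : ∀ a b : V, a * b = b * a) :
    ∃ g : V, orderOf g = 6 ∧ ∀ v : V, ∃ k : ℕ, g ^ k = v := by
  haveI : Fact (Nat.Prime 2) := ⟨Nat.prime_two⟩
  haveI : Fact (Nat.Prime 3) := ⟨Nat.prime_three⟩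
  obtain ⟨x, hx⟩ := exists_prime_orderOf_dvd_card' (G := V) 2 (by rw [hV]; norm_num)
  obtain ⟨y, hy⟩ := exists_prime_orderOf_dvd_card' (G := V) 3 (by rw [hV]; norm_num)
  have ho : orderOf (x * y) = 6 := by
    rw [(show Commute x y from hc x y).orderOf_mul_eq_mul_orderOf_of_coprime (by rw [hx, hy]; norm_num),
      hx, hy]
  refine ⟨x * y, ho, fun v => ?_⟩
  have hv : v ∈ Subgroup.zpowers (x * y) := by
    rw [Subgroup.eq_top_of_card_eq _ (by rw [Nat.card_zpowers, ho, hV] :
      Nat.card (Subgroup.zpowers (x * y)) = Nat.card V)]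
    exact Subgroup.mem_top v
  obtain ⟨k, hk⟩ := Submonoid.mem_powers_iff v (x * y) |>.1
    ((mem_powers_iff_mem_zpowers (x := x * y)).2 hv)
  exact ⟨k, hk⟩

/-- Two real linear characters other than the trivial one of an abelian group of order six coincide. -/
theorem real_unique {V : Type u} [Group V] [Fintype V] (hc : ∀ a b : V, a * b = b * a) {g : V}
    (hg : orderOf g = 6) (hgen : ∀ v : V, ∃ k : ℕ, g ^ k = v) {one x y : IrrCharacter V}
    (hone : ∀ v, (one : V → ℂ) v = 1) (hx : galT starRingAut x = x) (hy : galT starRingAut y = y)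
    (hx1 : x ≠ one) (hy1 : y ≠ one) : x = y := by
  have key : ∀ z : IrrCharacter V, galT starRingAut z = z → z ≠ one →
      ∀ k : ℕ, (z : V → ℂ) (g ^ k) = (-1) ^ k := by
    intro z hz hz1
    obtain ⟨l, hl⟩ := exists_hom_of_degree_one (IsIrrCharacter.isCharacter z.2) (by
      rw [irr_one_eq_charDegree, charDegree_eq_one_of_comm hc z, Nat.cast_one])
    have hpow : ∀ k : ℕ, (z : V → ℂ) (g ^ k) = ((l g : ℂˣ) : ℂ) ^ k := fun k => by
      rw [hl]
      show ((l (g ^ k) : ℂˣ) : ℂ) = _
      rw [map_pow, Units.val_pow_eq_pow_val]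
    have hreal : conj ((l g : ℂˣ) : ℂ) = (l g : ℂˣ) := by
      have h := congrFun (congrArg Subtype.val hz) g
      rw [galT_apply, hl] at h
      exact h
    have h6 : ((l g : ℂˣ) : ℂ) ^ 6 = 1 := by
      rw [← Units.val_pow_eq_pow_val, ← map_pow, ← hg, pow_orderOf_eq_one, map_one, Units.val_one]
    obtain ⟨r, hr⟩ := Complex.conj_eq_iff_real.1 hreal
    rw [hr, ← Complex.ofReal_pow] at h6
    have hr6 : (r ^ 2) ^ 3 = 1 := by rw [← pow_mul]; exact_mod_cast h6
    rcases sq_eq_one_iff.1 ((pow_eq_one_iff_of_nonneg (sq_nonneg r) (by norm_num)).1 hr6) with h | h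
    · refine absurd (Subtype.ext (funext fun v => ?_)) hz1
      obtain ⟨k, rfl⟩ := hgen v
      rw [hpow, hr, h, hone]
      simp
    · intro k
      rw [hpow, hr, h]
      simp
  refine Subtype.ext (funext fun v => ?_)
  obtain ⟨k, rfl⟩ := hgen v
  rw [key x hx hx1, key y hy hy1]

/-- The characters of an abelian group of order six: two conjugate pairs and two more. -/
theorem chars_abelian_six {V : Type u} [Group V] [Fintype V] (hV : Nat.card V = 6)
    (hc : ∀ a b : V, a * b = b * a) {one : IrrCharacter V} (hone : ∀ v, (one : V → ℂ) v = 1) :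
    ∃ a b c : IrrCharacter V,
      [one, a, galT starRingAut a, c, galT starRingAut c, b].Nodup ∧
      ∀ x, x ∈ [one, a, galT starRingAut a, c, galT starRingAut c, b] := by
  classical
  obtain ⟨g, hg, hgen⟩ := gen_six hV hc
  set σ : IrrCharacter V → IrrCharacter V := galT starRingAut
  have hσσ : ∀ x, σ (σ x) = x := M24Uniq.galT_star_star
  have hσinj : Function.Injective σ := galT_injective _
  have hσ1 : σ one = one := Subtype.ext (funext fun v => by rw [galT_apply, hone]; exact map_one _)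
  have hcard : (Finset.univ : Finset (IrrCharacter V)).card = 6 := by
    have h := Cfsg.Agent.CharX.sum_deg_sq (G := V)
    simp only [charDegree_eq_one_of_comm hc, one_pow] at h
    rw [hV] at h
    simpa using h
  have free : ∀ s : Finset (IrrCharacter V), one ∉ s → 1 < s.card → ∃ x ∈ s, σ x ≠ x := by
    intro s h1 h2
    by_contra hall
    push Not at hall
    obtain ⟨x, hx, y, hy, hne⟩ := Finset.one_lt_card.1 h2
    exact hne (real_unique hc hg hgen hone (hall x hx) (hall y hy) (fun e => h1 (e ▸ hx))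
      fun e => h1 (e ▸ hy))
  set E := (Finset.univ : Finset (IrrCharacter V)).erase one with hE
  have hE5 : E.card = 5 := by rw [hE, Finset.card_erase_of_mem (Finset.mem_univ _), hcard]
  obtain ⟨a, ha, ha'⟩ := free E (Finset.notMem_erase _ _) (by omega)
  have ha1 : a ≠ one := Finset.ne_of_mem_erase ha
  have hsa1 : σ a ≠ one := fun h => ha1 (hσinj (h.trans hσ1.symm))
  have haE : σ a ∈ E.erase a := Finset.mem_erase.2 ⟨ha', Finset.mem_erase.2 ⟨hsa1, Finset.mem_univ _⟩⟩
  set E' := (E.erase a).erase (σ a) with hE'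
  have hE3 : E'.card = 3 := by
    rw [hE', Finset.card_erase_of_mem haE, Finset.card_erase_of_mem ha, hE5]
  obtain ⟨c, hc', hcne⟩ := free E'
    (fun h => Finset.notMem_erase _ _ (Finset.mem_of_mem_erase (Finset.mem_of_mem_erase h))) (by omega)
  obtain ⟨hcsa, hca, hc1, -⟩ : c ≠ σ a ∧ c ≠ a ∧ c ≠ one ∧ c ∈ Finset.univ := by
    simpa [hE', hE] using hc'
  have hsc1 : σ c ≠ one := fun h => hc1 (hσinj (h.trans hσ1.symm))
  have hsca : σ c ≠ a := fun h => hcsa (by rw [← h, hσσ])
  have hscsa : σ c ≠ σ a := fun h => hca (hσinj h)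
  have hcE : σ c ∈ E'.erase c := by simp [hE', hE, hcne, hsc1, hsca, hscsa]
  obtain ⟨b, hb⟩ := Finset.card_eq_one.1 (show ((E'.erase c).erase (σ c)).card = 1 by
    rw [Finset.card_erase_of_mem hcE, Finset.card_erase_of_mem hc', hE3])
  obtain ⟨hbsc, hbc, hbsa, hba, hb1⟩ : b ≠ σ c ∧ b ≠ c ∧ b ≠ σ a ∧ b ≠ a ∧ b ≠ one := by
    have : b ∈ (E'.erase c).erase (σ c) := by rw [hb]; exact Finset.mem_singleton_self b
    simpa [hE', hE] using this
  refine ⟨a, b, c, ?_, fun x => ?_⟩
  · simp [ha1.symm, hsa1.symm, hc1.symm, hsc1.symm, hb1.symm, ha'.symm, hca.symm, hsca.symm, hba.symm,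
      hcsa.symm, hscsa.symm, hbsa.symm, hcne.symm, hbc.symm, hbsc.symm]
  · by_contra hx
    simp only [List.mem_cons, List.not_mem_nil, or_false, not_or] at hx
    obtain ⟨x1, x2, x3, x4, x5, x6⟩ := hx
    refine x6 (Finset.mem_singleton.1 (hb ▸ ?_))
    simp [hE', hE, x1, x2, x3, x4, x5]

variable {G : Type u} [Group G] [Fintype G]

/-- An abelian complement of order six with three automorphisms is centralized by the normalizer. -/
theorem centralized_six {p : ℕ} {P V N : Subgroup G} (K : Conf p P V N 3) (hV : Nat.card V = 6)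
    (hc : ∀ a b : V, a * b = b * a) {n : G} (hn : n ∈ N) {v : G} (hv : v ∈ V) : n * v * n⁻¹ = v := by
  classical
  haveI : Fintype V := Fintype.ofFinite _
  obtain ⟨⟨g, hg⟩, ho', hgen⟩ := gen_six hV hc
  have ho : orderOf g = 6 := by rwa [Subgroup.orderOf_mk] at ho'
  have hpow : ∀ {x : G}, x ∈ V → ∃ k : ℕ, g ^ k = x := fun {x} hx =>
    (hgen ⟨x, hx⟩).imp fun k hk => by simpa using congrArg Subtype.val hk
  obtain ⟨j, hj⟩ := hpow (K.D.hNV n hn g hg)
  suffices h : n * g * n⁻¹ = g by
    obtain ⟨k, rfl⟩ := hpow hv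
    rw [← conj_pow, h]
  rw [← pow_mod_orderOf, ho] at hj
  have ho2 : orderOf (g ^ (j % 6)) = 6 := by
    rw [hj, ← MulAut.conj_apply, MulEquiv.orderOf_eq, ho]
  rw [orderOf_pow, ho] at ho2
  have hj6 : j % 6 < 6 := Nat.mod_lt _ (by norm_num)
  interval_cases hj' : j % 6
  all_goals first | (norm_num at ho2; done) | skip
  · rw [← hj, pow_one]
  exfalso
  have hinv : n * g * n⁻¹ = g⁻¹ := by
    rw [← hj]
    refine eq_inv_of_mul_eq_one_left ?_
    rw [← pow_succ, show 5 + 1 = orderOf g by rw [ho], pow_orderOf_eq_one]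
  have h3 : n ^ 3 * g * (n ^ 3)⁻¹ = g⁻¹ := by
    calc n ^ 3 * g * (n ^ 3)⁻¹ = n * (n * (n * g * n⁻¹) * n⁻¹) * n⁻¹ := by
          simp only [pow_succ, pow_zero, one_mul]; group
      _ = n * (n * g⁻¹ * n⁻¹) * n⁻¹ := by rw [hinv]
      _ = n * g * n⁻¹ := by conv_lhs => rw [← conj_inv, hinv, inv_inv]
      _ = g⁻¹ := hinv
  haveI : ((Subgroup.centralizer (P : Set G)).subgroupOf N).Normal := ⟨fun a ha b => by
    rw [Subgroup.mem_subgroupOf, Subgroup.mem_centralizer_iff] at ha ⊢
    intro q hq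
    have hb : (b : G)⁻¹ * q * b ∈ P := by
      have := K.D.hNP _ (inv_mem b.2) q hq
      simpa using this
    have := ha _ hb
    simp only [Subgroup.coe_mul, Subgroup.coe_inv]
    calc q * ((b : G) * a * (b : G)⁻¹) = b * ((b : G)⁻¹ * q * b * a) * (b : G)⁻¹ := by group
      _ = b * (a * ((b : G)⁻¹ * q * b)) * (b : G)⁻¹ := by rw [this]
      _ = b * a * (b : G)⁻¹ * q := by group⟩
  have h4 := Subgroup.pow_index_mem ((Subgroup.centralizer (P : Set G)).subgroupOf N) (⟨n, hn⟩ : N)
  rw [K.D.he, Subgroup.mem_subgroupOf] at h4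
  obtain ⟨q, hq, w, hw, hqw⟩ := (K.hC _).1 h4
  simp only [SubmonoidClass.coe_pow] at hqw
  obtain ⟨i, rfl⟩ := hpow hw
  have hcomm : Commute (n ^ 3) g := by
    rw [← hqw]
    exact Commute.mul_left (K.D.pv q hq g hg) ((Commute.refl g).pow_left i)
  rw [hcomm.eq, mul_inv_cancel_right] at h3
  have h2 : g ^ 2 = 1 := by
    rw [pow_two]; nth_rewrite 1 [h3]; exact inv_mul_cancel g
  have := orderOf_dvd_of_pow_eq_one h2
  rw [ho] at this
  norm_num at this

section

variable (L : Locals G) [Fact (Nat.Prime 5)] [Fact (Nat.Prime 7)]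
  {P : Sylow 5 G} {V : Subgroup G}
  (K : Conf 5 (P : Subgroup G) V (Subgroup.normalizer ((P : Subgroup G) : Set G)) 4)
  [Fintype (P : Subgroup G)] [Fintype V] [Fintype (Subgroup.normalizer ((P : Subgroup G) : Set G))]
  [Fintype ((P : Subgroup G) →* ℂˣ)] {M : Ideal AlgInt} [M.IsPrime] (hM : IsPModular 5 M)
  {S : Finset (IrrCharacter G)} {c : IrrCharacter G → ℤ} {t : IrrCharacter G}
  (R : Rows 5 4 1 (P : Subgroup G) V M S c t)
  {P' : Sylow 7 G} {V' : Subgroup G}
  (K' : Conf 7 (P' : Subgroup G) V' (Subgroup.normalizer ((P' : Subgroup G) : Set G)) 3)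
  [Fintype (P' : Subgroup G)] [Fintype V'] [Fintype (Subgroup.normalizer ((P' : Subgroup G) : Set G))]
  [Fintype ((P' : Subgroup G) →* ℂˣ)] {M' : Ideal AlgInt} [M'.IsPrime] (hM' : IsPModular 7 M')
  {S' : Finset (IrrCharacter G)} {c' : IrrCharacter G → ℤ} {t' : IrrCharacter G}
  (R' : Rows 7 3 2 (P' : Subgroup G) V' M' S' c' t')
  {χu χb : IrrCharacter G}
  (hu : charDegree (χu : G → ℂ) = 1035) (hb : charDegree (χb : G → ℂ) = 2024)
  (hw : charDegree (t' : G → ℂ) = 990)
  (hS' : ∀ h : IrrCharacter G → ℂ, ∑ χ ∈ S', (c' χ : ℂ) * h χ = -h χu + h χb - h t')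

include L K hM R K' hM' R' hu hb hw hS'

omit L K hM R K' hM' in
/-- The members of the row at seven. -/
theorem row_mem (χ : IrrCharacter G) : χ ∈ S' ↔ χ = χu ∨ χ = χb ∨ χ = t' := by
  classical
  have ne : ∀ {ψ φ : IrrCharacter G} {m n : ℕ}, charDegree (ψ : G → ℂ) = m → charDegree (φ : G → ℂ) = n →
      m ≠ n → ψ ≠ φ := fun hm hn hne e => hne (hm.symm.trans (e ▸ hn))
  have hub := ne hu hb (by norm_num)
  have huw := ne hu hw (by norm_num)
  have hbw := ne hb hw (by norm_num)
  have hin : ({χu, χb, t'} : Finset _) ⊆ S' := by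
    intro ψ hψ
    by_contra hn
    have h := hS' fun φ => if φ = ψ then 1 else 0
    simp only [mul_ite, mul_one, mul_zero, Finset.sum_ite_eq', if_neg hn] at h
    simp only [Finset.mem_insert, Finset.mem_singleton] at hψ
    rcases hψ with rfl | rfl | rfl
    · simp [hub.symm, huw.symm] at h
    · simp [hub, hbw.symm] at h
    · exact hn R'.mem_t
  have h := Finset.eq_of_subset_of_card_le hin (by
    rw [R'.card, Finset.card_insert_of_notMem (by simp [hub, huw]),
      Finset.card_insert_of_notMem (by simp [hbw]), Finset.card_singleton])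
  rw [← h]
  simp

/-- The complement at seven is not abelian. -/
theorem not_comm : ¬ IsMulCommutative V' := by
  classical
  intro hab
  have hc : ∀ a b : V', a * b = b * a := fun a b => hab.is_comm.comm a b
  have hV := seven_comp L K hM R K' hM' R' hu hb hw hS'
  have hV5 := comp_twelve L K hM R K' hM' R' hu hb hw hS'
  obtain ⟨h2, h3⟩ := five_counts L K hM R K' hM' R' hu hb hw hS'
  obtain ⟨-, hrow⟩ := common_row L K hM R K' hM' R' hu hb hw hS'
  haveI := L.simple
  -- the families at seven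
  have horb : ∀ b : IrrCharacter V', (orbB K' b).card = 1 := fun b => by
    refine Finset.card_eq_one.2 ⟨b, Finset.eq_singleton_iff_unique_mem.2
      ⟨(mem_orbB K').2 ⟨1, bT_one K' b⟩, fun b' hb' => ?_⟩⟩
    obtain ⟨w, rfl⟩ := (mem_orbB K').1 hb'
    exact Subtype.ext (funext fun v => congrArg (b : V' → ℂ)
      (Subtype.ext (centralized_six K' hV hc w.2 v.2)))
  have hdeg : ∀ b : IrrCharacter V', charDegree (b : V' → ℂ) = 1 := fun b => charDegree_eq_one_of_comm hc b
  choose X Y δ sg F A hsX hsY using fun b : IrrCharacter V' =>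
    M24Uniq.exists_fam hM' K' b (o := 1) (eb := 3) (m := 2) (a := 1) (c := 4) (horb b) (hdeg b)
      rfl rfl rfl rfl (by norm_num) rfl (by norm_num) (by norm_num)
  set U : IrrCharacter V' → Multiset (IrrCharacter G) := fun b => (X b).val + (Y b).val with hU
  have hmem : ∀ b χ, χ ∈ U b ↔ InR K' χ b := fun b => M24Uniq.mem_union_iff K' (F b)
  have hdisj : ∀ {b b' : IrrCharacter V'}, b ≠ b' → Disjoint (U b) (U b') := fun {b b'} hne =>
    Multiset.disjoint_left.2 fun h h' => hne (Finset.card_le_one.1 (horb b).le _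
      ((mem_orbB K').2 ⟨1, bT_one K' b⟩) _ (M24Uniq.orb_of_inR hM' K' ((hmem _ _).1 h) ((hmem _ _).1 h')))
  obtain ⟨a, b, d, hnd, hall⟩ := chars_abelian_six hV hc (one := trivB V') fun v => rfl
  have hmap : ∀ x : IrrCharacter V', (U (galT starRingAut x)).map (fun χ => dg χ) =
      (U x).map fun χ => dg χ := fun x => by
    have heq : U (galT starRingAut x) = (U x).map (galT starRingAut) := by
      refine (Multiset.Nodup.ext (M24Uniq.nodup_union K' (F _))
        ((M24Uniq.nodup_union K' (F x)).map (galT_injective _))).2 fun χ => ?_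
      rw [hmem, Multiset.mem_map]
      constructor
      · intro h
        refine ⟨galT starRingAut χ, (hmem _ _).2 ?_, M24Uniq.galT_star_star χ⟩
        have h' := M24Uniq.inR_conj K' h
        rwa [M24Uniq.galT_star_star] at h'
      · rintro ⟨ψ, hψ, rfl⟩
        exact M24Uniq.inR_conj K' ((hmem _ _).1 hψ)
    rw [heq, Multiset.map_map]
    refine Multiset.map_congr rfl fun χ _ => ?_
    have h := galT_one starRingAut χ
    rw [irr_one_eq_charDegree, irr_one_eq_charDegree] at h
    exact_mod_cast h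
  have hfam : ∀ x : IrrCharacter V', ∃ (xs : Multiset ℕ) (y : ℕ), Fam7 1 4 3 0 xs y ∧
      (U x).map (fun χ => dg χ) = gM xs y := fun x => by
    obtain ⟨θ, hθ⟩ := (A x).exists_mem (by norm_num)
    refine ⟨(X x).val.map fun χ => dg χ, dg θ, ⟨by rw [Multiset.card_map]; exact (A x).cardX, (A x).pmX,
      (A x).pmY hθ, ?_⟩, (A x).pair hθ⟩
    rw [zero_add]
    exact (A x).toRel L (by norm_num) (by norm_num) (by norm_num) hθ
  have hone : (U (trivB V')).map (fun χ => dg χ) = 1 ::ₘ (↑pSeven : Multiset ℕ) := by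
    set T := X (trivB V') ∪ Y (trivB V') with hT
    have hblock : ∀ χ, χ ∈ T ↔ χ ∈ principalBlock M' G := fun χ => by
      rw [principal_eq K' hM' (F (trivB V')), hT]
      simp
    have hval : U (trivB V') = T.val := by
      rw [hT, ← Finset.disjUnion_eq_union _ _ (F (trivB V')).disj]
      rfl
    have hT5 : T.card = 5 := by
      rw [hT, Finset.card_union_of_disjoint (F (trivB V')).disj, (A (trivB V')).cardX,
        (A (trivB V')).cardY]
    have hrow' := row_mem R' hu hb hw hS'
    have ne : ∀ {ψ φ : IrrCharacter G} {m n : ℕ}, dg ψ = m → dg φ = n → m ≠ n → ψ ≠ φ :=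
      fun hm hn hne e => hne (hm.symm.trans (e ▸ hn))
    have d1 : dg (principal G) = 1 := M23Uniq.dg_principal
    set W : Finset (IrrCharacter G) := {principal G, χu, χb} with hW
    have hW3 : W.val = principal G ::ₘ χu ::ₘ χb ::ₘ 0 := by
      rw [hW, Finset.insert_val_of_notMem (by simp [ne d1 hu (by norm_num), ne d1 hb (by norm_num)]),
        Finset.insert_val_of_notMem (by simp [ne hu hb (by norm_num)]), Finset.singleton_val,
        Multiset.cons_zero]
    have hWT : W ⊆ T := by
      intro χ hχ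
      simp only [hW, Finset.mem_insert, Finset.mem_singleton] at hχ
      rw [hblock]
      rcases hχ with rfl | rfl | rfl
      · exact principal_mem_principalBlock
      · exact R'.block _ ((hrow' _).2 (Or.inl rfl))
      · exact R'.block _ ((hrow' _).2 (Or.inr (Or.inl rfl)))
    have hrest : ((T \ W).val.map fun χ => dg χ) = Multiset.replicate 2 990 := by
      refine Multiset.eq_replicate.2 ⟨?_, fun m hm => ?_⟩
      · rw [Multiset.card_map, Finset.card_val, Finset.card_sdiff_of_subset hWT, hT5,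
          show W.card = 3 from by rw [← Finset.card_val, hW3]; rfl]
      · obtain ⟨χ, hχ, rfl⟩ := Multiset.mem_map.1 hm
        obtain ⟨hχT, hχW⟩ := Finset.mem_sdiff.1 hχ
        simp only [hW, Finset.mem_insert, Finset.mem_singleton, not_or] at hχW
        rcases R'.cases χ ((hblock χ).1 hχT) with h | h | ⟨σ, -, rfl⟩
        · exact absurd h hχW.1
        · rcases (hrow' χ).1 h with h | h | h
          · exact absurd h hχW.2.1
          · exact absurd h hχW.2.2
          · rw [h]; exact hw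
        · have h := galT_one σ t'
          rw [irr_one_eq_charDegree, irr_one_eq_charDegree] at h
          exact (show dg (galT σ t') = dg t' by exact_mod_cast h).trans hw
    rw [hval, ← Finset.sdiff_union_of_subset hWT, ← Finset.disjUnion_eq_union _ _ Finset.sdiff_disjoint,
      Finset.disjUnion_val, Multiset.map_add, hrest, hW3]
    simp only [Multiset.map_cons, Multiset.map_zero, d1, show dg χu = 1035 from hu, show dg χb = 2024 from hb]
    decide
  have hseven : (U (trivB V') + U a + U (galT starRingAut a) + U d + U (galT starRingAut d) + U b) =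
      ((Finset.univ : Finset (IrrCharacter G)).filter fun χ => ¬ 7 ∣ dg χ).val := by
    refine M24Uniq.union_eq hM' K' ?_ fun χ => ?_
    · simp only [List.nodup_cons, List.mem_cons, List.not_mem_nil, or_false, not_or] at hnd
      obtain ⟨⟨n1, n2, n3, n4, n5⟩, ⟨n6, n7, n8, n9⟩, ⟨n10, n11, n12⟩, ⟨n13, n14⟩, n15, -⟩ := hnd
      simp only [Multiset.nodup_add, Multiset.disjoint_add_left]
      have nd : ∀ x, (U x).Nodup := fun x => M24Uniq.nodup_union K' (F x)
      simp [nd, hdisj n1, hdisj n2, hdisj n3, hdisj n4, hdisj n5, hdisj n6, hdisj n7, hdisj n8, hdisj n9,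
        hdisj n10, hdisj n11, hdisj n12, hdisj n13, hdisj n14, hdisj n15]
    · simp only [Multiset.mem_add, hmem]
      constructor
      · rintro (((((h | h) | h) | h) | h) | h) <;> exact ⟨_, h⟩
      · rintro ⟨x, hx⟩
        have := hall x
        simp only [List.mem_cons, List.not_mem_nil, or_false] at this
        rcases this with rfl | rfl | rfl | rfl | rfl | rfl <;> simp [hx]
  obtain ⟨xa, ya, Fa, ea⟩ := hfam a
  obtain ⟨xb, yb, Fb, eb⟩ := hfam b
  obtain ⟨xc, yc, Fc, ec⟩ := hfam d
  have e7 : fM pN (degMS G) =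
      1 ::ₘ ((↑pSeven : Multiset ℕ) + ((gM xa ya + gM xa ya) + (gM xc yc + gM xc yc) + gM xb yb)) := by
    rw [M24Uniq.fM_degMS hseven fun χ => M24Uniq.pN_iff _, Multiset.map_add, Multiset.map_add,
      Multiset.map_add, Multiset.map_add, Multiset.map_add, hmap, hmap, hone, ea, eb, ec]
    simp only [← Multiset.singleton_add]
    abel
  -- the families at five
  obtain ⟨X₁, Y₁, X₃, Y₃, F₁, F₃, -, hcase, hblock⟩ := M24Uniq.five_families_conf K hM hV5 h2 h3
  obtain ⟨r1, c1, m1⟩ := F₁.single L (by norm_num) (by norm_num) (by norm_num)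
  obtain ⟨r3, c3, m3⟩ := F₃.single L (by norm_num) (by norm_num) (by norm_num)
  have hS : (X₁.val + Y₁.val).map (fun χ => dg χ) = 1 ::ₘ (↑fFive : Multiset ℕ) := by
    have hsub : ∀ χ, χ ∈ insert (principal G) S ↔ χ ∈ X₁ ∨ χ ∈ Y₁ := fun χ => by
      rw [← hblock, Finset.mem_insert]
      refine ⟨?_, R.single rfl χ⟩
      rintro (rfl | h)
      · exact principal_mem_principalBlock
      · exact R.block χ h
    have hle : X₁.val + Y₁.val = (insert (principal G) S).val := by
      symm
      refine Multiset.eq_of_le_of_card_le ((Multiset.le_iff_subset (Finset.nodup _)).2 fun χ hχ =>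
        Multiset.mem_add.2 ((hsub χ).1 hχ)) ?_
      rw [Multiset.card_map] at c1
      rw [c1, Finset.card_val, Finset.card_insert_of_notMem R.ne_one, R.card]
    rw [hle, Finset.insert_val_of_notMem R.ne_one, Multiset.map_cons, M23Uniq.dg_principal]
    exact congrArg _ hrow
  obtain ⟨s1, s2, s3, -⟩ := M24Uniq.stats L
  obtain ⟨b1, b2, b3⟩ := M24Uniq.degMS_basic L
  refine ab_false (D := degMS G) ⟨b1, b2, b3, s1, s2, s3, ⟨xa, ya, xb, yb, xc, yc, Fa, Fb, Fc, e7⟩,
    (X₃.val + Y₃.val).map (fun χ => dg χ), c3, m3, r3, ?_⟩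
  rcases hcase with ⟨X₂, Y₂, F₂, hall5⟩ | ⟨X₂, Y₂, X₄, Y₄, F₂, F₄, h24, hall5⟩
  · obtain ⟨θ₂, hθ₂⟩ := F₂.exists_mem (by norm_num)
    refine Or.inl ⟨X₂.val.map fun χ => dg χ, dg θ₂, by rw [Multiset.card_map]; exact F₂.cardX, F₂.pmX,
      F₂.pmY hθ₂, F₂.toRel L (by norm_num) (by norm_num) (by norm_num) hθ₂, ?_⟩
    rw [M24Uniq.fM_degMS hall5 (fun χ => M24Uniq.p5_iff _), Multiset.map_add, Multiset.map_add,
      F₂.pair hθ₂, hS]
    simp only [← Multiset.singleton_add]
    abel
  · obtain ⟨r2, c2, m2⟩ := F₂.single L (by norm_num) (by norm_num) (by norm_num)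
    refine Or.inr ⟨(X₂.val + Y₂.val).map fun χ => dg χ, c2, m2, r2, ?_⟩
    rw [M24Uniq.fM_degMS hall5 (fun χ => M24Uniq.p5_iff _), Multiset.map_add, Multiset.map_add,
      Multiset.map_add (fun χ : IrrCharacter G => dg χ) (X₂.val + Y₂.val), h24, hS]
    simp only [← Multiset.singleton_add]
    abel

end

end Cfsg.Agent.M24Order
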