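import Cfsg.Agent.Lib.M24Order.AbelianData

/-!
No multiset of degrees allows six families of linear characters at seven.
-/

namespace Cfsg.Agent.M24Order

open Cfsg.Agent.M24Join
open Cfsg.Agent.Golay.Local (allF_iff)

noncomputable section

/-- The properties of the degrees with an abelian complement at seven. -/
structure AbData (D : Multiset ℕ) : Prop where
  pool : ∀ d ∈ D, d ∈ pool
  one : D.count 1 = 1
  sq : (sM D).sq = NN
  x23 : (sM D).x23 = 11
  y23 : (sM D).y23 = 2
  x11 : (sM D).x11 = 11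
  seven : ∃ (xa : Multiset ℕ) (ya : ℕ) (xb : Multiset ℕ) (yb : ℕ) (xc : Multiset ℕ) (yc : ℕ),
    Fam7 1 4 3 0 xa ya ∧ Fam7 1 4 3 0 xb yb ∧ Fam7 1 4 3 0 xc yc ∧
      fM pN D = 1 ::ₘ ((↑pSeven : Multiset ℕ) + ((gM xa ya + gM xa ya) + (gM xc yc + gM xc yc) + gM xb yb))
  five : ∃ T : Multiset ℕ, Multiset.card T = 5 ∧ (∀ d ∈ T, pm 5 3 d = true) ∧ Rel 5 (rowsU 3 T) ∧
    ((∃ (w : Multiset ℕ) (y : ℕ), Multiset.card w = 2 ∧ (∀ d ∈ w, pm 5 2 d = true) ∧ pm 5 1 y = true ∧
        Rel 5 (rowsP 2 1 w y) ∧ fM p5 D = 1 ::ₘ ((↑fFive : Multiset ℕ) + gM w y + T)) ∨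
      ∃ q : Multiset ℕ, Multiset.card q = 5 ∧ (∀ d ∈ q, pm 5 1 d = true) ∧ Rel 5 (rowsU 1 q) ∧
        fM p5 D = 1 ::ₘ ((↑fFive : Multiset ℕ) + (q + q) + T))

theorem fFive_pm : ∀ d ∈ (↑fFive : Multiset ℕ), pm 5 1 d = true := by decide

theorem allT_hit {α : Type} {g : ℕ → List α → Bool} {t : M24Join.Tree α} (h : t.allT g = true) {q : ℕ} {x : α}
    (hx : x ∈ t.find q) : ∃ vs, g q vs = true ∧ x ∈ vs := allT_find h x hx

/-- Such degrees do not exist. -/
theorem ab_false {D : Multiset ℕ} (hD : AbData D) : False := by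
  classical
  have h1D : 1 ∈ D := Multiset.count_pos.1 (by rw [hD.one]; norm_num)
  obtain ⟨D', rfl⟩ := Multiset.exists_cons_of_mem h1D
  have hone : D'.count 1 = 0 := by
    have := hD.one
    rw [Multiset.count_cons_self] at this
    omega
  have hD' : ∀ d ∈ D', d ∈ M24Join.pool ∧ 2 ≤ d := fun d hd =>
    have hp := hD.pool d (Multiset.mem_cons_of_mem hd)
    ⟨hp, by
      have h0 := pos_of_pool d hp
      have hne : d ≠ 1 := fun e => by rw [e] at hd; exact Multiset.count_eq_zero.1 hone hd
      omega⟩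
  have hlimD : limS (sM (1 ::ₘ D')) = true := by
    simp only [limS, Bool.and_eq_true, ble_iff]
    rw [hD.sq, hD.x23, hD.y23, hD.x11]
    omega
  obtain ⟨xa, ya, xb, yb, xc, yc, Fa, Fb, Fc, e7⟩ := hD.seven
  obtain ⟨T, hTc, hTp, hTr, hcase⟩ := hD.five
  rw [fM, Multiset.filter_cons_of_pos (s := D') (by rfl), Multiset.cons_inj_right] at e7
  change fM pN D' = _ at e7
  set P : Multiset ℕ := ↑pSeven with hP
  set f : Multiset ℕ := ↑fFive with hf
  set A := gM xa ya
  set B := gM xb yb
  set C := gM xc yc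
  -- both cases of the orbit of two in one form
  have key : ∀ Wb Wa : Multiset ℕ, (∀ d ∈ Wa, pm 5 1 d = true) → (∀ d ∈ Wb, pm 5 2 d = true) →
      fM p5 D' = f + (Wb + Wa) + T →
      (cM (fM pN (f + Wa)), (⟨cM (fM pN Wb), sM (fM pZ (f + (Wb + Wa)))⟩ : Grp)) ∈ optsFive → False := by
    intro Wb Wa hWa hWb e5 hgrp
    have hTp2 : ∀ d ∈ T, pm 5 2 d = true := fun d hd => (pm53 d).symm.trans (hTp d hd)
    have hA : fM pA P + (fM pA A + fM pA A) + ((fM pA C + fM pA C) + fM pA B) = fM pN (f + Wa) := by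
      have a1 : fM pA (fM pN D') = fM pA D' := fM_fM (fun d h => (Bool.and_eq_true _ _).mp h |>.1) D'
      have a2 : fM (pm 5 1) D' = f + Wa := by
        rw [← fM_fM (fun d h => p5_of_pm (by norm_num) (by norm_num) h) D', e5]
        simp only [fM, Multiset.filter_add]
        rw [show Multiset.filter (fun d => pm 5 1 d = true) Wb = 0 from
            fM_none fun d hd h => M24Join.not_both d h (hWb d hd),
          show Multiset.filter (fun d => pm 5 1 d = true) T = 0 from
            fM_none fun d hd h => M24Join.not_both d h (hTp2 d hd),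
          show Multiset.filter (fun d => pm 5 1 d = true) f = f from fM_all fFive_pm,
          show Multiset.filter (fun d => pm 5 1 d = true) Wa = Wa from fM_all hWa]
        simp
      rw [← a2, ← pA_eq, ← a1, e7]
      simp only [fM, Multiset.filter_add]
      abel
    have hB : fM pB P + (fM pB A + fM pB A) + (fM pB C + fM pB C) + fM pB B = fM pN Wb + fM pN T := by
      have a1 : fM pB (fM pN D') = fM pB D' := fM_fM (fun d h => (Bool.and_eq_true _ _).mp h |>.1) D'
      have a2 : fM (pm 5 2) D' = Wb + T := by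
        rw [← fM_fM (fun d h => p5_of_pm (by norm_num) (by norm_num) h) D', e5]
        simp only [fM, Multiset.filter_add]
        rw [show Multiset.filter (fun d => pm 5 2 d = true) f = 0 from
            fM_none fun d hd h => M24Join.not_both d (fFive_pm d hd) h,
          show Multiset.filter (fun d => pm 5 2 d = true) Wa = 0 from
            fM_none fun d hd h => M24Join.not_both d (hWa d hd) h,
          show Multiset.filter (fun d => pm 5 2 d = true) T = T from fM_all hTp2,
          show Multiset.filter (fun d => pm 5 2 d = true) Wb = Wb from fM_all hWb]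
        simp
      rw [show fM pN Wb + fM pN T = fM pN (Wb + T) from (Multiset.filter_add _ _ _).symm, ← a2, ← pB_eq, ← a1, e7]
      simp only [fM, Multiset.filter_add]
      abel
    -- the part divisible by 35
    obtain ⟨R, hR, hsplit⟩ : ∃ R : Multiset ℕ, (∀ d ∈ R, d ∈ six) ∧
        1 ::ₘ D' = (1 ::ₘ P) + (A + A) + (C + C) + B + fM pZ (f + (Wb + Wa)) + fM pZ T + R := by
      refine ⟨fM (fun d => pZ d && !(p5 d)) D', fun d hd => ?_, ?_⟩
      · obtain ⟨hd1, hd2⟩ := Multiset.mem_filter.1 hd
        simp only [pZ, p5, Bool.and_eq_true, Bool.not_not, M24Join.beq_iff] at hd2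
        exact six_of_pool d (hD' d hd1).1 hd2.1 hd2.2
      · have b1 : fM pN D' + fM pZ D' = D' := by
          rw [show fM pZ D' = Multiset.filter (fun d => ¬ pN d = true) D' from
            Multiset.filter_congr fun d _ => by simp [pN, pZ]]
          exact Multiset.filter_add_not _ _
        have b2 : fM pZ (fM p5 D') + fM (fun d => pZ d && !(p5 d)) D' = fM pZ D' := by
          rw [show fM (fun d => pZ d && !(p5 d)) D' =
              Multiset.filter (fun d => ¬ p5 d = true) (fM pZ D') by
            rw [fM, fM, Multiset.filter_filter]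
            exact Multiset.filter_congr fun d _ => by simp [and_comm],
            show fM pZ (fM p5 D') = Multiset.filter (fun d => p5 d = true) (fM pZ D') from
              Multiset.filter_comm _ _ _]
          exact Multiset.filter_add_not _ _
        rw [e5] at b2
        simp only [fM, Multiset.filter_add] at b2
        conv_lhs => rw [← b1, e7]
        simp only [fM, Multiset.filter_add, ← Multiset.singleton_add]
        rw [← b2]
        abel
    have le1 : ∀ {m k : Multiset ℕ}, 1 ::ₘ D' = m + k → limS (sM m) = true :=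
      fun e => limS_le (e ▸ Multiset.le_add_right _ _) hlimD
    -- membership of the parts
    have g7 : ∀ d ∈ P + ((A + A) + (C + C) + B), d ∈ M24Join.pool ∧ 2 ≤ d := fun d hd =>
      hD' d (Multiset.mem_of_mem_filter (e7 ▸ hd))
    have hy : ∀ (xs : Multiset ℕ) (y : ℕ), y ∈ gM xs y := fun xs y =>
      Multiset.mem_add.2 (Or.inr (Multiset.mem_replicate.2 ⟨by norm_num, rfl⟩))
    have hxg : ∀ (xs : Multiset ℕ) (y : ℕ), ∀ d ∈ xs, d ∈ gM xs y := fun xs y d hd =>
      Multiset.mem_add.2 (Or.inl hd)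
    have mA : ∀ d ∈ A, d ∈ M24Join.pool ∧ 2 ≤ d := fun d hd => g7 d (by simp [hd])
    have mB : ∀ d ∈ B, d ∈ M24Join.pool ∧ 2 ≤ d := fun d hd => g7 d (by simp [hd])
    have mC : ∀ d ∈ C, d ∈ M24Join.pool ∧ 2 ≤ d := fun d hd => g7 d (by simp [hd])
    obtain ⟨oa, hoa, cba, sta, -⟩ := check7_spec checkS_ok (one := []) Fa
      (fun d hd => mA d (hxg _ _ d hd)) (mA _ (hy _ _))
      (le1 (k := (1 ::ₘ P) + A + (C + C) + B + fM pZ (f + (Wb + Wa)) + fM pZ T + R)
        (by rw [hsplit, Multiset.coe_nil]; abel))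
    obtain ⟨ob, hob, cbb, stb, -⟩ := check7_spec checkS_ok (one := []) Fb
      (fun d hd => mB d (hxg _ _ d hd)) (mB _ (hy _ _))
      (le1 (k := (1 ::ₘ P) + (A + A) + (C + C) + fM pZ (f + (Wb + Wa)) + fM pZ T + R)
        (by rw [hsplit, Multiset.coe_nil]; abel))
    obtain ⟨oc, hoc, cbc, stc, -⟩ := check7_spec checkS_ok (one := []) Fc
      (fun d hd => mC d (hxg _ _ d hd)) (mC _ (hy _ _))
      (le1 (k := (1 ::ₘ P) + (A + A) + C + B + fM pZ (f + (Wb + Wa)) + fM pZ T + R)
        (by rw [hsplit, Multiset.coe_nil]; abel))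
    -- the families of residue three
    have hT' : ∀ d ∈ T, d ∈ cands 5 3 := fun d hd => by
      have hd' : d ∈ fM p5 D' := e5 ▸ Multiset.mem_add.2 (Or.inr hd)
      obtain ⟨h1, h2⟩ := hD' d (Multiset.mem_of_mem_filter hd')
      exact M24Join.mem_cands.2 ⟨h1, hTp d hd, h2⟩
    have hlimT : limS (sM T) = true := by
      refine limS_le (le_trans ?_ (Multiset.le_cons_self D' 1)) hlimD
      calc T ≤ f + (Wb + Wa) + T := Multiset.le_add_left _ _
        _ = fM p5 D' := e5.symm
        _ ≤ D' := Multiset.filter_le _ _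
    obtain ⟨lT, hlT, hlTe⟩ := checkFive_spec listT_ok hTc hT' hTr hlimT
    have ht := checkT_spec storedT_ok hlT
    rw [hlTe] at ht
    -- the search
    have hrun : runAb treeS treeT _ = true := allF_iff.1 runAb_ok _ hgrp
    have cardA : Multiset.card A = 5 := by simp [A, gM, Fa.card]
    have cardB : Multiset.card B = 5 := by simp [B, gM, Fb.card]
    have cardC : Multiset.card C = 5 := by simp [C, gM, Fc.card]
    have kP : codeL (selA pSeven) = cM (fM pA P) := by rw [codeL_eq, selA_eq]
    have kA : Nat.add (codeL (selA pSeven)) (Nat.add (cM (fM pA A)) (cM (fM pA A))) =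
        cM (fM pA P + (fM pA A + fM pA A)) := by rw [cM_add, cM_add, kP]; rfl
    obtain ⟨as, hS1, ha⟩ := allT_hit hrun hoa
    have sub1 : subC (cM (fM pA P + (fM pA A + fM pA A))) (cM (fM pN (f + Wa))) = true := by
      rw [← hA]
      refine subC_add (fun d hd => ?_) ?_
      · rcases Multiset.mem_add.1 hd with hd | hd
        · rcases Multiset.mem_add.1 hd with hd | hd <;> exact (mC d (Multiset.mem_of_mem_filter hd)).1
        · exact (mB d (Multiset.mem_of_mem_filter hd)).1
      · have c2 := Multiset.card_le_card (Multiset.filter_le (fun d => pA d = true) C)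
        have c3 := Multiset.card_le_card (Multiset.filter_le (fun d => pA d = true) B)
        simp only [fM, Multiset.card_add]
        omega
    rw [kA, sub1] at hS1
    simp only [Bool.not_true, Bool.false_or] at hS1
    obtain ⟨cs, hS2, hc⟩ := allT_hit hS1 hoc
    have e23 : Nat.sub (cM (fM pN (f + Wa))) (cM (fM pA P + (fM pA A + fM pA A))) =
        cM ((fM pA C + fM pA C) + fM pA B) := by rw [← hA, sub_cM]
    have kC : Nat.add (cM (fM pA C)) (cM (fM pA C)) = cM (fM pA C + fM pA C) := by rw [cM_add]; rfl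
    have sub2 : subC (cM (fM pA C + fM pA C)) (cM ((fM pA C + fM pA C) + fM pA B)) = true := by
      refine subC_add (fun d hd => (mB d (Multiset.mem_of_mem_filter hd)).1) ?_
      have c3 := Multiset.card_le_card (Multiset.filter_le (fun d => pA d = true) B)
      simp only [fM]
      omega
    rw [e23, kC, sub2, sub_cM] at hS2
    simp only [Bool.not_true, Bool.false_or] at hS2
    have h1 := allF_iff.1 (allF_iff.1 (allF_iff.1 hS2 ob hob) oa ha) oc hc
    have S3 : stAb oa ob oc = sM ((1 ::ₘ P) + (A + A) + (C + C) + B) := by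
      rw [stAb, sta, stb, stc, stL_eq, ← Multiset.cons_coe]
      simp only [Multiset.coe_nil, zero_add, sM_add]
      rfl
    have cbsum : cbAb oa ob oc = cM (fM pN Wb + fM pN T) := by
      rw [cbAb, cba, cbb, cbc, codeL_eq, selB_eq, ← hB]
      simp only [cM_add]
      rfl
    rw [S3, le1 (k := fM pZ (f + (Wb + Wa)) + fM pZ T + R) (by rw [hsplit]; abel)] at h1
    simp only [Bool.not_true, Bool.false_or, abLeaf] at h1
    have subW : subC (cM (fM pN Wb)) (cM (fM pN Wb + fM pN T)) = true := by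
      refine subC_add (fun d hd => ?_) ?_
      · exact (M24Join.mem_cands.1 (hT' d (Multiset.mem_of_mem_filter hd))).1
      · have := Multiset.card_le_card (Multiset.filter_le (fun d => pN d = true) T)
        simp only [fM]
        omega
    simp only [cbsum, subW, sub_cM, ← sM_add] at h1
    rw [le1 (k := fM pZ T + R) (by rw [hsplit]; abel)] at h1
    simp only [Bool.not_true, Bool.false_or] at h1
    have h3 := allF_iff.1 h1 _ ht
    simp only [← sM_add] at h3
    rw [le1 (k := R) hsplit] at h3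
    have hsum : sM (1 ::ₘ D') = St.add
        (sM ((1 ::ₘ P) + (A + A) + (C + C) + B + fM pZ (f + (Wb + Wa)) + fM pZ T)) (sM R) := by
      rw [← sM_add, ← hsplit]
    have q1 := hD.sq
    have q2 := hD.x23
    have q3 := hD.y23
    have q4 := hD.x11
    rw [hsum] at q1 q2 q3 q4
    obtain ⟨hcm, -, -⟩ := compl_ok hR q1 q2 q3 q4
    rw [hcm] at h3
    simp at h3
  -- the lists
  have hlist : ∀ W : Multiset ℕ, fM p5 D' = f + W + T → limS (sM W) = true ∧ ∀ d ∈ W, d ∈ M24Join.pool ∧ 2 ≤ d := by
    intro W e5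
    have hle : W ≤ D' := le_trans (le_trans (Multiset.le_add_left _ f) (e5 ▸ Multiset.le_add_right (f + W) T))
      (Multiset.filter_le _ _)
    exact ⟨limS_le (le_trans hle (Multiset.le_cons_self _ _)) hlimD, fun d hd => hD' d (Multiset.mem_of_le hle hd)⟩
  rcases hcase with ⟨w, y, hwc, hwp, hyp, hwr, e5⟩ | ⟨q, hqc, hqp, hqr, e5⟩
  · rw [fM, Multiset.filter_cons_of_pos (s := D') (by rfl), Multiset.cons_inj_right] at e5
    change fM p5 D' = _ at e5
    obtain ⟨hlW, hWm⟩ := hlist (gM w y) e5
    have hy' : y ∈ gM w y := Multiset.mem_add.2 (Or.inr (Multiset.mem_replicate.2 ⟨by norm_num, rfl⟩))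
    obtain ⟨o, ho, rfl, rfl⟩ := checkW_spec listW_ok hwc
      (fun d hd => M24Join.mem_cands.2 ⟨(hWm d (Multiset.mem_add.2 (Or.inl hd))).1, hwp d hd,
        (hWm d (Multiset.mem_add.2 (Or.inl hd))).2⟩)
      (M24Join.mem_cands.2 ⟨(hWm _ hy').1, hyp, (hWm _ hy').2⟩) hwr hlW
    refine key ↑o.1 (Multiset.replicate 2 o.2) (fun d hd => ?_) hwp e5 ?_
    · rw [Multiset.eq_of_mem_replicate hd]
      exact hyp
    · refine List.mem_append_left _ (List.mem_map.2 ⟨o, ho, ?_⟩)
      simp only [codeL_eq, nz7_eq, stL_eq, z7_eq, ← Multiset.coe_add, coe_pair, hf]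
  · rw [fM, Multiset.filter_cons_of_pos (s := D') (by rfl), Multiset.cons_inj_right] at e5
    change fM p5 D' = _ at e5
    obtain ⟨hlW, hWm⟩ := hlist (q + q) e5
    obtain ⟨lq, hlq, rfl⟩ := checkFive_spec listQ_ok hqc
      (fun d hd => M24Join.mem_cands.2 ⟨(hWm d (Multiset.mem_add.2 (Or.inl hd))).1, hqp d hd,
        (hWm d (Multiset.mem_add.2 (Or.inl hd))).2⟩) hqr
      (limS_le (Multiset.le_add_right _ _) hlW)
    refine key 0 (↑lq + ↑lq) (fun d hd => ?_) (fun d hd => absurd hd (Multiset.notMem_zero d))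
      (by rw [zero_add]; exact e5) ?_
    · rcases Multiset.mem_add.1 hd with h | h <;> exact hqp d h
    · refine List.mem_append_right _ (List.mem_map.2 ⟨lq, hlq, ?_⟩)
      simp only [codeL_eq, nz7_eq, stL_eq, z7_eq, ← Multiset.coe_add, hf]
      rw [show fM pN (0 : Multiset ℕ) = 0 from Multiset.filter_zero _, zero_add]
      rfl

end

end Cfsg.Agent.M24Order
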