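import Cfsg.Agent.Lib.M24Order.Lists

/-!
The searches at twenty-three in a group of order 244823040.
-/

namespace Cfsg.Agent.M24Order

/-- The modulus at an involution centralizing elements of order 23 and 11. -/
def mod23 (f : ℕ) : ℕ := if Nat.beq (f % 11) 0 then 1012 else 92

/-- The search with an exceptional member of multiplicity `k`. -/
def deadK (C k r : ℕ) (ops tops : List Tm) : Bool :=
  tops.all fun o => !(Nat.ble (1 + k * (o.a.natAbs * o.a.natAbs)) C && Nat.ble (1 + k * (o.f * o.f)) 244823040) ||
    dead C r ops (1 + o.c * o.f) (1 + o.c * o.a) (1 + k * (o.a.natAbs * o.a.natAbs)) (1 + k * (o.f * o.f))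

/-- The ordinary members. -/
def ops23 (C : ℕ) (m : ℕ → ℕ) : List Tm := order (terms C (pmDegs 23 1) m (sgP 23))

/-- The exceptional members. -/
def tops23 (C e : ℕ) (m : ℕ → ℕ) : List Tm := terms C (pmDegs 23 e) m (excP 23 e)

/-- The case of two automorphisms at one order of the centralizer. -/
def deadTwo (C : ℕ) : Bool :=
  !(Nat.beq (C % 46) 0) || deadK C 11 1 (ops23 C fun _ => 92) (tops23 C 2 fun _ => 92)

/-- The case of eleven automorphisms at one order of the centralizer. -/
def deadEleven (C : ℕ) : Bool :=
  !(Nat.beq (C % 506) 0) || deadK C 2 10 (ops23 C mod23) (tops23 C 11 mod23)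

/-- The possible orders of the centralizer for twenty-two automorphisms. -/
def ok22 (C v : ℕ) : Bool :=
  allDivs.any fun n => Nat.beq (n % 23) 1 && Nat.beq (C % n) 0 && Nat.beq (C / n % 506) 0 &&
    Nat.beq (506 * v % (C / n)) 0

/-- The case of twenty-two automorphisms at one order of the centralizer. -/
def deadTwentyTwo (C : ℕ) : Bool :=
  !(Nat.beq (C % 506) 0 && ([12, 288, 840, 20160] : List ℕ).any (ok22 C)) ||
    dead C 22 (ops23 C mod23) 1 1 1 1

/-- The cases with a large complement. -/
def shape23 (e v : ℕ) : Bool :=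
  (Nat.beq e 2 && (Nat.beq v 385 || Nat.beq v 63)) || (Nat.beq e 11 && Nat.beq v 1) ||
    (Nat.beq e 22 && Nat.beq v 35)

set_option maxRecDepth 4000 in
/-- An odd complement has one of the listed shapes. -/
theorem shape23_check : ([2, 11, 22] : List ℕ).all (fun e => allDivs.all fun n =>
    !(Nat.beq (n % 23) 1) || Nat.beq n 1 || !(Nat.beq (10644480 % (n * e)) 0) ||
      Nat.beq (10644480 / (n * e) % 2) 0 || shape23 e (10644480 / (n * e))) = true := by
  decide +kernel

set_option maxRecDepth 4000 in
/-- An even complement: eleven does not divide it when eleven divides `e`, and its value is listed. -/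
theorem even23_check : ([11, 22] : List ℕ).all (fun e => allDivs.all fun n =>
    !(Nat.beq (n % 23) 1) || Nat.beq n 1 || !(Nat.beq (10644480 % (n * e)) 0) ||
      (!(Nat.beq (10644480 / (n * e) % 11) 0) && !(Nat.beq (10644480 / (n * e) % 1024) 0) &&
        (Nat.beq e 11 || !(Nat.beq (10644480 / (n * e) % 2) 0) ||
          ([12, 288, 840, 20160] : List ℕ).contains (10644480 / (n * e)) || Nat.beq n 70))) = true := by
  decide +kernel

set_option maxRecDepth 4000 in
/-- The Sylow numbers exclude the odd shapes but one. -/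
theorem frattini23_check : ([(2, 385), (2, 63), (22, 35)] : List (ℕ × ℕ)).all (fun ev =>
    (allDivs.all fun d => !(Nat.beq (ev.2 / 7 % d) 0) || !(Nat.beq (d % 7) 1) || Nat.beq d 1) &&
    allDivs.all fun a => !(Nat.beq (10644480 / (ev.1 * ev.2) % a) 0) || !(Nat.beq (a % 23) 1) ||
      !(Nat.beq (10644480 / (ev.1 * ev.2) / a % 7) 1) || Nat.beq (10644480 / (ev.1 * ev.2) / a) 1) = true := by
  decide +kernel

end Cfsg.Agent.M24Order
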