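import Cfsg.Agent.Lib.M24Order.TwentyThreeData

/-!
One of the searches at twenty-three.
-/

namespace Cfsg.Agent.M24Order

set_option maxRecDepth 20000 in
/-- The search has no solution. -/
theorem dead_twentyTwo : allDivs.all deadTwentyTwo = true := by decide +kernel

end Cfsg.Agent.M24Order
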