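import Cfsg.Agent.Lib.M24Order.Column
import Cfsg.Agent.Lib.M24Order.TwentyThreeData
import Cfsg.Agent.Lib.M24Order.TwentyThreeTwo
import Cfsg.Agent.Lib.M24Order.TwentyThreeEleven
import Cfsg.Agent.Lib.M24Order.TwentyThreeTwentyTwo
import Cfsg.Agent.Lib.M23Order.Frattini

/-!
A simple group of order 244823040: the centralizer of an element of order 23 is of order 23, its
normalizer of order 253, and it is not inverted.
-/

set_option linter.unusedSectionVars false
set_option linter.style.haveILetI false

namespace Cfsg.Agent.M24Order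

open Cfsg Cfsg.Agent.Char Cfsg.Agent.Blocks Cfsg.Agent.CCSylow Cfsg.Agent.DefOne
open Cfsg.Agent.M23Order (Rows exists_rows)

universe u

variable {G : Type u} [Group G] [Fintype G]

/-- A subgroup centralizing a Sylow subgroup of order 23 with 70 conjugates is small. -/
theorem small_of_seventy [IsSimpleGroup G] [Fact (Nat.Prime 23)] (P : Sylow 23 G) (hP : Nat.card P = 23)
    (h70 : (Subgroup.normalizer ((P : Subgroup G) : Set G)).index = 70) (V : Subgroup G)
    (hV : ¬ 23 ∣ Nat.card V) (hc : ∀ y ∈ (P : Subgroup G), ∀ v ∈ V, y * v = v * y) :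
    Nat.card V ≤ 256 := by
  classical
  have hX : Nat.card (Sylow 23 G) = 70 := by rw [P.card_eq_index_normalizer]; exact h70
  -- the action is faithful
  have hker : ∀ g : G, (∀ Q : (Sylow 23 G), g • Q = Q) → g = 1 := by
    intro g hg
    have hk : g ∈ (MulAction.toPermHom G (Sylow 23 G)).ker := Equiv.ext hg
    rcases (MonoidHom.normal_ker (MulAction.toPermHom G (Sylow 23 G))).eq_bot_or_eq_top with e | e
    · rwa [e, Subgroup.mem_bot] at hk
    · exfalso
      have htop : Subgroup.normalizer ((P : Subgroup G) : Set G) = ⊤ := eq_top_iff.2 fun b _ => by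
        refine Sylow.smul_eq_iff_mem_normalizer.1 ?_
        have hb : b ∈ (MulAction.toPermHom G (Sylow 23 G)).ker := e ▸ Subgroup.mem_top b
        exact congrArg (fun σ : Equiv.Perm (Sylow 23 G) => σ P) hb
      rw [htop, Subgroup.index_top] at h70
      omega
  set O := MulAction.orbitRel.Quotient (P : Subgroup G) (Sylow 23 G)
  haveI : Finite O := Quotient.finite _
  haveI : Fintype O := Fintype.ofFinite _
  haveI : Fintype (Sylow 23 G) := Fintype.ofFinite _
  have hfix : ∀ Q : (Sylow 23 G), (∀ y : (P : Subgroup G), y • Q = Q) → Q = P := by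
    intro Q hQ
    have hle : (P : Subgroup G) ≤ Subgroup.normalizer ((Q : Subgroup G) : Set G) := fun y hy =>
      Sylow.smul_eq_iff_mem_normalizer.1 (hQ ⟨y, hy⟩)
    have hsub : (P : Subgroup G) ≤ (Q : Subgroup G) := by
      have hp' : IsPGroup 23 ((P : Subgroup G) ⊔ (Q : Subgroup G) : Subgroup G) :=
        P.isPGroup'.to_sup_of_normal_right' Q.isPGroup' hle
      have h := Q.3 hp' le_sup_right
      exact le_trans le_sup_left h.le
    exact Sylow.ext (P.3 Q.isPGroup' hsub)
  -- four orbits
  have hO : Fintype.card O = 4 := by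
    have horb : ∀ Q : (Sylow 23 G), Nat.card (MulAction.orbit (P : Subgroup G) Q) = if Q = P then 1 else 23 := by
      intro Q
      by_cases hQ : Q = P
      · subst hQ
        rw [if_pos rfl, Nat.card_eq_one_iff_unique]
        refine ⟨⟨fun a b => ?_⟩, ⟨⟨_, MulAction.mem_orbit_self _⟩⟩⟩
        obtain ⟨_, ya, rfl⟩ := a
        obtain ⟨_, yb, rfl⟩ := b
        refine Subtype.ext ?_
        show (ya : G) • Q = (yb : G) • Q
        rw [Sylow.smul_eq_iff_mem_normalizer.2 (Subgroup.le_normalizer ya.2),
          Sylow.smul_eq_iff_mem_normalizer.2 (Subgroup.le_normalizer yb.2)]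
      · rw [if_neg hQ]
        have hd : Nat.card (MulAction.orbit (P : Subgroup G) Q) ∣ 23 :=
          ⟨Nat.card (MulAction.stabilizer (P : Subgroup G) Q), by
            rw [← Nat.card_prod, ← Nat.card_congr (MulAction.orbitProdStabilizerEquivGroup _ Q).symm, hP]⟩
        rcases (Nat.dvd_prime (by norm_num)).1 hd with h | h
        · exfalso
          refine hQ (hfix Q fun y => ?_)
          haveI := (Nat.card_eq_one_iff_unique.1 h).1
          exact congrArg Subtype.val (Subsingleton.elim
            (⟨_, MulAction.mem_orbit Q y⟩ : MulAction.orbit (P : Subgroup G) Q) ⟨Q, MulAction.mem_orbit_self Q⟩)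
        · exact h
    have hsum : Fintype.card (Sylow 23 G) = ∑ q : O, if q = ⟦P⟧ then 1 else 23 := by
      rw [Fintype.card_congr (MulAction.selfEquivSigmaOrbits (P : Subgroup G) (Sylow 23 G)), Fintype.card_sigma]
      refine Finset.sum_congr rfl fun q _ => ?_
      rw [← Nat.card_eq_fintype_card]
      rw [horb q.out]
      have : (q.out = P) ↔ q = ⟦P⟧ := by
        constructor
        · intro h; exact (Quotient.out_eq q).symm.trans (congrArg _ h)
        · rintro rfl
          by_contra hne
          have hr : (⟦P⟧ : O).out ∈ MulAction.orbit (P : Subgroup G) P :=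
            MulAction.orbitRel_apply.1 (Quotient.exact (Quotient.out_eq (⟦P⟧ : O)))
          obtain ⟨y, hy⟩ := hr
          exact hne (hy ▸ Sylow.smul_eq_iff_mem_normalizer.2 (Subgroup.le_normalizer y.2))
      exact if_congr this rfl rfl
    rw [← Nat.card_eq_fintype_card, hX, Finset.sum_ite, Finset.sum_const, Finset.sum_const,
      Finset.filter_eq' Finset.univ (⟦P⟧ : O), if_pos (Finset.mem_univ _), Finset.card_singleton,
      Finset.filter_ne' Finset.univ (⟦P⟧ : O), Finset.card_erase_of_mem (Finset.mem_univ _),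
      Finset.card_univ, smul_eq_mul, smul_eq_mul] at hsum
    omega
  let F : V → O → O := fun w => Quotient.map' (fun Q : (Sylow 23 G) => (w : G) • Q) fun Q Q' h => by
    obtain ⟨y, rfl⟩ := MulAction.orbitRel_apply.1 h
    refine MulAction.orbitRel_apply.2 ⟨y, ?_⟩
    show (y : G) • (w : G) • Q' = (w : G) • (y : G) • Q'
    rw [← mul_smul, ← mul_smul, hc _ y.2 _ w.2]
  have hinj : Function.Injective F := by
    intro w w' hww
    by_contra hne
    set u : G := (w' : G)⁻¹ * (w : G) with hu
    have huV : u ∈ V := mul_mem (inv_mem w'.2) w.2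
    have hu1 : u ≠ 1 := fun e => hne (Subtype.ext (inv_mul_eq_one.1 e).symm)
    have h23 : u ^ 23 = 1 := by
      refine hker _ fun Q => ?_
      obtain ⟨y, hy⟩ := MulAction.orbitRel_apply.1 (Quotient.exact (congrFun hww ⟦Q⟧))
      change (y : G) • (w' : G) • Q = (w : G) • Q at hy
      have hcy : Commute (y : G) u := hc _ y.2 _ huV
      have huQ : u • Q = (y : G) • Q := by
        rw [hu, mul_smul, ← hy, ← mul_smul, ← mul_smul,
          (hc _ y.2 _ (inv_mem w'.2) : (y : G) * (w' : G)⁻¹ = (w' : G)⁻¹ * (y : G)).symm,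
          inv_mul_cancel_right]
      have hpow : ∀ l : ℕ, u ^ l • Q = (y : G) ^ l • Q := by
        intro l
        induction l with
        | zero => simp
        | succ l ih => rw [pow_succ', mul_smul, ih, ← mul_smul, ← (hcy.pow_left l).eq, mul_smul, huQ,
            ← mul_smul, ← pow_succ]
      have hy23 : y ^ 23 = 1 := by
        have h := pow_card_eq_one' (x := y)
        rwa [hP] at h
      rw [hpow, ← Subgroup.coe_pow, hy23, Subgroup.coe_one, one_smul]
    have ho := orderOf_dvd_of_pow_eq_one h23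
    rcases (Nat.dvd_prime (by norm_num : Nat.Prime 23)).1 ho with h | h
    · exact hu1 (orderOf_eq_one_iff.1 h)
    · exact hV (h ▸ Subgroup.orderOf_dvd_natCard V huV)
  have := Nat.card_le_card_of_injective F hinj
  rw [Nat.card_fun, Nat.card_eq_fintype_card (α := O), hO] at this
  simpa using this

variable [IsSimpleGroup G] (hG : Nat.card G = 244823040)

include hG

/-- The normalizer at a prime dividing the order once has a nontrivial action. -/
theorem e_ne_one {p : ℕ} (hp : 2 < p) {P V N : Subgroup G} {e : ℕ} (K : Conf p P V N e) [Fintype P]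
    [Fintype V] [Fintype N] [Fintype (P →* ℂˣ)] : e ≠ 1 := by
  intro he
  haveI := Fact.mk K.hp
  obtain ⟨M, hM⟩ := exists_isPModular_witness p
  haveI := IsPModular.isPrime hM
  obtain ⟨k, S, c, t, R⟩ := exists_rows hM hp K
  obtain ⟨a, ha⟩ := Finset.card_eq_one.1 (R.card.trans he)
  have hat : a = t := by have := R.mem_t; rw [ha, Finset.mem_singleton] at this; exact this.symm
  have h := R.relation 1 (by simpa using K.hp.ne_one)
  rw [ha, Finset.sum_singleton, irr_one_eq_charDegree, hat] at h
  have h' : (1 : ℤ) + c t * (charDegree (t : G → ℂ) : ℤ) = 0 := by exact_mod_cast h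
  have h1 : charDegree (t : G → ℂ) = 1 := by
    rcases R.sign t R.mem_t with s | s <;> rw [s] at h' <;> omega
  exact R.ne_one (eq_principal hG h1 ▸ R.mem_t)

/-- The centralizer and the normalizer at twenty-three. -/
theorem twentyThree : ∃ (P : Sylow 23 G) (V : Subgroup G),
    Conf 23 (P : Subgroup G) V (Subgroup.normalizer ((P : Subgroup G) : Set G)) 11 ∧ Nat.card V = 1 := by
  classical
  haveI : Fact (Nat.Prime 23) := ⟨by norm_num⟩
  haveI : Fact (Nat.Prime 11) := ⟨by norm_num⟩
  obtain ⟨P, V, e, K, he, n, hn1, hn23, hn⟩ := exists_config hG (p := 23) (by norm_num) (by norm_num)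
  haveI : Fintype (P : Subgroup G) := Fintype.ofFinite _
  haveI : Fintype V := Fintype.ofFinite _
  haveI : Fintype (Subgroup.normalizer ((P : Subgroup G) : Set G)) := Fintype.ofFinite _
  haveI : Fintype ((P : Subgroup G) →* ℂˣ) := Fintype.ofFinite _
  set N := Subgroup.normalizer ((P : Subgroup G) : Set G) with hNdef
  have hn' : n * (e * Nat.card V) = 10644480 := by
    have : 23 * (n * (e * Nat.card V)) = 23 * 10644480 := by linear_combination hn
    omega
  have hv : 0 < Nat.card V := Nat.card_pos
  have he1 := e_ne_one hG (by norm_num) K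
  have he' : e = 2 ∨ e = 11 ∨ e = 22 := by
    have := Nat.le_of_dvd (by norm_num) he
    interval_cases e <;> first | omega | norm_num at he
  have hnd : n ∈ allDivs := mem_allDivs ⟨23 * (e * Nat.card V), by
    rw [show (244823040 : ℕ) = 23 * 10644480 from rfl, ← hn']; ring⟩
  have hdiv : 10644480 / (n * e) = Nat.card V :=
    Nat.div_eq_of_eq_mul_right (Nat.mul_pos (by omega) (by omega)) (by rw [← hn']; ring)
  have hidx : N.index = n := by
    have h := N.index_mul_card
    rw [K.D.hcard, K.hP, hG] at h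
    exact Nat.eq_of_mul_eq_mul_right (by rcases he' with rfl | rfl | rfl <;> positivity) (h.trans hn.symm)
  obtain ⟨M, hM⟩ := exists_isPModular_witness 23
  haveI := IsPModular.isPrime hM
  obtain ⟨k, S, c, t, R⟩ := exists_rows hM (by norm_num) K
  have hk : k * e = 22 := R.ek
  obtain ⟨y, hy⟩ := exists_ne_one_P K
  have hy1 : (y : G) ≠ 1 := fun h => hy (Subtype.ext h)
  have hyo := DefOne.orderOf_P K y.2 hy1
  -- the centralizer of an involution of the complement
  have hC46 : ∀ i ∈ V, orderOf i = 2 → 46 ∣ Nat.card (Subgroup.centralizer ({i} : Set G)) := by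
    intro i hi hio
    have hc : Commute (y : G) i := K.D.pv _ y.2 _ hi
    have hmem : (y : G) * i ∈ Subgroup.centralizer ({i} : Set G) := by
      rw [Subgroup.mem_centralizer_singleton_iff, ← mul_assoc, ← hc.eq]
    have := Subgroup.orderOf_dvd_natCard _ hmem
    rwa [hc.orderOf_mul_eq_mul_orderOf_of_coprime (by rw [hyo, hio]; norm_num), hyo, hio] at this
  -- no involution centralizes
  have hodd : ¬ 2 ∣ Nat.card V := by
    intro h2
    rcases he' with rfl | he11
    · obtain rfl : k = 11 := by omega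
      haveI : Fact (Nat.Prime 2) := ⟨Nat.prime_two⟩
      obtain ⟨vv, hvv⟩ := exists_prime_orderOf_dvd_card' 2 h2
      have hio : orderOf (vv : G) = 2 := by rw [Subgroup.orderOf_coe, hvv]
      set C := Nat.card (Subgroup.centralizer ({(vv : G)} : Set G)) with hC
      have h := List.all_eq_true.1 dead_two C (mem_allDivs (hC ▸ hG ▸ Subgroup.card_subgroup_dvd_card _))
      simp only [deadTwo, Bool.or_eq_true, Bool.not_eq_true', ← Bool.not_eq_true, Nat.beq_eq] at h
      refine false_of_deadK hG K hM R (by norm_num) vv.2 hio (m := fun _ => 92) (fun _ _ _ _ h => h)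
        (fun _ => by norm_num) (h.resolve_left fun h' => h' (Nat.mod_eq_zero_of_dvd (hC46 _ vv.2 hio)))
    have hev := List.all_eq_true.1 (List.all_eq_true.1 even23_check e (by simp; omega)) n hnd
    rw [hdiv] at hev
    simp only [Bool.or_eq_true, Bool.and_eq_true, Bool.not_eq_true', ← Bool.not_eq_true, Nat.beq_eq,
      List.contains_iff_mem] at hev
    rcases hev with ((hev | hev) | hev) | ⟨⟨h11, h1024⟩, hlist⟩
    · exact hev hn23
    · omega
    · exact hev (Nat.mod_eq_zero_of_dvd ⟨Nat.card V, by rw [← hn']; ring⟩)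
    have h11v : ¬ 11 ∣ Nat.card V := fun h => h11 (Nat.mod_eq_zero_of_dvd h)
    -- an element of order 11 normalizing a Sylow 2-subgroup of the complement
    haveI : Fact (Nat.Prime 2) := ⟨Nat.prime_two⟩
    set W := V.subgroupOf N with hW
    have hVN : V ≤ N := fun v hv => by
      rw [hNdef, Subgroup.mem_normalizer_iff]
      intro z
      constructor
      · intro hz
        rwa [show v * z * v⁻¹ = z by rw [← K.D.pv _ hz _ hv, mul_inv_cancel_right]]
      · intro hz
        have h := K.D.pv _ hz _ hv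
        rw [inv_mul_cancel_right] at h
        have h' : v * z * v⁻¹ = z := by
          have h2 : v * z = v * (v * z * v⁻¹) := h
          exact (mul_left_cancel h2).symm
        rwa [h'] at hz
    haveI : W.Normal := ⟨fun x hx g => by
      rw [Subgroup.mem_subgroupOf] at hx ⊢; exact K.D.hNV _ g.2 _ hx⟩
    obtain ⟨T₀⟩ : Nonempty (Sylow 2 W) := inferInstance
    set R₀ := (T₀ : Subgroup W).map W.subtype with hR₀
    have hcardW : Nat.card W = Nat.card V := Nat.card_congr (Subgroup.subgroupOfEquivOfLe hVN).toEquiv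
    have h11N : 11 ∣ Nat.card (Subgroup.normalizer (R₀ : Set N)) := by
      have hcN : Nat.card N = e * (23 * Nat.card V) := by rw [K.D.hcard, K.hP]
      have hd : W.index ∣ Nat.card (Subgroup.normalizer (R₀ : Set N)) := by
        rw [← Subgroup.relIndex_top_right, ← Sylow.normalizer_sup_eq_top T₀, Subgroup.relIndex_sup_right]
        exact Subgroup.index_dvd_card _
      have h := W.index_mul_card
      rw [hcN, hcardW, ← mul_assoc e 23] at h
      rw [Nat.eq_of_mul_eq_mul_right hv h] at hd
      refine Dvd.dvd.trans ?_ hd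
      exact Dvd.dvd.mul_right (by rcases he11 with rfl | rfl <;> norm_num) _
    obtain ⟨h, hho⟩ := exists_prime_orderOf_dvd_card' 11 h11N
    set T : Subgroup G := R₀.map N.subtype with hT
    have hhG : orderOf ((h : N) : G) = 11 := by rw [Subgroup.orderOf_coe, Subgroup.orderOf_coe, hho]
    have hTV : T ≤ V := by
      rintro x ⟨z, ⟨w, -, rfl⟩, rfl⟩
      exact w.2
    obtain ⟨j, hj⟩ : ∃ j, Nat.card T = 2 ^ j := by
      obtain ⟨j, hj⟩ := IsPGroup.iff_card.1 ((T₀.isPGroup'.map W.subtype).map N.subtype)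
      exact ⟨j, hj⟩
    have hTc : Nat.card T = 2 ^ (Nat.card V).factorization 2 := by
      rw [hT, hR₀, Subgroup.card_map_of_injective N.subtype_injective,
        Subgroup.card_map_of_injective W.subtype_injective, ← hcardW]
      exact T₀.card_eq_multiplicity
    have hj1 : 1 ≤ (Nat.card V).factorization 2 := (Nat.prime_two.dvd_iff_one_le_factorization hv.ne').1 h2
    have hj9 : (Nat.card V).factorization 2 ≤ 9 := by
      by_contra hlt
      exact h1024 (Nat.mod_eq_zero_of_dvd
        (show 2 ^ 10 ∣ Nat.card V from (Nat.prime_two.pow_dvd_iff_le_factorization hv.ne').2 (by omega)))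
    have hhT : ((h : N) : G) ∈ Subgroup.normalizer (T : Set G) := by
      have hh2 := h.2
      rw [Subgroup.mem_normalizer_iff] at hh2 ⊢
      intro x
      constructor
      · rintro ⟨z, hz, rfl⟩
        exact ⟨(h : N) * z * (h : N)⁻¹, (hh2 z).1 hz, by simp⟩
      · rintro ⟨z, hz, hzx⟩
        refine ⟨(h : N)⁻¹ * z * (h : N), (hh2 _).2 ?_, ?_⟩
        · simpa [mul_assoc] using hz
        · simp only [map_mul, map_inv]; rw [hzx]; simp [mul_assoc]
    obtain ⟨i, hiT, hio, hic⟩ := exists_fixed_involution (p := 11) hhG hhT hTc hj1 hj9 (by decide)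
    have hiV := hTV hiT
    set C := Nat.card (Subgroup.centralizer ({i} : Set G)) with hC
    have hCd : C ∈ allDivs := mem_allDivs (hC ▸ hG ▸ Subgroup.card_subgroup_dvd_card _)
    have hNC : 506 ∣ Nat.card (N ⊓ Subgroup.centralizer ({i} : Set G) : Subgroup G) := by
      have hiN : i ∈ N ⊓ Subgroup.centralizer ({i} : Set G) :=
        ⟨hVN hiV, Subgroup.mem_centralizer_singleton_iff.2 rfl⟩
      have hyN : (y : G) ∈ N ⊓ Subgroup.centralizer ({i} : Set G) :=
        ⟨Subgroup.le_normalizer y.2, Subgroup.mem_centralizer_singleton_iff.2 (K.D.pv _ y.2 _ hiV)⟩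
      have hhN : ((h : N) : G) ∈ N ⊓ Subgroup.centralizer ({i} : Set G) :=
        ⟨(h : N).2, Subgroup.mem_centralizer_singleton_iff.2 hic⟩
      have a1 := Subgroup.orderOf_dvd_natCard _ hiN
      have a2 := Subgroup.orderOf_dvd_natCard _ hyN
      have a3 := Subgroup.orderOf_dvd_natCard _ hhN
      rw [hio] at a1; rw [hyo] at a2; rw [hhG] at a3
      exact Nat.Coprime.mul_dvd_of_dvd_of_dvd (by norm_num : Nat.Coprime (2 * 11) 23)
        (Nat.Coprime.mul_dvd_of_dvd_of_dvd (by norm_num) a1 a3) a2
    have hPC : (P : Subgroup G) ≤ Subgroup.centralizer ({i} : Set G) := fun z hz =>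
      Subgroup.mem_centralizer_singleton_iff.2 (K.D.pv _ hz _ hiV)
    obtain ⟨a, ha, ha23⟩ := index_part P hPC
    rw [← hC] at ha
    set J := Nat.card (N ⊓ Subgroup.centralizer ({i} : Set G) : Subgroup G)
    have hC506 : C % 506 = 0 := Nat.mod_eq_zero_of_dvd (ha ▸ hNC.mul_left a)
    have hm : ∀ χ ∈ S, ∀ b : ℤ, (χ : G → ℂ) i = b → ((4 * 23 : ℕ) : ℤ) ∣ (charDegree (χ : G → ℂ) : ℤ) - b →
        ((mod23 (charDegree (χ : G → ℂ)) : ℕ) : ℤ) ∣ (charDegree (χ : G → ℂ) : ℤ) - b := by
      intro χ _ b hb h92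
      rw [mod23]
      split
      · rename_i h0
        rw [Nat.beq_eq] at h0
        have hfac : (Nat.card G).factorization 11 = 1 := by
          rw [hG]
          have a1 := ((Fact.out : Nat.Prime 11).dvd_iff_one_le_factorization
            (by norm_num : (244823040 : ℕ) ≠ 0)).1 (by norm_num)
          have a2 : ¬ 2 ≤ (244823040 : ℕ).factorization 11 := fun h => absurd
            (((Fact.out : Nat.Prime 11).pow_dvd_iff_le_factorization (by norm_num)).2 h) (by norm_num)
          omega
        have h11b : (11 : ℤ) ∣ b := dvd_value (q := 11) hfac (by norm_num) (Nat.dvd_of_mod_eq_zero h0) hhG hio hic hb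
        have h11f : (11 : ℤ) ∣ (charDegree (χ : G → ℂ) : ℤ) := by exact_mod_cast Nat.dvd_of_mod_eq_zero h0
        push_cast at h92 ⊢
        omega
      · exact h92
    have hm0 : ∀ f, 0 < mod23 f := fun f => by rw [mod23]; split <;> norm_num
    rcases he11 with rfl | rfl
    · obtain rfl : k = 2 := by omega
      have h' := List.all_eq_true.1 dead_eleven C hCd
      simp only [deadEleven, Bool.or_eq_true, Bool.not_eq_true', ← Bool.not_eq_true, Nat.beq_eq] at h'
      exact false_of_deadK hG K hM R (by norm_num) hiV hio hm hm0 (h'.resolve_left fun h'' => h'' hC506)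
    · obtain rfl : k = 1 := by omega
      rcases hlist with ((h' | h') | h') | h'
      · omega
      · exact h' (Nat.mod_eq_zero_of_dvd h2)
      swap
      · have hh := small_of_seventy P K.hP (hidx.trans h') V K.hV K.D.pv
        rw [h'] at hn'
        omega
      have hd' : J ∣ 506 * Nat.card V := by
        have h1 : J ∣ Nat.card N := Subgroup.card_dvd_of_le inf_le_left
        rw [K.D.hcard, K.hP] at h1
        rwa [show 506 * Nat.card V = 22 * (23 * Nat.card V) by ring]
      have ha0 : 0 < a := Nat.pos_of_ne_zero fun h0 => by rw [h0] at ha23; omega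
      have hok : ok22 C (Nat.card V) = true := by
        refine List.any_eq_true.2 ⟨a, mem_allDivs (Dvd.dvd.trans ⟨J, ha⟩
          (hC ▸ hG ▸ Subgroup.card_subgroup_dvd_card _)), ?_⟩
        simp only [Bool.and_eq_true, Nat.beq_eq]
        rw [show C / a = J by rw [ha, Nat.mul_div_cancel_left _ ha0]]
        exact ⟨⟨⟨ha23, Nat.mod_eq_zero_of_dvd ⟨J, ha⟩⟩, Nat.mod_eq_zero_of_dvd hNC⟩,
          Nat.mod_eq_zero_of_dvd hd'⟩
      have h'' := List.all_eq_true.1 dead_twentyTwo C hCd
      rw [deadTwentyTwo, Bool.or_eq_true, Bool.not_eq_true', ← Bool.not_eq_true] at h''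
      exact false_of_dead hG K hM R (by norm_num) rfl hiV hio hm hm0 (h''.resolve_left fun h3 => h3 (by
        rw [Bool.and_eq_true, Nat.beq_eq, List.any_eq_true]
        exact ⟨hC506, _, h', hok⟩))
  -- the shape
  have hmem : e ∈ ([2, 11, 22] : List ℕ) := by simp; omega
  have hs := List.all_eq_true.1 (List.all_eq_true.1 shape23_check e hmem) n hnd
  rw [hdiv] at hs
  simp only [shape23, Bool.or_eq_true, Bool.and_eq_true, Bool.not_eq_true', ← Bool.not_eq_true, Nat.beq_eq] at hs
  rcases hs with (((hs | hs) | hs) | hs) | hs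
  · exact absurd hn23 hs
  · omega
  · exact absurd (Nat.mod_eq_zero_of_dvd ⟨Nat.card V, by rw [← hn']; ring⟩) hs
  · exact absurd (Nat.dvd_of_mod_eq_zero hs) hodd
  rcases hs with (⟨he2, hs⟩ | ⟨rfl, hs⟩) | ⟨he2, hs⟩
  rotate_left
  · exact ⟨P, V, K, hs⟩
  all_goals exfalso
  all_goals
    haveI : Fact (Nat.Prime 7) := ⟨by norm_num⟩
    have hev : (e, Nat.card V) ∈ ([(2, 385), (2, 63), (22, 35)] : List (ℕ × ℕ)) := by
      simp only [List.mem_cons, Prod.mk.injEq, List.not_mem_nil, or_false]; omega
    have hc := List.all_eq_true.1 frattini23_check _ hev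
    simp only [Bool.and_eq_true, List.all_eq_true, Bool.or_eq_true, Bool.not_eq_true', ← Bool.not_eq_true,
      Nat.beq_eq] at hc
    obtain ⟨hc1, hc2⟩ := hc
    have h7 : 7 ∣ Nat.card V := by omega
    have hnv : 10644480 / (e * Nat.card V) = n :=
      Nat.div_eq_of_eq_mul_left (Nat.mul_pos (by omega) (by omega)) hn'.symm
    obtain ⟨a, b, hab, ha, hb, hb1⟩ := M23Order.frattini_arith K h7 (by rw [hG]; norm_num) (by rw [hG]; norm_num)
      (fun d hd hd7 => by
        rcases hc1 d (mem_allDivs (hd.trans ((Nat.div_dvd_of_dvd h7).trans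
          (hG ▸ Subgroup.card_subgroup_dvd_card V)))) with (h | h) | h
        · exact absurd (Nat.mod_eq_zero_of_dvd hd) h
        · exact absurd hd7 h
        · exact h)
    rw [hidx] at hab
    have hb' : n / a = b := Nat.div_eq_of_eq_mul_right
      (Nat.pos_of_ne_zero fun h => by rw [h] at ha; omega) hab.symm
    rcases hc2 a (mem_allDivs ((Dvd.intro b hab).trans ⟨23 * (e * Nat.card V),
      by rw [show (244823040 : ℕ) = 23 * 10644480 from rfl, ← hn']; ring⟩)) with ((h | h) | h) | h
    · exact h (Nat.mod_eq_zero_of_dvd (by rw [hnv, ← hab]; exact dvd_mul_right a b))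
    · exact h ha
    · rw [hnv, hb'] at h; exact h hb
    · rw [hnv, hb'] at h; omega

/-- The centralizer of an element of order 23. -/
theorem c23 {x : G} (hx : orderOf x = 23) : Nat.card (Subgroup.centralizer ({x} : Set G)) = 23 := by
  haveI : Fact (Nat.Prime 23) := ⟨by norm_num⟩
  obtain ⟨P, V, K, hV⟩ := twentyThree hG
  rw [M22Uniq.cent_card K hx, hV, mul_one]

/-- The normalizer of a Sylow 23-subgroup. -/
theorem n23 [Fact (Nat.Prime 23)] (Q : Sylow 23 G) :
    Nat.card (Subgroup.normalizer ((Q : Subgroup G) : Set G)) = 253 := by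
  obtain ⟨P, V, K, hV⟩ := twentyThree hG
  have h1 : (Subgroup.normalizer ((P : Subgroup G) : Set G)).index =
      (Subgroup.normalizer ((Q : Subgroup G) : Set G)).index := by
    exact P.card_eq_index_normalizer.symm.trans Q.card_eq_index_normalizer
  have h2 := (Subgroup.normalizer ((P : Subgroup G) : Set G)).index_mul_card
  have h3 := (Subgroup.normalizer ((Q : Subgroup G) : Set G)).index_mul_card
  rw [K.D.hcard, K.hP, hV] at h2
  rw [← h1, ← h2] at h3
  exact Nat.eq_of_mul_eq_mul_left (Nat.pos_of_ne_zero Subgroup.index_ne_zero_of_finite) h3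

/-- An element of order 23 is not inverted. -/
theorem not_inverted {x g : G} (hx : orderOf x = 23) : g * x * g⁻¹ ≠ x⁻¹ := by
  intro h
  haveI : Fact (Nat.Prime 23) := ⟨by norm_num⟩
  obtain ⟨Q, hQ⟩ : ∃ Q : Sylow 23 G, Subgroup.zpowers x ≤ (Q : Subgroup G) :=
    (IsPGroup.of_card (n := 1) (by rw [Nat.card_zpowers, hx, pow_one]) :
      IsPGroup 23 (Subgroup.zpowers x)).exists_le_sylow
  have hcQ : Nat.card Q = 23 := by
    have h2 : ¬ 23 ^ 2 ∣ Nat.card G := by rw [hG]; norm_num
    obtain ⟨m, hm⟩ := IsPGroup.iff_card.1 Q.isPGroup'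
    have hd := Subgroup.card_subgroup_dvd_card (Q : Subgroup G)
    rw [hm] at hd
    have h1 : Nat.card (Subgroup.zpowers x) ∣ Nat.card Q := Subgroup.card_dvd_of_le hQ
    rw [Nat.card_zpowers, hx, hm] at h1
    have hm1 : m = 1 := by
      rcases Nat.lt_or_ge m 2 with h' | h'
      · interval_cases m
        · norm_num at h1
        · rfl
      · exact absurd ((pow_dvd_pow 23 h').trans hd) h2
    rw [hm, hm1, pow_one]
  have hQe : Subgroup.zpowers x = (Q : Subgroup G) :=
    Subgroup.eq_of_le_of_card_ge hQ (by rw [Nat.card_zpowers, hx]; exact hcQ.le)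
  have hgN : g ∈ Subgroup.normalizer ((Q : Subgroup G) : Set G) := by
    rw [← hQe, Subgroup.mem_normalizer_iff]
    intro z
    have key : ∀ l : ℤ, g * x ^ l * g⁻¹ = x ^ (-l) := fun l => by rw [← conj_zpow, h, inv_zpow, zpow_neg]
    constructor
    · intro hz
      obtain ⟨l, rfl⟩ := Subgroup.mem_zpowers_iff.1 hz
      exact ⟨-l, (key l).symm⟩
    · intro hz
      obtain ⟨l, hl⟩ := Subgroup.mem_zpowers_iff.1 hz
      refine ⟨-l, ?_⟩
      have h' : g * x ^ (-l) * g⁻¹ = g * z * g⁻¹ := by rw [key, neg_neg, hl]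
      exact mul_left_cancel (mul_right_cancel h')
  have hodd : orderOf g ∣ 253 := n23 hG Q ▸ Subgroup.orderOf_dvd_natCard _ hgN
  have h2x : g ^ 2 * x * (g ^ 2)⁻¹ = x := by
    rw [pow_two, mul_inv_rev, show g * g * x * (g⁻¹ * g⁻¹) = g * (g * x * g⁻¹) * g⁻¹ by group, h, ← conj_inv, h, inv_inv]
  have hc2 : Commute (g ^ 2) x := mul_inv_eq_iff_eq_mul.1 h2x
  have hcg : Commute g x := by
    have hg253 : g ^ 253 = 1 := orderOf_dvd_iff_pow_eq_one.1 hodd
    have : g = (g ^ 2) ^ 127 := by rw [← pow_mul, show 2 * 127 = 253 + 1 from rfl, pow_succ, hg253, one_mul]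
    rw [this]
    exact hc2.pow_left _
  rw [hcg.eq, mul_inv_cancel_right] at h
  have : x ^ 2 = 1 := by rw [pow_two]; nth_rewrite 1 [h]; exact inv_mul_cancel x
  have := Nat.le_of_dvd (by norm_num) (orderOf_dvd_of_pow_eq_one this)
  omega

end Cfsg.Agent.M24Order
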