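import Cfsg.Prelude.Def_Sporadic
import Cfsg.Prelude.Def_Sporadic_a
import Cfsg.Agent.Lib.M24Uniq.Recognition
import Cfsg.Agent.Lib.M24Uniq.SmallOfFamilies
import Cfsg.Agent.Lib.M24Uniq.FiveFamilies
import Cfsg.Agent.Lib.M24Uniq.SevenFamilies
import Cfsg.Agent.Lib.M24Order.TwentyThree

set_option autoImplicit false
open Cfsg

namespace Cfsg.Agent.M24Order

/-- The recognition from the local data at eleven, five and seven. -/
theorem equiv_of_local_data {G : Type*} [Group G] [Fintype G] [IsSimpleGroup G] (hcard : Nat.card G = 244823040)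
    (h11 : ∃ (P : Sylow 11 G) (V : Subgroup G),
      DefOne.Conf 11 (P : Subgroup G) V (Subgroup.normalizer ((P : Subgroup G) : Set G)) 10 ∧ Nat.card V = 1)
    (h5 : M24Uniq.Locals G →
      (∀ x : G, orderOf x = 5 → Nat.card (Subgroup.centralizer ({x} : Set G)) = 60) ∧
      (∀ P : Sylow 5 G, Nat.card (Subgroup.normalizer ((P : Subgroup G) : Set G)) = 240) ∧
      (∀ x : G, orderOf x = 5 →
        Nat.card {g : G // g ∈ Subgroup.centralizer ({x} : Set G) ∧ orderOf g = 2} = 3 ∧
        Nat.card {g : G // g ∈ Subgroup.centralizer ({x} : Set G) ∧ orderOf g = 3} = 8))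
    (h7 : M24Uniq.Locals G →
      (∀ x : G, orderOf x = 7 → Nat.card (Subgroup.centralizer ({x} : Set G)) = 42) ∧
      (∀ P : Sylow 7 G, Nat.card (Subgroup.normalizer ((P : Subgroup G) : Set G)) = 126) ∧
      (∀ x : G, orderOf x = 7 → ∃ a ∈ Subgroup.centralizer ({x} : Set G),
        ∃ b ∈ Subgroup.centralizer ({x} : Set G), ¬ Commute a b)) :
    Nonempty (G ≃* ↥Cfsg.M24) := by
  haveI : Fact (Nat.Prime 11) := ⟨by norm_num⟩
  haveI : Fact (Nat.Prime 23) := ⟨by norm_num⟩
  obtain ⟨P, V, K, hV⟩ := h11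
  have L : M24Uniq.Locals G :=
    { card := hcard
      simple := inferInstance
      c23 := fun x hx => M24Order.c23 hcard hx
      c11 := fun x hx => by rw [M22Uniq.cent_card K hx, hV, mul_one]
      n23 := fun Q => M24Order.n23 hcard Q
      n11 := fun Q => by
        have h1 : (Subgroup.normalizer ((P : Subgroup G) : Set G)).index =
            (Subgroup.normalizer ((Q : Subgroup G) : Set G)).index :=
          P.card_eq_index_normalizer.symm.trans Q.card_eq_index_normalizer
        have h2 := (Subgroup.normalizer ((P : Subgroup G) : Set G)).index_mul_card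
        have h3 := (Subgroup.normalizer ((Q : Subgroup G) : Set G)).index_mul_card
        rw [K.D.hcard, K.hP, hV] at h2
        rw [← h1, ← h2] at h3
        exact Nat.eq_of_mul_eq_mul_left (Nat.pos_of_ne_zero Subgroup.index_ne_zero_of_finite) h3 }
  obtain ⟨c5, n5, hcnt⟩ := h5 L
  obtain ⟨c7, n7, hna⟩ := h7 L
  exact M24Uniq.nonempty_equiv_of_small L
    (M24Uniq.small_of_families L (M24Uniq.seven_of_locals hcard c7 n7 hna)
      (M24Uniq.five_of_locals hcard c5 n5 hcnt))

end Cfsg.Agent.M24Order
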