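import Mathlib.Algebra.BigOperators.Group.Multiset.Basic
import Mathlib.Tactic

/-!
The lists of degrees and values and the search for a column in a group of order 244823040.
-/

namespace Cfsg.Agent.M24Order

/-- The divisors of the order. -/
def allDivs : List ℕ :=
  [1, 2, 4, 8, 16, 32, 64, 128, 256, 512, 1024].flatMap fun a => [1, 3, 9, 27].flatMap fun b =>
    [1, 5].flatMap fun c => [1, 7].flatMap fun d => [1, 11].flatMap fun f =>
      [1, 23].map fun g => a * b * c * d * f * g

theorem mem_allDivs {n : ℕ} (h : n ∣ 244823040) : n ∈ allDivs := by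
  obtain ⟨x1, g, hx1, hg, rfl⟩ := exists_dvd_and_dvd_of_dvd_mul
    (show n ∣ (1024 * 27 * 5 * 7 * 11) * 23 by simpa using h)
  obtain ⟨x2, f, hx2, hf, rfl⟩ := exists_dvd_and_dvd_of_dvd_mul hx1
  obtain ⟨x3, d, hx3, hd, rfl⟩ := exists_dvd_and_dvd_of_dvd_mul hx2
  obtain ⟨x4, c, hx4, hc, rfl⟩ := exists_dvd_and_dvd_of_dvd_mul hx3
  obtain ⟨a, b, ha, hb, rfl⟩ := exists_dvd_and_dvd_of_dvd_mul hx4
  have h1024 : ∀ a : ℕ, a ∣ 1024 → a ∈ [1, 2, 4, 8, 16, 32, 64, 128, 256, 512, 1024] := by
    intro a ha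
    obtain ⟨i, hi, rfl⟩ := (Nat.dvd_prime_pow Nat.prime_two).1 (show a ∣ 2 ^ 10 by simpa using ha)
    interval_cases i <;> simp
  have h27 : ∀ a < 28, a ∣ 27 → a ∈ [1, 3, 9, 27] := by decide +kernel
  have hpr : ∀ q a : ℕ, q.Prime → a ∣ q → a ∈ [1, q] := fun q a hq h => by
    rcases (Nat.dvd_prime hq).1 h with rfl | rfl <;> simp
  simp only [allDivs, List.mem_flatMap, List.mem_map]
  exact ⟨a, h1024 a ha, b, h27 b (Nat.lt_succ_of_le (Nat.le_of_dvd (by norm_num) hb)) hb,
    c, hpr 5 c (by norm_num) hc, d, hpr 7 d (by norm_num) hd, f, hpr 11 f (by norm_num) hf,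
    g, hpr 23 g (by norm_num) hg, rfl⟩

/-- The degrees up to the bound with a given property. -/
def degList (Q : ℕ → Bool) : List ℕ := allDivs.filter fun d => Nat.ble 2 d && Nat.ble d 15646 && Q d

/-- The degrees congruent to `r` or `-r` modulo `p`. -/
def pmDegs (p r : ℕ) : List ℕ := degList fun d => Nat.beq (d % p) r || Nat.beq (d % p) (p - r)

theorem mem_pmDegs {p r d : ℕ} (h1 : 2 ≤ d) (h2 : d ≤ 15646) (hd : d ∣ 244823040)
    (hm : d % p = r ∨ d % p = p - r) : d ∈ pmDegs p r := by
  refine List.mem_filter.2 ⟨mem_allDivs hd, ?_⟩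
  simp only [Bool.and_eq_true, Bool.or_eq_true, Nat.ble_eq, Nat.beq_eq]
  exact ⟨⟨h1, h2⟩, hm⟩

/-- The possible values: below `f`, congruent to `f` modulo `m`, with the index condition. -/
def valsI (C f m : ℕ) : List ℤ :=
  ((List.range (2 * f / m + 1)).map fun j : ℕ => (f : ℤ) - (m : ℤ) * ((j : ℤ) + 1)).filter fun a =>
    Nat.blt a.natAbs f && Nat.ble (a.natAbs * a.natAbs) C && Nat.beq (244823040 / C * a.natAbs % f) 0

theorem mem_valsI {C f m : ℕ} {a : ℤ} (hm0 : 0 < m) (h1 : |a| < f) (hm : (m : ℤ) ∣ (f : ℤ) - a)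
    (hd : (f : ℤ) ∣ ((244823040 / C : ℕ) : ℤ) * a) (hC : a ^ 2 ≤ C) : a ∈ valsI C f m := by
  obtain ⟨j, hj⟩ := hm
  rw [abs_lt] at h1
  have hj1 : 1 ≤ j := by
    by_contra h
    have : (m : ℤ) * j ≤ 0 := mul_nonpos_of_nonneg_of_nonpos (by positivity) (by omega)
    omega
  have hj2 : (j - 1).toNat < 2 * f / m + 1 := by
    have h2 : (j.toNat) * m ≤ 2 * f := by
      have : (j.toNat : ℤ) = j := Int.toNat_of_nonneg (by omega)
      have h3 : ((j.toNat * m : ℕ) : ℤ) ≤ ((2 * f : ℕ) : ℤ) := by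
        push_cast; rw [this, mul_comm]; omega
      exact_mod_cast h3
    have h4 : j.toNat ≤ 2 * f / m := (Nat.le_div_iff_mul_le hm0).2 h2
    omega
  refine List.mem_filter.2 ⟨List.mem_map.2 ⟨(j - 1).toNat, List.mem_range.2 hj2, ?_⟩, ?_⟩
  · rw [Int.toNat_of_nonneg (by omega)]; linarith
  · simp only [Bool.and_eq_true, Nat.blt_eq, Nat.ble_eq, Nat.beq_eq]
    refine ⟨⟨by omega, ?_⟩, Nat.mod_eq_zero_of_dvd ?_⟩
    · have : ((a.natAbs * a.natAbs : ℕ) : ℤ) ≤ (C : ℤ) := by
        push_cast; rw [abs_mul_abs_self, ← pow_two]; exact hC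
      exact_mod_cast this
    · have := Int.natAbs_dvd_natAbs.2 hd
      rwa [Int.natAbs_natCast, Int.natAbs_mul, Int.natAbs_natCast] at this

/-- The sign of an ordinary row. -/
def sgP (p f : ℕ) : ℤ := if f % p = 1 then 1 else -1

/-- The coefficient of the exceptional row. -/
def excP (p e f : ℕ) : ℤ := if f % p = e then -1 else 1

/-- A possible member of a relation: degree, coefficient and value. -/
structure Tm where
  f : ℕ
  c : ℤ
  a : ℤ

/-- The members for given degrees and moduli. -/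
def terms (C : ℕ) (ds : List ℕ) (m : ℕ → ℕ) (coef : ℕ → ℤ) : List Tm :=
  ds.flatMap fun f => (valsI C f (m f)).map fun a => ⟨f, coef f, a⟩

theorem mem_terms {C : ℕ} {ds : List ℕ} {m : ℕ → ℕ} {coef : ℕ → ℤ} {f : ℕ} {a : ℤ} (hf : f ∈ ds)
    (hm0 : 0 < m f) (h1 : |a| < f) (hm : ((m f : ℕ) : ℤ) ∣ (f : ℤ) - a)
    (hd : (f : ℤ) ∣ ((244823040 / C : ℕ) : ℤ) * a) (hC : a ^ 2 ≤ C) :
    (⟨f, coef f, a⟩ : Tm) ∈ terms C ds m coef :=
  List.mem_flatMap.2 ⟨f, hf, List.mem_map.2 ⟨a, mem_valsI hm0 h1 hm hd hC, rfl⟩⟩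

/-- Odd degrees first, then by falling degree. -/
def order (l : List Tm) : List Tm :=
  (l.filter fun o => Nat.beq (o.f % 2) 1) ++ (l.filter fun o => Nat.beq (o.f % 2) 0).reverse

theorem mem_order {l : List Tm} {o : Tm} (h : o ∈ l) : o ∈ order l := by
  rcases Nat.mod_two_eq_zero_or_one o.f with he | he <;> simp [order, h, he]

/-- The largest degree of a list and whether an odd one occurs. -/
def bound : List Tm → ℕ × Bool
  | [] => (0, false)
  | o :: l => (Nat.max o.f (bound l).1, Nat.beq (o.f % 2) 1 || (bound l).2)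

theorem bound_spec : ∀ {l : List Tm} {o : Tm}, o ∈ l →
    o.f ≤ (bound l).1 ∧ ((bound l).2 = false → o.f % 2 = 0) := by
  intro l
  induction l with
  | nil => simp
  | cons x l ih =>
    intro o ho
    simp only [bound, Bool.or_eq_false_iff]
    rcases List.mem_cons.1 ho with rfl | ho
    · exact ⟨Nat.le_max_left _ _, fun h => by
        have h' : ¬ o.f % 2 = 1 := fun e => by simp [e] at h
        omega⟩
    · exact ⟨(ih ho).1.trans (Nat.le_max_right _ _), fun h => (ih ho).2 h.2⟩

/-- The test abandoning a branch. -/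
def prune (C r : ℕ) (D L : ℤ) (q : ℕ) (B : ℕ × Bool) : Bool :=
  Nat.blt (r * B.1) D.natAbs || (!B.2 && Nat.beq (D.natAbs % 2) 1) ||
    Nat.blt (r * (C - q)) (L.natAbs * L.natAbs)

/-- No choice of `r` further members completes the relations. -/
def dead (C : ℕ) : ℕ → List Tm → ℤ → ℤ → ℕ → ℕ → Bool
  | 0, _, D, L, _, _ => !(decide (D = 0) && decide (L = 0))
  | r + 1, l, D, L, q, d => prune C (r + 1) D L q (bound l) || l.tails.all fun tl =>
      match tl with
      | [] => true
      | o :: _ => prune C (r + 1) D L q (bound tl) ||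
          !(Nat.ble (q + o.a.natAbs * o.a.natAbs) C && Nat.ble (d + o.f * o.f) 244823040) ||
          dead C r tl (D + o.c * o.f) (L + o.c * o.a) (q + o.a.natAbs * o.a.natAbs) (d + o.f * o.f)

theorem sq_sum_le (s : Multiset Tm) (hc : ∀ x ∈ s, x.c = 1 ∨ x.c = -1) :
    (s.map fun x => x.c * x.a).sum ^ 2 ≤ (s.card : ℤ) * (s.map fun x => x.a * x.a).sum := by
  induction s using Multiset.induction_on with
  | empty => simp
  | cons x s ih =>
    have h := ih fun y hy => hc y (Multiset.mem_cons_of_mem hy)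
    simp only [Multiset.map_cons, Multiset.sum_cons, Multiset.card_cons, Nat.cast_succ]
    set A := (s.map fun x => x.c * x.a).sum
    set Q := (s.map fun x : Tm => x.a * x.a).sum
    have hQ : 0 ≤ Q := Multiset.sum_nonneg fun y hy => by
      obtain ⟨z, -, rfl⟩ := Multiset.mem_map.1 hy; exact mul_self_nonneg _
    rcases Nat.eq_zero_or_pos s.card with h0 | h0
    · have hs := Multiset.card_eq_zero.1 h0
      simp only [A, Q, hs, Multiset.map_zero, Multiset.sum_zero, Multiset.card_zero, Nat.cast_zero,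
        zero_add, add_zero]
      rcases hc x (Multiset.mem_cons_self _ _) with e | e <;> rw [e] <;> ring_nf <;> rfl
    · have hn : (0 : ℤ) < (s.card : ℤ) := by exact_mod_cast h0
      rcases hc x (Multiset.mem_cons_self _ _) with e | e <;> rw [e] <;>
        nlinarith [sq_nonneg ((s.card : ℤ) * x.a - A), sq_nonneg ((s.card : ℤ) * x.a + A)]

/-- A positive answer of the search excludes solutions. -/
theorem dead_sound {C : ℕ} : ∀ {r : ℕ} {l : List Tm} {D L : ℤ} {q d : ℕ}, dead C r l D L q d = true →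
    ∀ s : Multiset Tm, s.card = r → (∀ x ∈ s, x ∈ l) → (∀ x ∈ s, x.c = 1 ∨ x.c = -1) →
    D + (s.map fun x => x.c * (x.f : ℤ)).sum = 0 → L + (s.map fun x => x.c * x.a).sum = 0 →
    (q : ℤ) + (s.map fun x => x.a * x.a).sum ≤ C →
    (d : ℤ) + (s.map fun x => (x.f : ℤ) * x.f).sum ≤ 244823040 → False := by
  intro r
  induction r with
  | zero =>
    intro l D L q d h s hs _ _ hD hL _ _
    rw [Multiset.card_eq_zero.1 hs] at hD hL
    simp only [Multiset.map_zero, Multiset.sum_zero, add_zero] at hD hL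
    simp [dead, hD, hL] at h
  | succ r ih =>
    intro l D L q d h s hs hsub hc hD hL hq hd
    have hno : ∀ B : List Tm, (∀ x ∈ s, x ∈ B) → prune C (r + 1) D L q (bound B) = false := by
      intro B hB
      rw [← Bool.not_eq_true]
      intro hp
      simp only [prune, Bool.or_eq_true, Nat.blt_eq, Bool.and_eq_true, Bool.not_eq_true', Nat.beq_eq] at hp
      have hQ : 0 ≤ (s.map fun x : Tm => x.a * x.a).sum := Multiset.sum_nonneg fun y hy => by
        obtain ⟨z, -, rfl⟩ := Multiset.mem_map.1 hy; exact mul_self_nonneg _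
      rcases hp with (hp | ⟨hp1, hp2⟩) | hp
      · have key : ∀ t : Multiset Tm, (∀ x ∈ t, x ∈ B ∧ (x.c = 1 ∨ x.c = -1)) →
            |(t.map fun x => x.c * (x.f : ℤ)).sum| ≤ (t.card : ℤ) * (bound B).1 := by
          intro t
          induction t using Multiset.induction_on with
          | empty => simp
          | cons x t iht =>
            intro ht
            simp only [Multiset.map_cons, Multiset.sum_cons, Multiset.card_cons, Nat.cast_succ]
            have h1 := iht fun y hy => ht y (Multiset.mem_cons_of_mem hy)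
            obtain ⟨hxB, hx⟩ := ht x (Multiset.mem_cons_self _ _)
            have h2 : (x.f : ℤ) ≤ (bound B).1 := by exact_mod_cast (bound_spec hxB).1
            have h3 : |x.c * (x.f : ℤ)| ≤ (bound B).1 := by
              rcases hx with e | e <;> rw [e] <;> simpa using h2
            calc _ ≤ |x.c * (x.f : ℤ)| + |(t.map fun x => x.c * (x.f : ℤ)).sum| := abs_add_le _ _
              _ ≤ _ := by rw [add_mul, one_mul]; linarith
        have h1 := key s fun x hx => ⟨hB x hx, hc x hx⟩
        rw [hs, show (s.map fun x => x.c * (x.f : ℤ)).sum = -D by linarith, abs_neg] at h1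
        have h2 : (((r + 1) * (bound B).1 : ℕ) : ℤ) < (D.natAbs : ℤ) := by exact_mod_cast hp
        rw [Int.natCast_natAbs] at h2
        push_cast at h2 h1
        linarith
      · have h2 : (2 : ℤ) ∣ (s.map fun x => x.c * (x.f : ℤ)).sum := Multiset.dvd_sum fun y hy => by
          obtain ⟨z, hz, rfl⟩ := Multiset.mem_map.1 hy
          exact Dvd.dvd.mul_left (by exact_mod_cast Nat.dvd_of_mod_eq_zero ((bound_spec (hB z hz)).2 hp1)) _
        omega
      · have h1 := sq_sum_le s hc
        rw [hs, show (s.map fun x => x.c * x.a).sum = -L by linarith, neg_sq] at h1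
        have h2 : (((r + 1) * (C - q) : ℕ) : ℤ) < ((L.natAbs * L.natAbs : ℕ) : ℤ) := by exact_mod_cast hp
        rw [Int.natAbs_mul_self, Nat.cast_mul, Nat.cast_sub (by omega)] at h2
        push_cast at h2 h1
        have h3 : ((r : ℤ) + 1) * (s.map fun x => x.a * x.a).sum ≤ ((r : ℤ) + 1) * ((C : ℤ) - q) :=
          mul_le_mul_of_nonneg_left (by linarith) (by positivity)
        nlinarith
    rw [dead, hno l hsub, Bool.false_or] at h
    obtain ⟨tl, htl, o, tr, rfl, ho, hin⟩ : ∃ tl ∈ l.tails, ∃ o tr, tl = o :: tr ∧ o ∈ s ∧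
        ∀ x ∈ s, x ∈ tl := by
      clear h hno
      induction l with
      | nil =>
        obtain ⟨x, hx⟩ := Multiset.exists_mem_of_ne_zero (fun h0 => by rw [h0] at hs; simp at hs : s ≠ 0)
        exact absurd (hsub x hx) (by simp)
      | cons a l iht =>
        by_cases ha : a ∈ s
        · exact ⟨a :: l, by simp, a, l, rfl, ha, hsub⟩
        · obtain ⟨tl, htl, rest⟩ := iht fun x hx => by
            rcases List.mem_cons.1 (hsub x hx) with rfl | hxl
            · exact absurd hx ha
            · exact hxl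
          exact ⟨tl, by rw [List.tails_cons]; exact List.mem_cons_of_mem _ htl, rest⟩
    obtain ⟨s', rfl⟩ := Multiset.exists_cons_of_mem ho
    have h1 := List.all_eq_true.1 h _ htl
    simp only [hno _ hin, Bool.false_or, Bool.or_eq_true, Bool.not_eq_true', ← Bool.not_eq_true,
      Bool.and_eq_true, Nat.ble_eq] at h1
    simp only [Multiset.map_cons, Multiset.sum_cons] at hD hL hq hd
    have nn1 : (0 : ℤ) ≤ (s'.map fun x : Tm => x.a * x.a).sum := Multiset.sum_nonneg fun y hy => by
      obtain ⟨z, -, rfl⟩ := Multiset.mem_map.1 hy; exact mul_self_nonneg _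
    have nn2 : (0 : ℤ) ≤ (s'.map fun x : Tm => (x.f : ℤ) * x.f).sum := Multiset.sum_nonneg fun y hy => by
      obtain ⟨z, -, rfl⟩ := Multiset.mem_map.1 hy; positivity
    have eq1 : ((o.a.natAbs * o.a.natAbs : ℕ) : ℤ) = o.a * o.a := Int.natAbs_mul_self
    have eq2 : ((o.f * o.f : ℕ) : ℤ) = (o.f : ℤ) * o.f := by push_cast; ring
    rcases h1 with h1 | h1
    · exact h1 ⟨by omega, by omega⟩
    · refine ih h1 s' (by simpa using hs) (fun x hx => hin x (Multiset.mem_cons_of_mem hx))
        (fun x hx => hc x (Multiset.mem_cons_of_mem hx)) ?_ ?_ ?_ ?_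
      · linear_combination hD
      · linear_combination hL
      · omega
      · omega

end Cfsg.Agent.M24Order
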