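import Cfsg.Agent.Lib.M24Order.Setup
import Cfsg.Agent.Lib.M24Order.Lists
import Cfsg.Agent.Lib.M23Order.Rows
import Cfsg.Agent.Lib.M24Order.TwentyThreeData

/-!
The column of a regular element on the rows of a principal block in a group of order 244823040, and the
exclusion by a search.
-/

set_option linter.unusedSectionVars false
set_option linter.style.haveILetI false

namespace Cfsg.Agent.M24Order

open Cfsg Cfsg.Agent.Char Cfsg.Agent.Blocks Cfsg.Agent.CCSylow Cfsg.Agent.DefOne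
open Cfsg.Agent.M23Order (Rows)

universe u

variable {G : Type u} [Group G] [Fintype G]

/-- A character of degree divisible by the prime `q` dividing the order once takes a value divisible by
`q` at an involution commuting with an element of order `q`. -/
theorem dvd_value {q : ℕ} [Fact q.Prime] (hq1 : (Nat.card G).factorization q = 1) (hq2 : q ≠ 2)
    {χ : IrrCharacter G} (hd : q ∣ charDegree (χ : G → ℂ)) {h i : G} (hh : orderOf h = q)
    (hi : orderOf i = 2) (hc : h * i = i * h) {a : ℤ} (ha : (χ : G → ℂ) i = a) : (q : ℤ) ∣ a := by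
  classical
  have hq : q.Prime := Fact.out
  have hfac : (charDegree (χ : G → ℂ)).factorization q = (Nat.card G).factorization q := by
    rw [hq1]
    refine le_antisymm ?_ ((hq.dvd_iff_one_le_factorization (charDegree_pos χ).ne').1 hd)
    rw [← hq1]
    exact (Nat.factorization_le_iff_dvd (charDegree_pos χ).ne' Nat.card_pos.ne').2 (charDegree_dvd_card χ) q
  set P := Subgroup.zpowers h
  set U := Subgroup.zpowers i
  haveI : Fintype P := Fintype.ofFinite _
  haveI : Fintype U := Fintype.ofFinite _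
  have hpv : ∀ y ∈ P, ∀ v ∈ U, y * v = v * y := by
    intro y hy v hv
    obtain ⟨k, rfl⟩ := Subgroup.mem_zpowers_iff.1 hy
    obtain ⟨l, rfl⟩ := Subgroup.mem_zpowers_iff.1 hv
    exact (Commute.zpow_zpow (hc : Commute h i) k l).eq
  obtain ⟨ψ, hψ, hv⟩ := M12Uniq.exists_fixed_character (IsIrrCharacter.isCharacter χ.2) P U hpv
  have hP : Nat.card P = q := by rw [Nat.card_zpowers, hh]
  have h1 := hv ⟨i, Subgroup.mem_zpowers i⟩
  rw [hP, ← Finset.add_sum_erase _ _ (Finset.mem_univ (1 : P)), OneMemClass.coe_one, one_mul, ha,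
    Finset.sum_eq_zero (fun y hy => ?_), add_zero] at h1
  swap
  · have hy1 : (y : G) ≠ 1 := fun e => Finset.ne_of_mem_erase hy (Subtype.ext e)
    have hyo : orderOf (y : G) = q := ((Nat.dvd_prime hq).1 (hP ▸ Subgroup.orderOf_dvd_natCard P y.2)).resolve_left
      (by rw [orderOf_eq_one_iff]; exact hy1)
    refine M23Order.vanish_singular hq hfac ?_
    have hyc : Commute (y : G) i := hpv _ y.2 _ (Subgroup.mem_zpowers i)
    rw [hyc.orderOf_mul_eq_mul_orderOf_of_coprime
      (by rw [hyo, hi]; exact (Nat.coprime_primes hq Nat.prime_two).2 hq2), hyo]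
    exact dvd_mul_right q _
  have hint := IsCharacter.isIntegral hψ ⟨i, Subgroup.mem_zpowers i⟩
  have hrat : ψ ⟨i, Subgroup.mem_zpowers i⟩ = (((a : ℚ) / q : ℚ) : ℂ) := by
    push_cast
    field_simp [Nat.cast_ne_zero.2 hq.ne_zero]
    linear_combination -h1
  rw [hrat] at hint
  obtain ⟨z, hz⟩ := exists_int_of_isIntegral hint
  refine ⟨z, ?_⟩
  rw [div_eq_iff (Nat.cast_ne_zero.2 hq.ne_zero)] at hz
  have h' : (a : ℚ) = (((q : ℤ) * z : ℤ) : ℚ) := by rw [hz]; push_cast; ring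
  exact_mod_cast h'

variable [IsSimpleGroup G] (hG : Nat.card G = 244823040) {p : ℕ} {P V N : Subgroup G} {e : ℕ}
  (K : Conf p P V N e) [Fintype P] [Fintype V] [Fintype N] [Fintype (P →* ℂˣ)] {M : Ideal AlgInt}
  [M.IsPrime] (hM : IsPModular p M) {k : ℕ} {S : Finset (IrrCharacter G)} {c : IrrCharacter G → ℤ}
  {t : IrrCharacter G} (R : Rows p e k P V M S c t)

include hG K hM R

/-- The value at an involution of the complement. -/
theorem value_at {χ : IrrCharacter G} (hχ : χ ∈ S) {i : G} (hi : i ∈ V) (hio : orderOf i = 2)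
    (hp : 2 < p) : ∃ a : ℤ, (χ : G → ℂ) i = a ∧ ((4 * p : ℕ) : ℤ) ∣ (charDegree (χ : G → ℂ) : ℤ) - a ∧
      |a| < (charDegree (χ : G → ℂ) : ℤ) := by
  obtain ⟨a, ha, h4, hlt⟩ := involution_range hG (fun e : χ = principal G => R.ne_one (e ▸ hχ)) hio
  refine ⟨a, ha, ?_, hlt⟩
  have hpd := M23Order.dvd_sub_value K hM (R.block χ hχ) hi ha
  refine Int.natCast_dvd.2 (Nat.Coprime.mul_dvd_of_dvd_of_dvd ?_ (Int.natCast_dvd.1 h4) (Int.natCast_dvd.1 hpd))
  exact Nat.Coprime.pow_left 2 ((Nat.coprime_primes Nat.prime_two K.hp).2 (by omega))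

omit hG hM in
/-- The multiplicity of the exceptional row. -/
theorem k_pos (hp : 2 < p) : 1 ≤ k := by
  rcases Nat.eq_zero_or_pos k with h | h
  · have := R.ek; rw [h] at this; omega
  · exact h

omit hM in
/-- The relations and bounds of a column of integral values. -/
theorem column (hp : 2 < p) {i : G} (hpi : ¬ p ∣ orderOf i) {a : IrrCharacter G → ℤ}
    (ha : ∀ χ ∈ S, (χ : G → ℂ) i = a χ) :
    (1 + ∑ χ ∈ S, c χ * (charDegree (χ : G → ℂ) : ℤ) = 0) ∧ (1 + ∑ χ ∈ S, c χ * a χ = 0) ∧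
      (1 + (∑ χ ∈ S, a χ ^ 2 + ((k : ℤ) - 1) * a t ^ 2) ≤
        (Nat.card (Subgroup.centralizer ({i} : Set G)) : ℤ)) ∧
      (1 + (∑ χ ∈ S, (charDegree (χ : G → ℂ) : ℤ) ^ 2 + ((k : ℤ) - 1) * (charDegree (t : G → ℂ) : ℤ) ^ 2) ≤
        244823040) ∧
      ∀ χ ∈ S, a χ ^ 2 ≤ (Nat.card (Subgroup.centralizer ({i} : Set G)) : ℤ) := by
  have hnorm := R.norm i hpi a ha
  refine ⟨?_, ?_, hnorm, ?_, fun χ h => ?_⟩
  · have h := R.relation 1 (by simpa using K.hp.ne_one)
    simp only [irr_one_eq_charDegree] at h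
    exact_mod_cast h
  · have h := R.relation i hpi
    rw [Finset.sum_congr rfl fun χ h => by rw [ha χ h]] at h
    exact_mod_cast h
  · have hsq := R.norm 1 (by simpa using K.hp.ne_one) (fun χ => (charDegree (χ : G → ℂ) : ℤ))
      (fun χ _ => by rw [irr_one_eq_charDegree]; push_cast; rfl)
    rwa [show Nat.card (Subgroup.centralizer ({(1 : G)} : Set G)) = 244823040 by
      rw [← hG, Subgroup.centralizer_eq_top_iff_subset.2 (by simp), Subgroup.card_top]] at hsq
  · have h1 := Finset.single_le_sum (f := fun χ => a χ ^ 2) (fun _ _ => sq_nonneg _) h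
    have h2 : 0 ≤ ((k : ℤ) - 1) * a t ^ 2 :=
      mul_nonneg (by have := k_pos K R hp; omega) (sq_nonneg _)
    linarith

omit hG hM in
/-- The coefficient of an ordinary row. -/
theorem coef_ord (hp : 2 < p) {χ : IrrCharacter G} (hχ : χ ∈ S) (hne : χ ≠ t) :
    c χ = sgP p (charDegree (χ : G → ℂ)) ∧
      (charDegree (χ : G → ℂ) % p = 1 ∨ charDegree (χ : G → ℂ) % p = p - 1) := by
  have h1 := R.congr χ hχ hne
  rw [sgP]
  rcases R.sign χ hχ with s | s <;> rw [s] at h1 ⊢ <;> rw [Int.ModEq] at h1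
  · rw [Int.emod_eq_of_lt (a := (1 : ℤ)) (by norm_num) (by omega)] at h1
    have h' : charDegree (χ : G → ℂ) % p = 1 := by exact_mod_cast h1
    exact ⟨by rw [if_pos h'], Or.inl h'⟩
  · rw [show (-1 : ℤ) % (p : ℤ) = ((p - 1 : ℕ) : ℤ) by
      rw [Int.neg_emod_eq_sub_emod, Int.emod_eq_of_lt (by omega) (by omega)]; omega] at h1
    have h' : charDegree (χ : G → ℂ) % p = p - 1 := by exact_mod_cast h1
    exact ⟨by rw [if_neg (by omega)], Or.inr h'⟩

omit hG hM in
/-- The coefficient of the exceptional row. -/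
theorem coef_exc (hp : 2 < p) : c t = excP p e (charDegree (t : G → ℂ)) ∧
    (charDegree (t : G → ℂ) % p = e ∨ charDegree (t : G → ℂ) % p = p - e) := by
  have hct := R.congr_t
  have he : 0 < e ∧ e < p := by
    have h1 := R.ek
    refine ⟨Nat.pos_of_ne_zero fun h => by rw [h] at h1; omega, ?_⟩
    have : e ≤ k * e := Nat.le_mul_of_pos_left _ (k_pos K R hp)
    omega
  rw [excP]
  rcases R.sign t R.mem_t with s | s <;> rw [s] at hct ⊢ <;> rw [Int.ModEq] at hct
  · rw [show -(1 : ℤ) * (e : ℤ) % (p : ℤ) = ((p - e : ℕ) : ℤ) by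
      rw [neg_mul, one_mul, Int.neg_emod_eq_sub_emod, Int.emod_eq_of_lt (by omega) (by omega)]; omega] at hct
    have h' : charDegree (t : G → ℂ) % p = p - e := by exact_mod_cast hct
    refine ⟨by rw [if_neg]; intro h; rw [h'] at h; rcases K.hp.eq_two_or_odd with h2 | h2 <;> omega, Or.inr h'⟩
  · rw [show -(-1 : ℤ) * (e : ℤ) % (p : ℤ) = (e : ℤ) by
      rw [neg_neg, one_mul, Int.emod_eq_of_lt (by omega) (by omega)]] at hct
    have h' : charDegree (t : G → ℂ) % p = e := by exact_mod_cast hct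
    exact ⟨by rw [if_pos h'], Or.inl h'⟩

/-- The data of one row at an involution of the complement, at the modulus `m`. -/
theorem mem_row (hp : 2 < p) {i : G} (hiV : i ∈ V) (hio : orderOf i = 2) {m : ℕ → ℕ}
    (hm : ∀ χ ∈ S, ∀ a : ℤ, (χ : G → ℂ) i = a → ((4 * p : ℕ) : ℤ) ∣ (charDegree (χ : G → ℂ) : ℤ) - a →
      ((m (charDegree (χ : G → ℂ)) : ℕ) : ℤ) ∣ (charDegree (χ : G → ℂ) : ℤ) - a)
    (hm0 : ∀ f, 0 < m f) : ∃ a : IrrCharacter G → ℤ, (∀ χ ∈ S, (χ : G → ℂ) i = a χ) ∧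
      (∀ χ ∈ S, χ ≠ t → (⟨charDegree (χ : G → ℂ), c χ, a χ⟩ : Tm) ∈
        terms (Nat.card (Subgroup.centralizer ({i} : Set G))) (pmDegs p 1) m (sgP p)) ∧
      (⟨charDegree (t : G → ℂ), c t, a t⟩ : Tm) ∈
        terms (Nat.card (Subgroup.centralizer ({i} : Set G))) (pmDegs p e) m (excP p e) := by
  classical
  have hval := fun χ (h : χ ∈ S) => value_at hG K hM R h hiV hio hp
  choose! a ha hadvd halt using hval
  have hpi : ¬ p ∣ orderOf i := by
    rw [hio]; exact fun h => absurd (Nat.le_of_dvd (by norm_num) h) (by omega)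
  obtain ⟨-, -, -, -, ha2⟩ := column hG K R hp hpi ha
  have hC : 244823040 / Nat.card (Subgroup.centralizer ({i} : Set G)) =
      (Subgroup.centralizer ({i} : Set G)).index :=
    Nat.div_eq_of_eq_mul_left Nat.card_pos (by rw [Subgroup.index_mul_card, hG])
  have hdeg : ∀ χ ∈ S, 2 ≤ charDegree (χ : G → ℂ) := fun χ h => by
    have := charDegree_pos χ
    have : charDegree (χ : G → ℂ) ≠ 1 := fun h1 => R.ne_one (eq_principal hG h1 ▸ h)
    omega
  have key : ∀ χ ∈ S, ∀ (ds : List ℕ) (coef : ℕ → ℤ), charDegree (χ : G → ℂ) ∈ ds →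
      c χ = coef (charDegree (χ : G → ℂ)) →
      (⟨charDegree (χ : G → ℂ), c χ, a χ⟩ : Tm) ∈
        terms (Nat.card (Subgroup.centralizer ({i} : Set G))) ds m coef := by
    intro χ h ds coef hd hc
    rw [hc]
    exact mem_terms hd (hm0 _) (halt χ h) (hm χ h _ (ha χ h) (hadvd χ h))
      (by rw [hC]; exact M12Uniq.dvd_index_mul χ (ha χ h)) (ha2 χ h)
  refine ⟨a, ha, fun χ h hne => ?_, ?_⟩
  · obtain ⟨h1, h2⟩ := coef_ord K R hp h hne
    exact key χ h _ _ (mem_pmDegs (hdeg χ h) (deg_facts hG χ).1 (deg_facts hG χ).2 h2) h1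
  · obtain ⟨h1, h2⟩ := coef_exc K R hp
    exact key t R.mem_t _ _ (mem_pmDegs (hdeg t R.mem_t) (deg_facts hG t).1 (deg_facts hG t).2 h2) h1

/-- A search with an exceptional row excludes the involution. -/
theorem false_of_deadK (hp : 2 < p) {i : G} (hiV : i ∈ V) (hio : orderOf i = 2) {m : ℕ → ℕ}
    (hm : ∀ χ ∈ S, ∀ a : ℤ, (χ : G → ℂ) i = a → ((4 * p : ℕ) : ℤ) ∣ (charDegree (χ : G → ℂ) : ℤ) - a →
      ((m (charDegree (χ : G → ℂ)) : ℕ) : ℤ) ∣ (charDegree (χ : G → ℂ) : ℤ) - a)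
    (hm0 : ∀ f, 0 < m f)
    (hdead : deadK (Nat.card (Subgroup.centralizer ({i} : Set G))) k (e - 1)
      (order (terms (Nat.card (Subgroup.centralizer ({i} : Set G))) (pmDegs p 1) m (sgP p)))
      (terms (Nat.card (Subgroup.centralizer ({i} : Set G))) (pmDegs p e) m (excP p e)) = true) : False := by
  classical
  obtain ⟨a, ha, hX, hT⟩ := mem_row hG K hM R hp hiV hio hm hm0
  have hpi : ¬ p ∣ orderOf i := by
    rw [hio]; exact fun h => absurd (Nat.le_of_dvd (by norm_num) h) (by omega)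
  obtain ⟨hD, hL, hq, hd, -⟩ := column hG K R hp hpi ha
  set C := Nat.card (Subgroup.centralizer ({i} : Set G))
  rw [← Finset.add_sum_erase _ _ R.mem_t] at hD hL hq hd
  have h := List.all_eq_true.1 hdead _ hT
  simp only [Bool.or_eq_true, Bool.not_eq_true', ← Bool.not_eq_true, Bool.and_eq_true, Nat.ble_eq] at h
  have nn : ∀ g : IrrCharacter G → ℤ, (0 : ℤ) ≤ ∑ χ ∈ S.erase t, g χ ^ 2 := fun g =>
    Finset.sum_nonneg fun _ _ => sq_nonneg _
  rcases h with h | h
  · refine h ⟨?_, ?_⟩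
    · have : ((1 + k * ((a t).natAbs * (a t).natAbs) : ℕ) : ℤ) ≤ (C : ℤ) := by
        rw [Nat.cast_add, Nat.cast_mul, Int.natAbs_mul_self, Nat.cast_one]
        have := nn a; nlinarith
      exact_mod_cast this
    · have : ((1 + k * (charDegree (t : G → ℂ) * charDegree (t : G → ℂ)) : ℕ) : ℤ) ≤ 244823040 := by
        push_cast
        have := nn fun χ => (charDegree (χ : G → ℂ) : ℤ); nlinarith
      exact_mod_cast this
  · refine dead_sound h ((S.erase t).val.map fun χ : IrrCharacter G => (⟨charDegree (χ : G → ℂ), c χ, a χ⟩ : Tm))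
      (by rw [Multiset.card_map, Finset.card_val, Finset.card_erase_of_mem R.mem_t, R.card])
      (fun x hx => by
        obtain ⟨χ, hχ, rfl⟩ := Multiset.mem_map.1 hx
        exact mem_order (hX χ (Finset.mem_of_mem_erase hχ) (Finset.ne_of_mem_erase hχ)))
      (fun x hx => by
        obtain ⟨χ, hχ, rfl⟩ := Multiset.mem_map.1 hx
        exact R.sign χ (Finset.mem_of_mem_erase hχ)) ?_ ?_ ?_ ?_
    · rw [Multiset.map_map]; change _ + ∑ χ ∈ S.erase t, c χ * (charDegree (χ : G → ℂ) : ℤ) = 0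
      linarith
    · rw [Multiset.map_map]; change _ + ∑ χ ∈ S.erase t, c χ * a χ = 0
      linarith
    · rw [Multiset.map_map]; change _ + ∑ χ ∈ S.erase t, a χ * a χ ≤ _
      rw [Nat.cast_add, Nat.cast_mul, Int.natAbs_mul_self, Nat.cast_one]
      simp only [← sq] at hq ⊢
      nlinarith
    · rw [Multiset.map_map]; change _ + ∑ χ ∈ S.erase t, (charDegree (χ : G → ℂ) : ℤ) * charDegree (χ : G → ℂ) ≤ _
      push_cast
      simp only [← sq] at hd ⊢
      nlinarith

/-- A search without an exceptional row excludes the involution. -/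
theorem false_of_dead (hp : 2 < p) (hk : k = 1) {i : G} (hiV : i ∈ V) (hio : orderOf i = 2) {m : ℕ → ℕ}
    (hm : ∀ χ ∈ S, ∀ a : ℤ, (χ : G → ℂ) i = a → ((4 * p : ℕ) : ℤ) ∣ (charDegree (χ : G → ℂ) : ℤ) - a →
      ((m (charDegree (χ : G → ℂ)) : ℕ) : ℤ) ∣ (charDegree (χ : G → ℂ) : ℤ) - a)
    (hm0 : ∀ f, 0 < m f)
    (hdead : dead (Nat.card (Subgroup.centralizer ({i} : Set G))) e
      (order (terms (Nat.card (Subgroup.centralizer ({i} : Set G))) (pmDegs p 1) m (sgP p))) 1 1 1 1 = true) :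
    False := by
  classical
  obtain ⟨a, ha, hX, hT⟩ := mem_row hG K hM R hp hiV hio hm hm0
  have hpi : ¬ p ∣ orderOf i := by
    rw [hio]; exact fun h => absurd (Nat.le_of_dvd (by norm_num) h) (by omega)
  obtain ⟨hD, hL, hq, hd, -⟩ := column hG K R hp hpi ha
  set C := Nat.card (Subgroup.centralizer ({i} : Set G))
  subst hk
  simp only [Nat.cast_one, sub_self, zero_mul, add_zero] at hq hd
  have he : e = p - 1 := by have := R.ek; omega
  have hmem : ∀ χ ∈ S, (⟨charDegree (χ : G → ℂ), c χ, a χ⟩ : Tm) ∈ terms C (pmDegs p 1) m (sgP p) := by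
    intro χ h
    by_cases hne : χ = t
    · subst hne
      obtain ⟨f, hf, hfm⟩ := List.mem_flatMap.1 hT
      obtain ⟨b, hb, hfb⟩ := List.mem_map.1 hfm
      simp only [Tm.mk.injEq] at hfb
      obtain ⟨rfl, hc, rfl⟩ := hfb
      obtain ⟨hf1, hf2⟩ := List.mem_filter.1 hf
      simp only [Bool.and_eq_true, Bool.or_eq_true, Nat.beq_eq] at hf2
      have hmodf : charDegree (χ : G → ℂ) % p = 1 ∨ charDegree (χ : G → ℂ) % p = p - 1 := by
        subst he; rcases hf2.2 with h | h <;> omega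
      refine List.mem_flatMap.2 ⟨_, List.mem_filter.2 ⟨hf1, ?_⟩, List.mem_map.2 ⟨_, hb, ?_⟩⟩
      · simp only [Bool.and_eq_true, Bool.or_eq_true, Nat.beq_eq]
        exact ⟨hf2.1, hmodf⟩
      · rw [← hc, excP, sgP]
        subst he
        congr 1
        rcases hmodf with h | h
        · rw [if_pos h, if_neg (by omega)]
        · rw [if_neg (by omega), if_pos h]
    · exact hX χ h hne
  refine dead_sound hdead (S.val.map fun χ : IrrCharacter G => (⟨charDegree (χ : G → ℂ), c χ, a χ⟩ : Tm))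
    (by rw [Multiset.card_map, Finset.card_val, R.card])
    (fun x hx => by obtain ⟨χ, hχ, rfl⟩ := Multiset.mem_map.1 hx; exact mem_order (hmem χ hχ))
    (fun x hx => by obtain ⟨χ, hχ, rfl⟩ := Multiset.mem_map.1 hx; exact R.sign χ hχ) ?_ ?_ ?_ ?_
  · rw [Multiset.map_map]; exact hD
  · rw [Multiset.map_map]; exact hL
  · rw [Multiset.map_map]; change _ + ∑ χ ∈ S, a χ * a χ ≤ _
    simpa only [← sq, Nat.cast_one] using hq
  · rw [Multiset.map_map]
    change _ + ∑ χ ∈ S, (charDegree (χ : G → ℂ) : ℤ) * charDegree (χ : G → ℂ) ≤ _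
    simpa only [← sq, Nat.cast_one] using hd

end Cfsg.Agent.M24Order
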