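import Cfsg.Agent.Lib.M24Order.TwentyThree
import Cfsg.Agent.Lib.M23Order.DegTwentyThree

/-!
Consequences of a centralizer of order 23: degrees modulo 23 and the values at an element of order 23.
-/

set_option linter.unusedSectionVars false
set_option linter.style.haveILetI false

namespace Cfsg.Agent.M24Order

open Cfsg.Agent.M23Order (Rows exists_rows mem_principal deg_cases not_dvd_other)
open Cfsg Cfsg.Agent.Char Cfsg.Agent.Blocks Cfsg.Agent.CCSylow Cfsg.Agent.DefOne

open scoped ComplexConjugate

universe u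

variable {G : Type u} [Group G] [Fintype G]

variable [IsSimpleGroup G] (hG : Nat.card G = 244823040)
  {P V N : Subgroup G} (K : Conf 23 P V N 11) (hV : Nat.card V = 1)
  [Fintype P] [Fintype V] [Fintype N] [Fintype (P →* ℂˣ)] {M : Ideal AlgInt} [M.IsPrime]
  (hM : IsPModular 23 M)

include hG K hV hM

/-- The residues of the degrees modulo twenty-three. -/
theorem deg_mod (χ : IrrCharacter G) :
    charDegree (χ : G → ℂ) % 23 ∈ ([0, 1, 22, 11, 12] : List ℕ) := by
  by_cases h : 23 ∣ charDegree (χ : G → ℂ)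
  · simp [Nat.mod_eq_zero_of_dvd h]
  obtain ⟨k, S, c, t, R⟩ := exists_rows hM (by norm_num) K
  have hk : k * 11 = 22 := R.ek
  have hχ := mem_principal K hV hM h
  have hmem : ∀ ψ : IrrCharacter G, ψ ∈ S → charDegree (ψ : G → ℂ) % 23 ∈ ([0, 1, 22, 11, 12] : List ℕ) := by
    intro ψ hψ
    by_cases hψt : ψ = t
    · have h1 := R.congr_t
      rw [Int.ModEq] at h1
      subst hψt
      rcases R.sign ψ hψ with s | s <;> rw [s] at h1 <;> simp <;> omega
    · have h1 := R.congr ψ hψ hψt
      rw [Int.ModEq] at h1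
      rcases R.sign ψ hψ with s | s <;> rw [s] at h1 <;> simp <;> omega
  rcases R.cases χ hχ with h1 | h1 | ⟨σ, -, h1⟩
  · rw [h1, show charDegree (principal G : G → ℂ) = 1 from Cfsg.Agent.CharX.charDegree_one]; simp
  · exact hmem χ h1
  · have h2 := DefOne.galT_one σ t
    rw [h1, irr_one_eq_charDegree, irr_one_eq_charDegree] at h2
    rw [show charDegree (χ : G → ℂ) = charDegree (t : G → ℂ) by exact_mod_cast h2]
    exact hmem t R.mem_t

/-- A degree congruent to one or minus one has that value as its component. -/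
theorem phi_unit {χ : IrrCharacter G} (h : charDegree (χ : G → ℂ) % 23 = 1 ∨ charDegree (χ : G → ℂ) % 23 = 22)
    {y : P} (hy : y ≠ 1) : phi (χ : G → ℂ) (trivB V) y = (sgP 23 (charDegree (χ : G → ℂ)) : ℂ) := by
  obtain ⟨k, S, c, t, R⟩ := exists_rows hM (by norm_num) K
  have hk : k * 11 = 22 := R.ek
  have hχ := mem_principal K hV hM (χ := χ) (fun h' => by have := Nat.mod_eq_zero_of_dvd h'; omega)
  have ht : charDegree (t : G → ℂ) % 23 = 11 ∨ charDegree (t : G → ℂ) % 23 = 12 := by
    have h1 := R.congr_t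
    rw [Int.ModEq] at h1
    rcases R.sign t R.mem_t with s | s <;> rw [s] at h1 <;> omega
  rcases R.cases χ hχ with h1 | h1 | ⟨σ, -, h1⟩
  · subst h1
    rw [phi_principal K hM hχ hy, show charDegree (principal G : G → ℂ) = 1 from Cfsg.Agent.CharX.charDegree_one]
    simp [sgP, principal]
  · have hne : χ ≠ t := fun e => by rw [e] at h; omega
    rw [R.phi_eq χ h1 (Or.inl hne) y hy]
    have h2 := R.congr χ h1 hne
    rw [Int.ModEq] at h2
    congr 1
    rcases R.sign χ h1 with s | s <;> rw [s] at h2 ⊢ <;> simp only [sgP] <;> split_ifs <;> omega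
  · exfalso
    have h2 := DefOne.galT_one σ t
    rw [h1, irr_one_eq_charDegree, irr_one_eq_charDegree] at h2
    have : charDegree (χ : G → ℂ) = charDegree (t : G → ℂ) := by exact_mod_cast h2
    omega

omit hV in
/-- A degree divisible by twenty-three has no component. -/
theorem phi_zero {χ : IrrCharacter G} (h : 23 ∣ charDegree (χ : G → ℂ)) {y : P} (hy : y ≠ 1) :
    phi (χ : G → ℂ) (trivB V) y = 0 := by
  simp [phi, section_zero_of_dvd K hM h hy]

end Cfsg.Agent.M24Order
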