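import Cfsg.Agent.Lib.M24Order.ElevenTen
import Cfsg.Agent.Lib.M23Order.Square

/-!
A group of order 244823040 with a full action at eleven: the complement is trivial.
-/

set_option linter.unusedSectionVars false
set_option linter.style.haveILetI false

namespace Cfsg.Agent.M24Order

open Cfsg Cfsg.Agent.Char Cfsg.Agent.Blocks Cfsg.Agent.CCSylow Cfsg.Agent.DefOne
open Cfsg.Agent.M23Order (Rows exists_rows pairs inverters isSquare_of_sq_mul)

open scoped ComplexConjugate

universe u

/-- The possible parts of the index at eleven and seven. -/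
theorem parts_fifty_six : allDivs.all (fun a =>
    (!(Nat.beq (39744 % a) 0 && Nat.beq (a % 11) 1 && Nat.beq (39744 / a % 7) 1 && Nat.ble 2 (39744 / a)) ||
      Nat.beq a 12) &&
    (!(Nat.beq (317952 % a) 0 && Nat.beq (a % 11) 1 && Nat.beq (317952 / a % 7) 1 && Nat.ble 2 (317952 / a)) ||
      Nat.beq a 12 || Nat.beq a 39744)) = true := by
  decide +kernel

/-- The degrees with an admissible residue at twenty-three. -/
def degsSeven : List ℕ :=
  degList fun d => ([0, 1, 22, 11, 12] : List ℕ).contains (d % 23)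

/-- Two rows at seven: the degrees are 22 and 23. -/
theorem pair_seven : degsSeven.all (fun f => degsSeven.all fun g =>
    (([(1, 1), (1, -1), (-1, 1), (-1, -1)] : List (ℤ × ℤ)).all fun s =>
      !(decide (((f : ℤ) - s.1) % 7 = 0) && decide (((g : ℤ) + 2 * s.2) % 7 = 0) &&
        decide (1 + s.1 * f + s.2 * g = 0)) ||
      (Nat.beq f 22 && Nat.beq g 23 && decide (s = (1, -1))))) = true := by
  decide +kernel

variable {G : Type u} [Group G] [Fintype G]

/-- A subgroup of index eight is normal only if it is everything. -/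
theorem card_dvd_of_index [IsSimpleGroup G] {H : Subgroup G} (h1 : H ≠ ⊤) :
    Nat.card G ∣ Nat.factorial H.index := by
  classical
  have hker : (MulAction.toPermHom G (G ⧸ H)).ker = ⊥ := by
    rcases (MonoidHom.normal_ker (MulAction.toPermHom G (G ⧸ H))).eq_bot_or_eq_top with h | h
    · exact h
    · exact (h1 (top_le_iff.1 (h ▸ (Subgroup.normalCore_eq_ker H ▸ Subgroup.normalCore_le H)))).elim
  have h := Subgroup.card_dvd_of_injective _ ((MonoidHom.ker_eq_bot_iff _).1 hker)
  rwa [Nat.card_perm, ← Subgroup.index] at h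

variable [IsSimpleGroup G] (hG : Nat.card G = 244823040)

section Two

variable {p : ℕ} {P V N : Subgroup G} (K : Conf p P V N 2)
  [Fintype P] [Fintype V] [Fintype N] [Fintype (P →* ℂˣ)] {M : Ideal AlgInt} [M.IsPrime]
  {k : ℕ} {S : Finset (IrrCharacter G)} {c : IrrCharacter G → ℤ}
  {t χ : IrrCharacter G} (R : Rows p 2 k P V M S c t)

include hG K R

/-- For an action of order two with rows of degrees `f` and `f + 1`. -/
theorem square_of_two (hp : 2 < p) (hS : S.erase t = {χ}) (hcχ : c χ = 1) (hct : c t = -1)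
    (hft : charDegree (t : G → ℂ) = charDegree (χ : G → ℂ) + 1) :
    IsSquare (p * Nat.card V * 244823040 * (charDegree (χ : G → ℂ) * charDegree (t : G → ℂ))) := by
  classical
  haveI : Fact (Nat.Prime 2) := ⟨Nat.prime_two⟩
  obtain ⟨i, hio⟩ := exists_prime_orderOf_dvd_card' (G := G) 2 (by rw [hG]; norm_num)
  have hii : i * i = 1 := by rw [← pow_two, ← hio, pow_orderOf_eq_one]
  have hpi : ¬ p ∣ orderOf i := by
    rw [hio]; exact fun h => absurd (Nat.le_of_dvd (by norm_num) h) (by omega)
  obtain ⟨y, hy⟩ := exists_ne_one_P K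
  have hχS : χ ∈ S := by
    have : χ ∈ S.erase t := by rw [hS]; exact Finset.mem_singleton_self _
    exact Finset.mem_of_mem_erase this
  obtain ⟨a, ha, -, hlt⟩ := involution_range hG (fun e : χ = principal G => R.ne_one (e ▸ hχS)) hio
  set f := charDegree (χ : G → ℂ) with hf
  set g := charDegree (t : G → ℂ) with hg
  have hsum : ∀ F : IrrCharacter G → ℂ, ∑ ψ ∈ S, (c ψ : ℂ) * F ψ = -F t + F χ := fun F => by
    rw [← Finset.add_sum_erase _ _ R.mem_t, hS, Finset.sum_singleton, hcχ, hct]; push_cast; ring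
  have hb : (t : G → ℂ) i = (a : ℂ) + 1 := by
    have h := R.relation i hpi
    rw [hsum, ha] at h
    linear_combination -h
  have h := pairs K hp hy hii hii
  rw [hG, show (∑ ψ : IrrCharacter G, (ψ : G → ℂ) i * (ψ : G → ℂ) i * conj (phi (ψ : G → ℂ) (trivB V) y) /
      (ψ : G → ℂ) 1) = ∑ ψ : IrrCharacter G, (ψ : G → ℂ) i * (ψ : G → ℂ) i / (ψ : G → ℂ) 1 *
        conj (phi (ψ : G → ℂ) (trivB V) y) from Finset.sum_congr rfl fun ψ _ => by ring,
    R.sum_phi (fun ψ => (ψ : G → ℂ) i * (ψ : G → ℂ) i / (ψ : G → ℂ) 1) (fun σ hσ ψ => by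
      rw [galT_apply, galT_one, irr_regular_fixed hσ ψ hpi]) y hy, hsum, ha, hb, irr_one_eq_charDegree t,
    irr_one_eq_charDegree χ, show (principal G : G → ℂ) i = 1 from rfl,
    show (principal G : G → ℂ) 1 = 1 from rfl, ← hf, ← hg] at h
  set C := Nat.card (Subgroup.centralizer ({i} : Set G))
  set m := inverters (y : G) i
  set v := Nat.card V
  have hgq : (g : ℂ) = (f : ℂ) + 1 := by rw [hft]; push_cast; rfl
  have hf0 : (f : ℂ) ≠ 0 := Nat.cast_ne_zero.2 (charDegree_pos χ).ne'
  have hg0 : (g : ℂ) ≠ 0 := Nat.cast_ne_zero.2 (charDegree_pos t).ne'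
  have key : ((C * m * (f * g) : ℕ) : ℂ) * ((C * m * (f * g) : ℕ) : ℂ) =
      ((p * v * 244823040 * (f * g) : ℕ) : ℂ) * (((f : ℤ) - a : ℤ) : ℂ) * (((f : ℤ) - a : ℤ) : ℂ) := by
    push_cast at h ⊢
    rw [show (C : ℂ) * m * (f * g) * (C * m * (f * g)) = (C : ℂ) * C * (m * m) * ((f * g) * (f * g)) by ring, h]
    field_simp
    rw [hgq]
    ring
  have hB : ((f : ℤ) - a).natAbs ≠ 0 := by
    rw [abs_lt] at hlt; omega
  refine isSquare_of_sq_mul hB (A := C * m * (f * g)) ?_
  have hz : ((C * m * (f * g) * (C * m * (f * g)) : ℕ) : ℤ) =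
      ((p * v * 244823040 * (f * g) * (((f : ℤ) - a).natAbs * ((f : ℤ) - a).natAbs) : ℕ) : ℤ) := by
    rw [Nat.cast_mul (p * v * 244823040 * (f * g)), Int.natAbs_mul_self]
    refine Int.cast_injective (α := ℂ) ?_
    push_cast at key ⊢
    linear_combination key
  exact_mod_cast hz

end Two

include hG

/-- An action of order two at seven does not have a complement of order 5280 or 660. -/
theorem seven_two_false [Fact (Nat.Prime 7)] {P V N : Subgroup G} (K : Conf 7 P V N 2)
    (hv : Nat.card V = 5280 ∨ Nat.card V = 660) : False := by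
  classical
  haveI : Fintype P := Fintype.ofFinite _
  haveI : Fintype V := Fintype.ofFinite _
  haveI : Fintype N := Fintype.ofFinite _
  haveI : Fintype (P →* ℂˣ) := Fintype.ofFinite _
  obtain ⟨M, hM⟩ := exists_isPModular_witness 7
  haveI := IsPModular.isPrime hM
  obtain ⟨k, S, c, t, R⟩ := exists_rows hM (by norm_num) K
  obtain ⟨χ, hχ⟩ := Finset.card_eq_one.1
    (show (S.erase t).card = 1 by rw [Finset.card_erase_of_mem R.mem_t, R.card])
  obtain ⟨hne, hχS⟩ := Finset.mem_erase.1 (show χ ∈ S.erase t by rw [hχ]; exact Finset.mem_singleton_self _)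
  obtain ⟨P', hP', hres⟩ := sums23 hG
  haveI : Fintype P' := Fintype.ofFinite _
  have hdeg : ∀ ψ ∈ S, charDegree (ψ : G → ℂ) ∈ degsSeven := by
    intro ψ hψ
    obtain ⟨hf, hdvd⟩ := deg_facts hG ψ
    obtain ⟨A, -, hr, -⟩ := hres ψ
    have h2 : 2 ≤ charDegree (ψ : G → ℂ) := by
      have h0 := charDegree_pos ψ
      by_contra h
      exact R.ne_one (eq_principal hG (show charDegree (ψ : G → ℂ) = 1 by omega) ▸ hψ)
    refine List.mem_filter.2 ⟨mem_allDivs hdvd, ?_⟩
    simp only [Bool.and_eq_true, Nat.ble_eq, List.contains_eq_mem, decide_eq_true_eq]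
    exact ⟨⟨h2, hf⟩, hr⟩
  have hD : 1 + c t * (charDegree (t : G → ℂ) : ℤ) + c χ * (charDegree (χ : G → ℂ) : ℤ) = 0 := by
    have h := R.relation 1 (by simp)
    rw [← Finset.add_sum_erase _ _ R.mem_t, hχ, Finset.sum_singleton] at h
    simp only [irr_one_eq_charDegree] at h
    rw [add_assoc]
    exact_mod_cast h
  have h := List.all_eq_true.1 (List.all_eq_true.1 (List.all_eq_true.1 pair_seven _ (hdeg χ hχS))
    _ (hdeg t R.mem_t)) (c χ, c t) (by
      rcases R.sign χ hχS with s | s <;> rcases R.sign t R.mem_t with s' | s' <;> rw [s, s'] <;> simp)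
  simp only [Bool.or_eq_true, Bool.not_eq_true', ← Bool.not_eq_true, Bool.and_eq_true, Nat.beq_eq,
    decide_eq_true_eq, Prod.mk.injEq] at h
  obtain ⟨⟨hf, hg⟩, hcχ, hct⟩ := h.resolve_left fun h' => h' ⟨⟨
    Int.emod_eq_zero_of_dvd (Int.modEq_iff_dvd.1 (R.congr χ hχS hne).symm),
    Int.emod_eq_zero_of_dvd (by
      have h1 := Int.modEq_iff_dvd.1 R.congr_t.symm
      push_cast at h1
      convert h1 using 1
      ring)⟩, by linarith⟩
  have h := square_of_two hG K R (by norm_num) hχ hcχ hct (by rw [hf, hg])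
  rw [hf, hg] at h
  obtain ⟨r, hr⟩ := h
  rcases hv with e | e <;> rw [e] at hr <;> norm_num at hr
  · rcases le_or_gt r 67665513 with h | h
    · have := Nat.mul_le_mul h h; omega
    · have := Nat.mul_le_mul (Nat.succ_le_of_lt h) (Nat.succ_le_of_lt h); omega
  · rcases le_or_gt r 23923371 with h | h
    · have := Nat.mul_le_mul h h; omega
    · have := Nat.mul_le_mul (Nat.succ_le_of_lt h) (Nat.succ_le_of_lt h); omega

variable {P : Sylow 11 G} {V : Subgroup G}
  (K : Conf 11 (P : Subgroup G) V (Subgroup.normalizer ((P : Subgroup G) : Set G)) 10)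

include K

/-- The complement is not of order 56. -/
theorem fifty_six_false (hv : Nat.card V = 56) : False := by
  classical
  haveI : Fact (Nat.Prime 11) := ⟨by norm_num⟩
  haveI : Fact (Nat.Prime 7) := ⟨by norm_num⟩
  set N := Subgroup.normalizer ((P : Subgroup G) : Set G) with hNdef
  have hN : Nat.card N = 6160 := by rw [K.D.hcard, K.hP, hv]
  -- a Sylow subgroup at seven centralizing `P`
  obtain ⟨U⟩ : Nonempty (Sylow 7 V) := inferInstance
  have hUc : Nat.card U = 7 := by
    rw [U.card_eq_multiplicity, hv, show (56 : ℕ) = 7 ^ 1 * 8 from rfl,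
      Nat.factorization_mul (by norm_num) (by norm_num), Finsupp.add_apply,
      Nat.Prime.factorization_pow (by norm_num : Nat.Prime 7), Finsupp.single_eq_same,
      Nat.factorization_eq_zero_of_not_dvd (by norm_num), add_zero, pow_one]
  set R : Subgroup G := (U : Subgroup V).map V.subtype with hR
  have hRc : Nat.card R = 7 := by rw [hR, Subgroup.card_map_of_injective V.subtype_injective]; exact hUc
  let T : Sylow 7 G := Sylow.ofCard R (by rw [hRc, hG, fact_seven, pow_one])
  have hT : (T : Subgroup G) = R := Sylow.coe_ofCard _ _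
  have hTc : Nat.card T = 7 := by
    change Nat.card (T : Subgroup G) = 7
    rw [hT, hRc]
  have hTV : (T : Subgroup G) ≤ V := hT ▸ Subgroup.map_subtype_le _
  set M := Subgroup.normalizer ((T : Subgroup G) : Set G) with hMdef
  set C := Subgroup.centralizer ((T : Subgroup G) : Set G) with hCdef
  have hPC : (P : Subgroup G) ≤ C := fun y hy =>
    Subgroup.mem_centralizer_iff.2 fun t ht => (K.D.pv y hy t (hTV ht)).symm
  have hCM : C ≤ M := Subgroup.centralizer_le_normalizer _
  have hPM : (P : Subgroup G) ≤ M := hPC.trans hCM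
  have hTN : (T : Subgroup G) ≤ N := hTV.trans (V_le_N K)
  -- the part outside the intersection
  set m := Nat.card (N ⊓ M : Subgroup G) with hm
  obtain ⟨a', ha', ha'7⟩ := index_part T hTN
  rw [hN, ← hMdef, inf_comm, ← hm] at ha'
  have h11 : 11 ∣ m := K.hP ▸ Subgroup.card_dvd_of_le (le_inf Subgroup.le_normalizer hPM)
  have h7 : 7 ∣ m := hTc ▸ Subgroup.card_dvd_of_le (le_inf hTN Subgroup.le_normalizer)
  have hm' : m = 6160 ∨ m = 770 := by
    obtain ⟨q, hq⟩ : 77 ∣ m := Nat.Coprime.mul_dvd_of_dvd_of_dvd (by norm_num : Nat.Coprime 7 11) h7 h11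
    have hq80 : a' * q = 80 := by rw [hq] at ha'; linarith
    have : a' ∈ Nat.divisors 80 := Nat.mem_divisors.2 ⟨⟨q, hq80.symm⟩, by norm_num⟩
    rw [show Nat.divisors 80 = {1, 2, 4, 5, 8, 10, 16, 20, 40, 80} by decide] at this
    simp only [Finset.mem_insert, Finset.mem_singleton] at this
    rcases this with rfl | rfl | rfl | rfl | rfl | rfl | rfl | rfl | rfl | rfl <;> omega
  obtain ⟨a, ha, ha11⟩ := index_part P hPM
  rw [← hNdef, ← hm] at ha
  have hb7 : M.index % 7 = 1 := by
    have h := card_sylow_modEq_one 7 G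
    rw [T.card_eq_index_normalizer] at h
    exact h
  have hb1 : M ≠ ⊤ := fun h => by
    rcases (Subgroup.normalizer_eq_top_iff.1 h).eq_bot_or_eq_top with e | e
    · rw [e, Subgroup.card_bot] at hTc; omega
    · rw [e, Subgroup.card_top, hG] at hTc; omega
  have hb2 : 2 ≤ M.index := by
    by_contra h
    have := Subgroup.index_ne_zero_of_finite (H := M)
    exact hb1 (Subgroup.index_eq_one.1 (by omega))
  have hb : M.index * (a * m) = 244823040 := by rw [← ha, Subgroup.index_mul_card, hG]
  have hab : (m = 6160 ∧ M.index * a = 39744) ∨ (m = 770 ∧ M.index * a = 317952) := by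
    rcases hm' with e | e <;> rw [e] at hb
    · left; exact ⟨e, by linarith⟩
    · right; exact ⟨e, by linarith⟩
  have hapos : 0 < a := Nat.pos_of_ne_zero fun e => by rw [e] at ha11; omega
  have ha12 : a = 12 := by
    have h := List.all_eq_true.1 parts_fifty_six a
      (mem_allDivs ⟨M.index * m, by rw [← hb]; ring⟩)
    simp only [Bool.or_eq_true, Bool.not_eq_true', ← Bool.not_eq_true, Bool.and_eq_true, Nat.beq_eq,
      Nat.ble_eq] at h
    rcases hab with ⟨-, e⟩ | ⟨-, e⟩ <;> rw [← e] at h <;>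
      rw [Nat.mul_mod_left, Nat.mul_div_cancel _ hapos] at h
    · exact h.1.resolve_left fun h' => h' ⟨⟨⟨rfl, ha11⟩, hb7⟩, hb2⟩
    · rcases h.2 with (h' | h') | h'
      · exact absurd ⟨⟨⟨rfl, ha11⟩, hb7⟩, hb2⟩ h'
      · exact h'
      · exfalso
        have h8 : M.index = 8 := by rw [h'] at e; omega
        have hd := card_dvd_of_index hb1
        rw [h8, hG] at hd
        norm_num [Nat.factorial] at hd
  -- the configuration at seven
  obtain ⟨V7, e, K7, he⟩ := exists_conf (by norm_num : Nat.Prime 7) T hTc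
  haveI : Fintype (T : Subgroup G) := Fintype.ofFinite _
  haveI : Fintype V7 := Fintype.ofFinite _
  haveI : Fintype (Subgroup.normalizer ((T : Subgroup G) : Set G)) := Fintype.ofFinite _
  haveI : Fintype ((T : Subgroup G) →* ℂˣ) := Fintype.ofFinite _
  have he6 : e ∣ 6 := by
    have h := dvd_card_sub_one K7.D
    rwa [K7.hP] at h
  have he1 := e_ne_one hG (by norm_num) K7
  have he3 : ¬ 3 ∣ e := by
    intro h3
    haveI : Fact (Nat.Prime 3) := ⟨Nat.prime_three⟩
    haveI hn : (C.subgroupOf M).Normal := ⟨fun x hx g => by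
      refine Subgroup.mem_centralizer_iff.2 fun t ht => ?_
      have h1 : (g : G)⁻¹ * t * g ∈ (T : Subgroup G) := by
        have := (Subgroup.mem_normalizer_iff.1 (inv_mem g.2) t).1 ht
        rwa [inv_inv] at this
      have h2 : ((g : G)⁻¹ * t * g) * (x : G) = (x : G) * ((g : G)⁻¹ * t * g) :=
        Subgroup.mem_centralizer_iff.1 hx _ h1
      change t * ((g : G) * x * (g : G)⁻¹) = (g : G) * x * (g : G)⁻¹ * t
      calc t * ((g : G) * x * (g : G)⁻¹) = g * (((g : G)⁻¹ * t * g) * x) * (g : G)⁻¹ := by group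
        _ = g * ((x : G) * ((g : G)⁻¹ * t * g)) * (g : G)⁻¹ := by rw [h2]
        _ = g * x * (g : G)⁻¹ * t := by group⟩
    obtain ⟨q, hq⟩ := exists_prime_orderOf_dvd_card' (G := M ⧸ C.subgroupOf M) 3 (by
      rw [← Subgroup.index_eq_card]
      change 3 ∣ C.relIndex M
      rwa [← he])
    obtain ⟨g, rfl⟩ := QuotientGroup.mk'_surjective (C.subgroupOf M) q
    -- a Frattini decomposition
    have hgP : ((g : G) • P : Sylow 11 G).toSubgroup ≤ C := by
      intro y hy
      rw [Sylow.coe_subgroup_smul, Subgroup.mem_pointwise_smul_iff_inv_smul_mem] at hy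
      have hyC : (MulAut.conj (g : G))⁻¹ • y ∈ C := hPC hy
      rw [← map_inv, MulAut.smul_def, MulAut.conj_apply, inv_inv] at hyC
      have h := hn.conj_mem ⟨(g : G)⁻¹ * y * g, hCM hyC⟩ hyC g
      simpa [Subgroup.mem_subgroupOf, mul_assoc] using h
    obtain ⟨d, hd⟩ := MulAction.exists_smul_eq C (P.subtype hPC) (((g : G) • P : Sylow 11 G).subtype hgP)
    rw [Sylow.smul_subtype hPC d] at hd
    have hd' : ((d : G) • P : Sylow 11 G) = (g : G) • P := Sylow.subtype_injective hd
    have hn0 : (d : G)⁻¹ * g ∈ (N ⊓ M : Subgroup G) := by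
      refine ⟨Sylow.smul_eq_iff_mem_normalizer.1 ?_, M.mul_mem (M.inv_mem (hCM d.2)) g.2⟩
      rw [mul_smul, ← hd', inv_smul_smul]
    have hone : ((d : G)⁻¹ * g) ^ m = 1 :=
      congrArg Subtype.val (pow_card_eq_one' (x := (⟨_, hn0⟩ : (N ⊓ M : Subgroup G))))
    have hgm : (QuotientGroup.mk' (C.subgroupOf M) g) ^ m = 1 := by
      have heq : g = ⟨d, hCM d.2⟩ * ⟨(d : G)⁻¹ * g, hn0.2⟩ := Subtype.ext (by simp)
      rw [heq, map_mul, show QuotientGroup.mk' (C.subgroupOf M) ⟨d, hCM d.2⟩ = 1 from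
        (QuotientGroup.eq_one_iff _).2 d.2, one_mul, ← map_pow]
      rw [show (⟨(d : G)⁻¹ * g, hn0.2⟩ : M) ^ m = 1 from Subtype.ext hone, map_one]
    have := hq ▸ orderOf_dvd_of_pow_eq_one hgm
    rcases hm' with e' | e' <;> rw [e'] at this <;> norm_num at this
  obtain rfl : e = 2 := by
    have : e ∈ Nat.divisors 6 := Nat.mem_divisors.2 ⟨he6, by norm_num⟩
    rw [show Nat.divisors 6 = {1, 2, 3, 6} by decide] at this
    simp only [Finset.mem_insert, Finset.mem_singleton] at this
    rcases this with rfl | rfl | rfl | rfl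
    · exact absurd rfl he1
    · rfl
    all_goals exact absurd (by norm_num) he3
  refine seven_two_false hG K7 ?_
  have h := K7.D.hcard
  rw [← hMdef, ha, ha12, K7.hP] at h
  rcases hm' with e' | e' <;> rw [e'] at h <;> omega

/-- The complement is trivial. -/
theorem eleven_ten : Nat.card V = 1 :=
  (eleven_ten_cases hG K).resolve_right (fifty_six_false hG K)

end Cfsg.Agent.M24Order
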