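import Cfsg.Agent.Lib.M24Order.Setup
import Cfsg.Agent.Lib.M23Order.Rows
import Cfsg.Agent.Lib.M23Order.Pairs

/-!
An action of order two in a group of order 244823040: a product built from the two degrees is a square.
-/

set_option linter.unusedSectionVars false
set_option linter.style.haveILetI false

namespace Cfsg.Agent.M24Order

open Cfsg.Agent.M23Order (Rows pairs inverters)
open Cfsg Cfsg.Agent.Char Cfsg.Agent.Blocks Cfsg.Agent.CCSylow Cfsg.Agent.DefOne

open scoped ComplexConjugate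

universe u

theorem isSquare_of_sq_mul {A B K : ℕ} (hB : B ≠ 0) (h : A * A = K * (B * B)) : IsSquare K := by
  have hd : B ∣ A := (Nat.pow_dvd_pow_iff two_ne_zero).1 ⟨K, by rw [pow_two, pow_two, h]; ring⟩
  obtain ⟨q, rfl⟩ := hd
  refine ⟨q, mul_right_cancel₀ (mul_ne_zero hB hB) ?_⟩
  linear_combination -h

variable {G : Type u} [Group G] [Fintype G] [IsSimpleGroup G] (hG : Nat.card G = 244823040)
  {p : ℕ} {P V N : Subgroup G} (K : Conf p P V N 2)
  [Fintype P] [Fintype V] [Fintype N] [Fintype (P →* ℂˣ)] {M : Ideal AlgInt} [M.IsPrime]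
  {k : ℕ} {S : Finset (IrrCharacter G)} {c : IrrCharacter G → ℤ}
  {t χ : IrrCharacter G} (R : Rows p 2 k P V M S c t)

include hG K R

/-- For an action of order two with rows of degrees `f` and `f + 1`. -/
theorem square_two (hp : 2 < p) (hS : S.erase t = {χ}) (hcχ : c χ = 1) (hct : c t = -1)
    (hft : charDegree (t : G → ℂ) = charDegree (χ : G → ℂ) + 1) :
    IsSquare (p * Nat.card V * 244823040 * (charDegree (χ : G → ℂ) * charDegree (t : G → ℂ))) := by
  classical
  haveI : Fact (Nat.Prime 2) := ⟨Nat.prime_two⟩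
  obtain ⟨i, hio⟩ := exists_prime_orderOf_dvd_card' (G := G) 2 (by rw [hG]; norm_num)
  have hii : i * i = 1 := by rw [← pow_two, ← hio, pow_orderOf_eq_one]
  have hpi : ¬ p ∣ orderOf i := by
    rw [hio]; exact fun h => absurd (Nat.le_of_dvd (by norm_num) h) (by omega)
  obtain ⟨y, hy⟩ := exists_ne_one_P K
  have hχS : χ ∈ S := by
    have : χ ∈ S.erase t := by rw [hS]; exact Finset.mem_singleton_self _
    exact Finset.mem_of_mem_erase this
  obtain ⟨a, ha, -, hlt⟩ := involution_range hG (fun e : χ = principal G => R.ne_one (e ▸ hχS)) hio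
  set f := charDegree (χ : G → ℂ) with hf
  set g := charDegree (t : G → ℂ) with hg
  have hsum : ∀ F : IrrCharacter G → ℂ, ∑ ψ ∈ S, (c ψ : ℂ) * F ψ = -F t + F χ := fun F => by
    rw [← Finset.add_sum_erase _ _ R.mem_t, hS, Finset.sum_singleton, hcχ, hct]; push_cast; ring
  have hb : (t : G → ℂ) i = (a : ℂ) + 1 := by
    have h := R.relation i hpi
    rw [hsum, ha] at h
    linear_combination -h
  have h := pairs K hp hy hii hii
  rw [hG, show (∑ ψ : IrrCharacter G, (ψ : G → ℂ) i * (ψ : G → ℂ) i * conj (phi (ψ : G → ℂ) (trivB V) y) /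
      (ψ : G → ℂ) 1) = ∑ ψ : IrrCharacter G, (ψ : G → ℂ) i * (ψ : G → ℂ) i / (ψ : G → ℂ) 1 *
        conj (phi (ψ : G → ℂ) (trivB V) y) from Finset.sum_congr rfl fun ψ _ => by ring,
    R.sum_phi (fun ψ => (ψ : G → ℂ) i * (ψ : G → ℂ) i / (ψ : G → ℂ) 1) (fun σ hσ ψ => by
      rw [galT_apply, galT_one, irr_regular_fixed hσ ψ hpi]) y hy, hsum, ha, hb, irr_one_eq_charDegree t,
    irr_one_eq_charDegree χ, show (principal G : G → ℂ) i = 1 from rfl,
    show (principal G : G → ℂ) 1 = 1 from rfl, ← hf, ← hg] at h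
  set C := Nat.card (Subgroup.centralizer ({i} : Set G))
  set m := inverters (y : G) i
  set v := Nat.card V
  have hgq : (g : ℂ) = (f : ℂ) + 1 := by rw [hft]; push_cast; rfl
  have hf0 : (f : ℂ) ≠ 0 := Nat.cast_ne_zero.2 (charDegree_pos χ).ne'
  have hg0 : (g : ℂ) ≠ 0 := Nat.cast_ne_zero.2 (charDegree_pos t).ne'
  have key : ((C * m * (f * g) : ℕ) : ℂ) * ((C * m * (f * g) : ℕ) : ℂ) =
      ((p * v * 244823040 * (f * g) : ℕ) : ℂ) * (((f : ℤ) - a : ℤ) : ℂ) * (((f : ℤ) - a : ℤ) : ℂ) := by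
    push_cast at h ⊢
    rw [show (C : ℂ) * m * (f * g) * (C * m * (f * g)) = (C : ℂ) * C * (m * m) * ((f * g) * (f * g)) by ring, h]
    field_simp
    rw [hgq]
    ring
  have hB : ((f : ℤ) - a).natAbs ≠ 0 := by
    rw [abs_lt] at hlt; omega
  refine isSquare_of_sq_mul hB (A := C * m * (f * g)) ?_
  have hz : ((C * m * (f * g) * (C * m * (f * g)) : ℕ) : ℤ) =
      ((p * v * 244823040 * (f * g) * (((f : ℤ) - a).natAbs * ((f : ℤ) - a).natAbs) : ℕ) : ℤ) := by
    rw [Nat.cast_mul (p * v * 244823040 * (f * g)), Int.natAbs_mul_self]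
    refine Int.cast_injective (α := ℂ) ?_
    push_cast at key ⊢
    linear_combination key
  exact_mod_cast hz

end Cfsg.Agent.M24Order
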