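import Cfsg.Agent.Lib.M24Order.ElevenFacts
import Cfsg.Agent.Lib.M24Order.ElevenSquare

/-!
A group of order 244823040 has no action of order two at eleven.
-/

set_option linter.unusedSectionVars false
set_option linter.style.haveILetI false

namespace Cfsg.Agent.M24Order

open Cfsg Cfsg.Agent.Char Cfsg.Agent.Blocks Cfsg.Agent.CCSylow Cfsg.Agent.DefOne
open Cfsg.Agent.M23Order (Rows exists_rows)

universe u

set_option maxRecDepth 20000 in
/-- The pairs of degrees satisfying the relation. -/
theorem pairs_two : ordinaryDegs.all (fun f => (ordDivs.filter baseDeg).all fun g =>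
    !((Nat.beq (f % 11) 1 && Nat.beq (g % 11) 2 && Nat.beq (f + 1) g) ||
      (Nat.beq (f % 11) 10 && Nat.beq (g % 11) 9 && Nat.beq (g + 1) f)) ||
    [(23, 24), (45, 46)].elem (f, g)) = true := by
  decide +kernel

set_option maxRecDepth 20000 in
/-- The orders of the complement making the product a square are divisible by seven. -/
theorem square_vals : ([(23, 24), (45, 46)] : List (ℕ × ℕ)).all (fun fg => ordDivs.all fun v =>
    !(Nat.beq (11128320 % v) 0 && Nat.beq (v % 11) 5 && !(Nat.beq (v % 23) 0)) || Nat.beq (v % 7) 0 ||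
    !(Nat.beq (Nat.sqrt (11 * v * 244823040 * (fg.1 * fg.2)) *
        Nat.sqrt (11 * v * 244823040 * (fg.1 * fg.2))) (11 * v * 244823040 * (fg.1 * fg.2)))) = true := by
  decide +kernel

variable {G : Type u} [Group G] [Fintype G] [IsSimpleGroup G] (hG : Nat.card G = 244823040)

include hG

/-- There is no action of order two. -/
theorem two_false {P : Sylow 11 G} {V : Subgroup G}
    (K : Conf 11 (P : Subgroup G) V (Subgroup.normalizer ((P : Subgroup G) : Set G)) 2) : False := by
  classical
  haveI : Fact (Nat.Prime 11) := ⟨by norm_num⟩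
  haveI : Fintype (P : Subgroup G) := Fintype.ofFinite _
  haveI : Fintype V := Fintype.ofFinite _
  haveI : Fintype (Subgroup.normalizer ((P : Subgroup G) : Set G)) := Fintype.ofFinite _
  haveI : Fintype ((P : Subgroup G) →* ℂˣ) := Fintype.ofFinite _
  obtain ⟨M, hM⟩ := exists_isPModular_witness 11
  haveI := IsPModular.isPrime hM
  obtain ⟨k, S, c, t, R⟩ := exists_rows hM (by norm_num) K
  obtain ⟨χ, hχ⟩ := Finset.card_eq_one.1
    (show (S.erase t).card = 1 by rw [Finset.card_erase_of_mem R.mem_t, R.card])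
  have hχe : χ ∈ S.erase t := by rw [hχ]; exact Finset.mem_singleton_self _
  have hχS := Finset.mem_of_mem_erase hχe
  have hne := Finset.ne_of_mem_erase hχe
  obtain ⟨hf, hcf⟩ := ordinary_row hG K hM R hχS hne
  obtain ⟨hfs, hfr⟩ := coef_ord K R (by norm_num) hχS hne
  obtain ⟨hts, htr⟩ := coef_exc K R (by norm_num)
  rw [sgP] at hfs
  rw [excP] at hts
  have hD := deg_relation hG K hM R
  rw [← Finset.add_sum_erase _ _ R.mem_t, hχ, Finset.sum_singleton, hfs, hts] at hD
  set f := charDegree (χ : G → ℂ) with hfdef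
  set g := charDegree (t : G → ℂ) with hgdef
  have hg : g ∈ ordDivs.filter baseDeg := base_mem hG (fun e : t = principal G => R.ne_one (e ▸ R.mem_t))
  have hfpos := charDegree_pos χ
  have hgpos := charDegree_pos t
  have hor : (f % 11 = 1 ∧ g % 11 = 2 ∧ f + 1 = g) ∨ (f % 11 = 10 ∧ g % 11 = 9 ∧ g + 1 = f) := by
    rw [← hfdef] at hfpos
    rw [← hgdef] at hgpos
    rcases hfr with e1 | e1 <;> rcases htr with e2 | e2 <;> norm_num [e1, e2] at hD
    all_goals omega
  have hpair : (f, g) ∈ ([(23, 24), (45, 46)] : List (ℕ × ℕ)) := by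
    have h := List.all_eq_true.1 (List.all_eq_true.1 pairs_two f hf) g hg
    simp only [Bool.or_eq_true, Bool.not_eq_true', ← Bool.not_eq_true, Bool.and_eq_true, Nat.beq_eq,
      List.elem_iff, and_assoc] at h
    exact h.resolve_left fun h' => h' hor
  have hp := hpair
  simp only [List.mem_cons, Prod.mk.injEq, List.not_mem_nil, or_false] at hp
  have hcases : c χ = 1 ∧ c t = -1 ∧ g = f + 1 ∧ f < 66 ∧ g ≠ f := by
    rw [hfs, hts]
    rcases hp with ⟨e1, e2⟩ | ⟨e1, e2⟩ <;> rw [e1, e2] <;> norm_num
  have hsq := square_two hG K R (by norm_num) hχ hcases.1 hcases.2.1 hcases.2.2.1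
  -- the order of the complement
  set N := Subgroup.normalizer ((P : Subgroup G) : Set G)
  have hn : N.index * (2 * (11 * Nat.card V)) = 244823040 := by
    have h := N.index_mul_card
    rwa [K.D.hcard, K.hP, hG] at h
  have hn11 : N.index % 11 = 1 := by
    have h := card_sylow_modEq_one 11 G
    rw [P.card_eq_index_normalizer] at h
    exact h
  have hv : N.index * Nat.card V = 11128320 := by linarith
  have h23 : ¬ 23 ∣ Nat.card V := M23Order.not_dvd_other K (by norm_num) fun x hx => c23 hG hx
  have hv11 : Nat.card V % 11 = 5 := by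
    have h1 : (N.index * Nat.card V) % 11 = 5 := by rw [hv]
    rw [Nat.mul_mod, hn11, one_mul, Nat.mod_mod] at h1
    exact h1
  have h := List.all_eq_true.1 (List.all_eq_true.1 square_vals (f, g) hpair) (Nat.card V)
    (mem_ordDivs (hG ▸ Subgroup.card_subgroup_dvd_card V))
  simp only [Bool.or_eq_true, Bool.not_eq_true', ← Bool.not_eq_true, Bool.and_eq_true, Nat.beq_eq] at h
  rcases h with (h | h) | h
  · exact h ⟨⟨by rw [← hv]; exact Nat.mul_mod_left _ _, hv11⟩, fun e => h23 (Nat.dvd_of_mod_eq_zero e)⟩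
  · have := deg_bound hG K hM R hχS (fun ψ hψ hd => by
      by_contra h'
      rcases eq_or_ne ψ t with e | e
      · subst e; exact hcases.2.2.2.2 hd
      · have : ψ ∈ S.erase t := Finset.mem_erase.2 ⟨e, hψ⟩
        rw [hχ, Finset.mem_singleton] at this
        exact h' this) (Or.inl hcases.2.2.2.2) (Nat.dvd_of_mod_eq_zero h)
    omega
  · exact h (Nat.exists_mul_self _ |>.1 (by obtain ⟨r, hr⟩ := hsq; exact ⟨r, hr.symm⟩))

end Cfsg.Agent.M24Order
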