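import Cfsg.Agent.Lib.M24Order.ElevenFive
import Cfsg.Agent.Lib.M24Order.ElevenTwo
import Cfsg.Agent.Lib.M24Order.ElevenFiftySix

/-!
A group of order 244823040 at eleven: the action has order ten and the complement is trivial.
-/

set_option linter.unusedSectionVars false
set_option linter.style.haveILetI false

namespace Cfsg.Agent.M24Order

open Cfsg Cfsg.Agent.Char Cfsg.Agent.Blocks Cfsg.Agent.CCSylow Cfsg.Agent.DefOne

universe u

variable {G : Type u} [Group G] [Fintype G] [IsSimpleGroup G] (hG : Nat.card G = 244823040)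

include hG

/-- The configuration at eleven. -/
theorem eleven : ∃ (P : Sylow 11 G) (V : Subgroup G),
    Conf 11 (P : Subgroup G) V (Subgroup.normalizer ((P : Subgroup G) : Set G)) 10 ∧ Nat.card V = 1 := by
  classical
  haveI : Fact (Nat.Prime 11) := ⟨by norm_num⟩
  obtain ⟨P, V, e, K, hed, -⟩ := exists_config hG (p := 11) (by norm_num) (by norm_num)
  haveI : Fintype (P : Subgroup G) := Fintype.ofFinite _
  haveI : Fintype V := Fintype.ofFinite _
  haveI : Fintype (Subgroup.normalizer ((P : Subgroup G) : Set G)) := Fintype.ofFinite _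
  haveI : Fintype ((P : Subgroup G) →* ℂˣ) := Fintype.ofFinite _
  have he1 : e ≠ 1 := e_ne_one hG (by norm_num) K
  have he : e ∈ Nat.divisors 10 := Nat.mem_divisors.2 ⟨hed, by norm_num⟩
  rw [show Nat.divisors 10 = {1, 2, 5, 10} by decide] at he
  simp only [Finset.mem_insert, Finset.mem_singleton] at he
  rcases he with rfl | rfl | rfl | rfl
  · exact absurd rfl he1
  · exact (two_false hG K).elim
  · exact (five_false hG K).elim
  · exact ⟨P, V, K, eleven_ten hG K⟩

end Cfsg.Agent.M24Order
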