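import Cfsg.Agent.Lib.M24Order.ElevenIndex
import Cfsg.Agent.Lib.Blocks.GreenDefect
import Cfsg.Agent.Lib.Blocks.SubsectionRow
import Cfsg.Agent.Lib.Char.TICongruence

/-!
The degrees excluded at an involution commuting with a group of order eleven in a group of order
244823040: a congruence from the square of the class sum.
-/

set_option linter.unusedSectionVars false
set_option linter.style.haveILetI false

namespace Cfsg.Agent.M24Order

open Cfsg Cfsg.Agent.Char Cfsg.Agent.Blocks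

open scoped ComplexConjugate

universe u

variable {G : Type u} [Group G] [Fintype G]

/-- The class sum squared modulo the prime: only the conjugates commuting with the group count. -/
theorem class_sq {p : ℕ} [Fact p.Prime] {P : Subgroup G} (hP : IsPGroup p P) {i : G} (hii : i * i = 1)
    {I : Finset G} (hI : ∀ g, g ∈ I ↔ IsConj i g ∧ ∀ y ∈ P, y * g = g * y)
    (hprod : ∀ u ∈ I, ∀ w ∈ I, u ≠ w → u * w ∈ I) {χ : IrrCharacter G} {a : ℤ}
    (ha : (χ : G → ℂ) i = a) :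
    (p : ℤ) ∣ (((Subgroup.centralizer ({i} : Set G)).index : ℤ) * a) ^ 2 - (charDegree (χ : G → ℂ) : ℤ) *
      ((I.card : ℤ) * charDegree (χ : G → ℂ) + ((I.card : ℤ) * I.card - I.card) * a) := by
  classical
  obtain ⟨M, hM⟩ := exists_isPModular_witness p
  haveI := IsPModular.isPrime hM
  have hcl : ∀ (c g : G), c * g * c⁻¹ ∈ classFinset i ↔ g ∈ classFinset i := fun c g => by
    simp only [mem_classFinset]
    exact ⟨fun h => h.trans (isConj_iff.2 ⟨c⁻¹, by group⟩), fun h => h.trans (isConj_iff.2 ⟨c, rfl⟩)⟩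
  set X := {q : G × G // q ∈ classFinset i ×ˢ classFinset i}
  letI : MulAction P X :=
    { smul := fun y q => ⟨((y : G) * q.1.1 * (y : G)⁻¹, (y : G) * q.1.2 * (y : G)⁻¹), by
        have := q.2
        simp only [Finset.mem_product, hcl] at this ⊢
        exact this⟩
      one_smul := fun q => Subtype.ext (by
        show (((1 : P) : G) * q.1.1 * ((1 : P) : G)⁻¹, ((1 : P) : G) * q.1.2 * ((1 : P) : G)⁻¹) = q.1
        simp)
      mul_smul := fun y z q => Subtype.ext (by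
        show (((y * z : P) : G) * q.1.1 * ((y * z : P) : G)⁻¹, ((y * z : P) : G) * q.1.2 * ((y * z : P) : G)⁻¹) =
          ((y : G) * ((z : G) * q.1.1 * (z : G)⁻¹) * (y : G)⁻¹, (y : G) * ((z : G) * q.1.2 * (z : G)⁻¹) * (y : G)⁻¹)
        simp [mul_assoc]) }
  set F : X → ℂ := fun q => (χ : G → ℂ) (q.1.1 * q.1.2) with hF
  have hinv : ∀ (y : P) (q : X), F (y • q) = F q := by
    intro y q
    show (χ : G → ℂ) (((y : G) * q.1.1 * (y : G)⁻¹) * ((y : G) * q.1.2 * (y : G)⁻¹)) = (χ : G → ℂ) (q.1.1 * q.1.2)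
    rw [show (y : G) * q.1.1 * (y : G)⁻¹ * ((y : G) * q.1.2 * (y : G)⁻¹) = (y : G) * (q.1.1 * q.1.2) * (y : G)⁻¹ by group]
    exact IsCharacter.isClassFunction (IsIrrCharacter.isCharacter χ.2) _ _
  have hR : ∀ q, MemLocalRing M (F q) := fun q => mem_locRing_of_isIntegral (irr_isIntegral χ _)
  have h := sum_fixedPoints_congr hM hP F hinv hR
  have htot : ∑ q, F q = ∑ u ∈ classFinset i, ∑ w ∈ classFinset i, (χ : G → ℂ) (u * w) := by
    rw [← Finset.sum_product']
    exact (Finset.sum_coe_sort (classFinset i ×ˢ classFinset i) fun q : G × G => (χ : G → ℂ) (q.1 * q.2))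
  have hfix : ∀ q : X, (∀ y : P, y • q = q) ↔ q.1 ∈ I ×ˢ I := by
    intro q
    have hq := Finset.mem_product.1 q.2
    rw [Finset.mem_product, hI, hI]
    constructor
    · intro h
      exact ⟨⟨mem_classFinset.1 hq.1, fun y hy => mul_inv_eq_iff_eq_mul.1
          (congrArg (fun r : X => r.1.1) (h ⟨y, hy⟩))⟩,
        mem_classFinset.1 hq.2, fun y hy => mul_inv_eq_iff_eq_mul.1
          (congrArg (fun r : X => r.1.2) (h ⟨y, hy⟩))⟩
    · rintro ⟨⟨-, h1⟩, -, h2⟩ y
      exact Subtype.ext (Prod.ext (mul_inv_eq_iff_eq_mul.2 (h1 y y.2)) (mul_inv_eq_iff_eq_mul.2 (h2 y y.2)))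
  have hpart : ∑ q ∈ Finset.univ.filter (fun q : X => ∀ y : P, y • q = q), F q =
      ∑ u ∈ I, ∑ w ∈ I, (χ : G → ℂ) (u * w) := by
    rw [← Finset.sum_product']
    refine Finset.sum_bij (fun q _ => q.1) (fun q hq => (hfix q).1 (Finset.mem_filter.1 hq).2)
      (fun q _ r _ e => Subtype.ext e) (fun r hr => ?_) (fun q _ => rfl)
    obtain ⟨h1, h2⟩ := Finset.mem_product.1 hr
    have hr' : r ∈ classFinset i ×ˢ classFinset i := Finset.mem_product.2
      ⟨mem_classFinset.2 ((hI _).1 h1).1, mem_classFinset.2 ((hI _).1 h2).1⟩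
    exact ⟨⟨r, hr'⟩, Finset.mem_filter.2 ⟨Finset.mem_univ _, (hfix ⟨r, hr'⟩).2 hr⟩, rfl⟩
  have hIval : ∑ u ∈ I, ∑ w ∈ I, (χ : G → ℂ) (u * w) =
      (((I.card : ℤ) * charDegree (χ : G → ℂ) + ((I.card : ℤ) * I.card - I.card) * a : ℤ) : ℂ) := by
    have hrow : ∀ u ∈ I, ∑ w ∈ I, (χ : G → ℂ) (u * w) =
        (charDegree (χ : G → ℂ) : ℂ) + ((I.card : ℂ) - 1) * (a : ℂ) := by
      intro u hu
      obtain ⟨hc, -⟩ := (hI u).1 hu
      rw [← Finset.add_sum_erase _ _ hu, M12Uniq.sq_of_isConj hc hii, irr_one_eq_charDegree,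
        Finset.sum_congr rfl fun w hw => show (χ : G → ℂ) (u * w) = (a : ℂ) by
          obtain ⟨hne, hw'⟩ := Finset.mem_erase.1 hw
          rw [← ha, M11Local.class_eq (IsIrrCharacter.isCharacter χ.2)
            ((hI _).1 (hprod u hu w hw' (fun e => hne e.symm))).1.symm],
        Finset.sum_const, nsmul_eq_mul, Finset.card_erase_of_mem hu,
        Nat.cast_sub (Finset.card_pos.2 ⟨u, hu⟩), Nat.cast_one]
    rw [Finset.sum_congr rfl hrow, Finset.sum_const, nsmul_eq_mul]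
    push_cast; ring
  rw [htot, hpart, hIval, Cfsg.Agent.Char.TICongr.sum_class_mul χ.2, ha, irr_one_eq_charDegree] at h
  have h' := MemLocalIdeal.mul_left
    (intCast_mem (locRing M) (charDegree (χ : G → ℂ) : ℤ)) h
  rw [← intCast_memLocalIdeal_iff hM]
  have e : (((((Subgroup.centralizer ({i} : Set G)).index : ℤ) * a) ^ 2 - (charDegree (χ : G → ℂ) : ℤ) *
      ((I.card : ℤ) * charDegree (χ : G → ℂ) + ((I.card : ℤ) * I.card - I.card) * a) : ℤ) : ℂ) =
      ((charDegree (χ : G → ℂ) : ℤ) : ℂ) * ((((Subgroup.centralizer ({i} : Set G)).index : ℂ) * (a : ℂ) *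
        (((Subgroup.centralizer ({i} : Set G)).index : ℂ) * (a : ℂ)) / (charDegree (χ : G → ℂ) : ℂ)) -
        (((I.card : ℤ) * charDegree (χ : G → ℂ) + ((I.card : ℤ) * I.card - I.card) * a : ℤ) : ℂ)) := by
    have hf : (charDegree (χ : G → ℂ) : ℂ) ≠ 0 := Nat.cast_ne_zero.2 (charDegree_pos χ).ne'
    rw [mul_sub, Int.cast_natCast, mul_div_cancel₀ _ hf]
    push_cast; ring
  rw [e]
  exact h'

variable [IsSimpleGroup G] (hG : Nat.card G = 244823040)

/-- The possible values at the involution: index `m`, congruence from `n` conjugates. -/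
def badVals (m n f : ℕ) : List ℤ :=
  ((List.range (2 * f - 1)).map fun j : ℕ => (j : ℤ) + 1 - f).filter fun a =>
    decide (((f : ℤ) - a) % 4 = 0) && decide (((m : ℤ) * a) % f = 0) &&
      decide ((((m : ℤ) * a) ^ 2 - (f : ℤ) * ((n : ℤ) * f + ((n : ℤ) * n - n) * a)) % 11 = 0)

theorem mem_badVals {m n f : ℕ} {a : ℤ} (h1 : |a| < f) (h4 : (4 : ℤ) ∣ (f : ℤ) - a)
    (hd : (f : ℤ) ∣ (m : ℤ) * a)
    (h11 : (11 : ℤ) ∣ ((m : ℤ) * a) ^ 2 - (f : ℤ) * ((n : ℤ) * f + ((n : ℤ) * n - n) * a)) :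
    a ∈ badVals m n f := by
  rw [abs_lt] at h1
  refine List.mem_filter.2 ⟨List.mem_map.2 ⟨(a + f - 1).toNat, List.mem_range.2 (by omega), by omega⟩, ?_⟩
  simp only [Bool.and_eq_true, decide_eq_true_eq]
  exact ⟨⟨Int.emod_eq_zero_of_dvd h4, Int.emod_eq_zero_of_dvd hd⟩, Int.emod_eq_zero_of_dvd h11⟩

include hG

/-- The value of a character at the involution. -/
theorem value_mem {P : Subgroup G} (hP : IsPGroup 11 P) {i : G} (hio : orderOf i = 2) {I : Finset G}
    (hI : ∀ g, g ∈ I ↔ IsConj i g ∧ ∀ y ∈ P, y * g = g * y)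
    (hprod : ∀ u ∈ I, ∀ w ∈ I, u ≠ w → u * w ∈ I) {χ : IrrCharacter G} (hχ : χ ≠ principal G) :
    ∃ a : ℤ, (χ : G → ℂ) i = a ∧ a ∈ badVals (Subgroup.centralizer ({i} : Set G)).index I.card
      (charDegree (χ : G → ℂ)) := by
  haveI : Fact (Nat.Prime 11) := ⟨by norm_num⟩
  obtain ⟨a, ha, h4, hlt⟩ := involution_range hG hχ hio
  exact ⟨a, ha, mem_badVals hlt h4 (M12Uniq.dvd_index_mul χ ha)
    (class_sq hP (by rw [← pow_two, ← hio, pow_orderOf_eq_one]) hI hprod ha)⟩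

omit hG in
theorem no_badVals : ([11, 12, 22, 35, 45, 80, 126, 160, 252] : List ℕ).all
    (fun f => (badVals 276 1 f).isEmpty) = true := by decide +kernel

end Cfsg.Agent.M24Order
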