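import Cfsg.Agent.Lib.M24Order.DegTwentyThree
import Cfsg.Agent.Lib.M22Uniq.Setup

/-!
Products of a class of elements of order eleven with a section: a divisibility by the order of the
complement.
-/

set_option linter.unusedSectionVars false
set_option linter.style.haveILetI false

namespace Cfsg.Agent.M24Order

open Cfsg Cfsg.Agent.Char Cfsg.Agent.Blocks Cfsg.Agent.CCSylow Cfsg.Agent.DefOne
open Cfsg.Agent.M23Order (Rows)

open scoped ComplexConjugate

universe u

/-- A class function weighted by the centralizer orders sums to a multiple of the group order. -/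
theorem weighted_sum {V : Type u} [Group V] [Fintype V] (F : V → ℕ)
    (hF : ∀ w v : V, F (v * w * v⁻¹) = F w) :
    Nat.card V ∣ ∑ w : V, Nat.card (Subgroup.centralizer ({w} : Set V)) * F w := by
  classical
  rw [← Finset.sum_fiberwise Finset.univ ConjClasses.mk fun w =>
    Nat.card (Subgroup.centralizer ({w} : Set V)) * F w]
  refine Finset.dvd_sum fun q _ => ?_
  induction q using ConjClasses.mk_surjective.forall.2 with
  | _ w₀ => ?_
  have hfib : (Finset.univ.filter fun w : V => ConjClasses.mk w = ConjClasses.mk w₀) = classFinset w₀ := by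
    ext w
    rw [Finset.mem_filter, mem_classFinset, ConjClasses.mk_eq_mk_iff_isConj]
    exact ⟨fun h => h.2.symm, fun h => ⟨Finset.mem_univ _, h.symm⟩⟩
  rw [hfib, Finset.sum_congr rfl fun w hw => show Nat.card (Subgroup.centralizer ({w} : Set V)) * F w =
    Nat.card (Subgroup.centralizer ({w₀} : Set V)) * F w₀ by
      have hc := mem_classFinset.1 hw
      obtain ⟨v, hv⟩ := isConj_iff.1 hc
      rw [← M22Uniq.cent_card_of_isConj hc, ← hv, hF],
    Finset.sum_const, smul_eq_mul]
  have h : (classFinset w₀).card * Nat.card (Subgroup.centralizer ({w₀} : Set V)) = Nat.card V := by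
    have h1 : ((classFinset w₀).card : ℂ) = ((Subgroup.centralizer ({w₀} : Set V)).index : ℂ) := by
      exact_mod_cast Cfsg.Agent.Char.card_classFinset w₀
    rw [show (classFinset w₀).card = (Subgroup.centralizer ({w₀} : Set V)).index by exact_mod_cast h1,
      Subgroup.index_mul_card]
  exact Dvd.intro (F w₀) (by rw [← h]; ring)

variable {G : Type u} [Group G] [Fintype G]

/-- The centralizer of an element of a section. -/
theorem cent_section {p : ℕ} {P V N : Subgroup G} {e : ℕ} (K : Conf p P V N e) {y : P} (hy : y ≠ 1) (w : V) :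
    Nat.card (Subgroup.centralizer ({(y : G) * w} : Set G)) =
      p * Nat.card (Subgroup.centralizer ({w} : Set V)) := by
  classical
  have hy1 : (y : G) ≠ 1 := fun h => hy (Subtype.ext h)
  have hcomm : Commute (y : G) (w : G) := K.D.pv _ y.2 _ w.2
  have hiff : ∀ g : G, g ∈ Subgroup.centralizer ({(y : G) * w} : Set G) ↔
      ∃ r ∈ P, ∃ v : V, v * w = w * v ∧ r * (v : G) = g := by
    intro g
    constructor
    · intro hg
      have hgc : Commute g ((y : G) * w) := Subgroup.mem_centralizer_singleton_iff.1 hg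
      have hw : (w : G) ^ Nat.card V = 1 := by rw [← Subgroup.coe_pow, pow_card_eq_one', Subgroup.coe_one]
      have hgy : Commute g ((y : G) ^ Nat.card V) := by
        have h := hgc.pow_right (Nat.card V)
        rwa [hcomm.mul_pow, hw, mul_one] at h
      have hyk : (y : G) ^ Nat.card V ≠ 1 := fun h0 => K.hV (by
        have h' := orderOf_dvd_of_pow_eq_one h0
        rwa [((Nat.dvd_prime K.hp).1 (K.hP ▸ Subgroup.orderOf_dvd_natCard P y.2)).resolve_left
          (fun e => hy1 (orderOf_eq_one_iff.1 e))] at h')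
      have hgP : g ∈ Subgroup.centralizer (P : Set G) := by
        rw [← DefOne.centralizer_singleton_eq K.hp K.hP (pow_mem y.2 (Nat.card V)) hyk,
          Subgroup.mem_centralizer_singleton_iff]
        exact hgy
      obtain ⟨r, hr, v, hv, rfl⟩ := (K.hC g).1 hgP
      have hy' : Commute (r * v) (y : G) := (Subgroup.mem_centralizer_iff.1 hgP _ y.2).symm
      have hrw : Commute (r * v) (w : G) := by
        have h := (hy'.inv_right).mul_right hgc
        rwa [inv_mul_cancel_left] at h
      have hrw' : Commute r (w : G) := K.D.pv _ hr _ w.2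
      have hvw : Commute v (w : G) := by
        have h := (hrw'.inv_left).mul_left hrw
        rwa [inv_mul_cancel_left] at h
      exact ⟨r, hr, ⟨v, hv⟩, Subtype.ext hvw.eq, rfl⟩
    · rintro ⟨r, hr, v, hv, rfl⟩
      rw [Subgroup.mem_centralizer_singleton_iff]
      have a1 : Commute r (y : G) := K.D.comm _ hr _ y.2
      have a2 : Commute r (w : G) := K.D.pv _ hr _ w.2
      have a3 : Commute (v : G) (y : G) := (show Commute (y : G) (v : G) from K.D.pv _ y.2 _ v.2).symm
      have a4 : Commute (v : G) (w : G) := congrArg Subtype.val hv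
      exact ((a1.mul_right a2).mul_left (a3.mul_right a4)).eq
  rw [← K.hP, ← Nat.card_prod]
  symm
  refine Nat.card_eq_of_bijective (fun q => ⟨(q.1 : G) * ((q.2 : V) : G), (hiff _).2
    ⟨q.1, q.1.2, q.2, Subgroup.mem_centralizer_singleton_iff.1 q.2.2, rfl⟩⟩) ⟨?_, ?_⟩
  · intro a b e
    have e' : (a.1 : G) * ((a.2 : V) : G) = (b.1 : G) * ((b.2 : V) : G) := congrArg Subtype.val e
    have hd : (b.1 : G)⁻¹ * a.1 = ((b.2 : V) : G) * ((a.2 : V) : G)⁻¹ := by
      calc (b.1 : G)⁻¹ * a.1 = (b.1 : G)⁻¹ * ((a.1 : G) * ((a.2 : V) : G)) * ((a.2 : V) : G)⁻¹ := by group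
        _ = (b.1 : G)⁻¹ * ((b.1 : G) * ((b.2 : V) : G)) * ((a.2 : V) : G)⁻¹ := by rw [e']
        _ = _ := by group
    have hm1 : (b.1 : G)⁻¹ * a.1 ∈ P := mul_mem (inv_mem b.1.2) a.1.2
    have hm2 : (b.1 : G)⁻¹ * a.1 ∈ V := hd ▸ mul_mem (b.2 : V).2 (inv_mem (a.2 : V).2)
    have h1 : (b.1 : G)⁻¹ * a.1 = 1 := by
      rw [← orderOf_eq_one_iff]
      exact Nat.Coprime.eq_one_of_dvd (Nat.Coprime.coprime_dvd_left (Subgroup.orderOf_dvd_natCard _ hm1) K.D.cop)
        (Subgroup.orderOf_dvd_natCard _ hm2)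
    have h2 : a.1 = b.1 := Subtype.ext (inv_mul_eq_one.1 h1).symm
    refine Prod.ext h2 (Subtype.ext (Subtype.ext ?_))
    rw [h2] at e'
    exact mul_left_cancel e'
  · rintro ⟨g, hg⟩
    obtain ⟨r, hr, v, hv, rfl⟩ := (hiff g).1 hg
    exact ⟨(⟨r, hr⟩, ⟨v, Subgroup.mem_centralizer_singleton_iff.2 hv⟩), rfl⟩

variable (hG : Nat.card G = 244823040) {P V N : Subgroup G} {e : ℕ} (K : Conf 11 P V N e)
  [Fintype P] [Fintype V] [Fintype N] [Fintype (P →* ℂˣ)] {M : Ideal AlgInt} [M.IsPrime]
  (hM : IsPModular 11 M) {S : Finset (IrrCharacter G)} {c : IrrCharacter G → ℤ}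
  {t : IrrCharacter G} (R : Rows 11 e 1 P V M S c t)

include hG K hM R

/-- A rational sum over the rows gives a multiple of `121 |V|`. -/
theorem section_count {y : P} (hy : y ≠ 1) {z : G} {s : IrrCharacter G → ℤ}
    (hs : ∀ χ ∈ S, conj ((χ : G → ℂ) z) = s χ) :
    ∃ n : ℕ, (n : ℚ) * (121 * (Nat.card V : ℚ)) =
      244823040 * (1 + ∑ χ ∈ S, (s χ : ℚ) / (charDegree (χ : G → ℂ) : ℕ)) := by
  classical
  choose m hm using fun w : V => M12Uniq.structure_count (y : G) ((y : G) * w) z
  have hy1 : (y : G) ≠ 1 := fun h => hy (Subtype.ext h)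
  have hcy : Nat.card (Subgroup.centralizer ({(y : G)} : Set G)) = 11 * Nat.card V := by
    have h := cent_section K hy (1 : V)
    rw [OneMemClass.coe_one, mul_one] at h
    rw [h, show Subgroup.centralizer ({(1 : V)} : Set V) = ⊤ from Subgroup.centralizer_eq_top_iff_subset.2 (by simp),
      Subgroup.card_top]
  simp only [cent_section K hy, hcy, hG] at hm
  -- the sections are invariant under the complement
  have hinv : ∀ w v : V, m (v * w * v⁻¹) = m w := by
    intro w v
    have e : ∀ χ : IrrCharacter G, (χ : G → ℂ) ((y : G) * ((v * w * v⁻¹ : V) : G)) = (χ : G → ℂ) ((y : G) * w) := by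
      intro χ
      have hc : Commute (y : G) (v : G) := K.D.pv _ y.2 _ v.2
      rw [show (y : G) * ((v * w * v⁻¹ : V) : G) = (v : G) * ((y : G) * w) * (v : G)⁻¹ by
        simp only [Subgroup.coe_mul, Subgroup.coe_inv]
        rw [← mul_assoc, ← mul_assoc, hc.eq, mul_assoc (v : G) (y : G) (w : G)]]
      exact IsCharacter.isClassFunction (IsIrrCharacter.isCharacter χ.2) _ _
    have h1 := hm (v * w * v⁻¹)
    simp only [e] at h1
    rw [← hm w, ← M22Uniq.cent_card_of_isConj (isConj_iff.2 ⟨v, rfl⟩ : IsConj w (v * w * v⁻¹))] at h1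
    refine Nat.cast_injective (R := ℂ) (mul_right_cancel₀ ?_ h1)
    refine mul_ne_zero ?_ ?_ <;> exact Nat.cast_ne_zero.2 (Nat.mul_pos (by norm_num) Nat.card_pos).ne'
  obtain ⟨q, hq⟩ := weighted_sum (fun w : V => m w) hinv
  refine ⟨q, ?_⟩
  set v : ℕ := Nat.card V with hv
  have hphi : ∀ χ : IrrCharacter G, ∑ w : V, (χ : G → ℂ) ((y : G) * w) =
      (v : ℂ) * phi (χ : G → ℂ) (trivB V) y := by
    intro χ
    rw [phi, ← mul_assoc, mul_inv_cancel₀ (Nat.cast_ne_zero.2 Nat.card_pos.ne'), one_mul]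
    exact Finset.sum_congr rfl fun w _ => by rw [show (trivB V : V → ℂ) w = 1 from rfl, map_one, mul_one]
  have htot : ((∑ w : V, Nat.card (Subgroup.centralizer ({w} : Set V)) * m w : ℕ) : ℂ) * (121 * (v : ℂ)) =
      244823040 * ((v : ℂ) * (1 + ∑ χ ∈ S, ((s χ : ℚ) / (charDegree (χ : G → ℂ) : ℕ) : ℚ))) := by
    have h1 : ((∑ w : V, Nat.card (Subgroup.centralizer ({w} : Set V)) * m w : ℕ) : ℂ) * (121 * (v : ℂ)) =
        ∑ w : V, (244823040 : ℂ) * ∑ χ : IrrCharacter G,
          (χ : G → ℂ) y * (χ : G → ℂ) ((y : G) * w) * conj ((χ : G → ℂ) z) / (χ : G → ℂ) 1 := by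
      rw [Nat.cast_sum, Finset.sum_mul]
      refine Finset.sum_congr rfl fun w _ => ?_
      have h := hm w
      push_cast at h ⊢
      linear_combination h
    rw [h1, ← Finset.mul_sum, Finset.sum_comm]
    congr 1
    have h2 : ∀ χ : IrrCharacter G, ∑ w : V,
        (χ : G → ℂ) y * (χ : G → ℂ) ((y : G) * w) * conj ((χ : G → ℂ) z) / (χ : G → ℂ) 1 =
        (v : ℂ) * ((χ : G → ℂ) y * phi (χ : G → ℂ) (trivB V) y * (conj ((χ : G → ℂ) z) / (χ : G → ℂ) 1)) := by
      intro χ
      rw [← Finset.sum_div, ← Finset.sum_mul, ← Finset.mul_sum, hphi]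
      ring
    rw [Finset.sum_congr rfl fun χ _ => h2 χ, ← Finset.mul_sum]
    congr 1
    have hsub : ∀ χ : IrrCharacter G, χ ∉ insert (principal G) S →
        (χ : G → ℂ) y * phi (χ : G → ℂ) (trivB V) y * (conj ((χ : G → ℂ) z) / (χ : G → ℂ) 1) = 0 := by
      intro χ hχ
      rw [phi_not_principal K hM (fun hb => hχ ?_) hy, mul_zero, zero_mul]
      rcases R.single rfl χ hb with h | h
      · exact Finset.mem_insert.2 (Or.inl h)
      · exact Finset.mem_insert.2 (Or.inr h)
    rw [← Finset.sum_subset (Finset.subset_univ (insert (principal G) S)) (fun χ _ h => hsub χ h),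
      Finset.sum_insert R.ne_one]
    have hp1 : (principal G : G → ℂ) y * phi (principal G : G → ℂ) (trivB V) y *
        (conj ((principal G : G → ℂ) z) / (principal G : G → ℂ) 1) = 1 := by
      simp [principal, phi, trivB]
    push_cast
    rw [hp1]
    congr 1
    refine Finset.sum_congr rfl fun χ hχ => ?_
    rw [← phi_principal K hM (R.block χ hχ) hy, R.phi_eq χ hχ (Or.inr rfl) y hy, hs χ hχ, irr_one_eq_charDegree]
    rcases R.sign χ hχ with e | e <;> rw [e] <;> push_cast <;> ring
  rw [hq] at htot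
  have hv0 : (v : ℂ) ≠ 0 := Nat.cast_ne_zero.2 Nat.card_pos.ne'
  have h' : (((q : ℚ) * (121 * (v : ℚ)) : ℚ) : ℂ) =
      ((244823040 * (1 + ∑ χ ∈ S, (s χ : ℚ) / (charDegree (χ : G → ℂ) : ℕ)) : ℚ) : ℂ) := by
    refine mul_left_cancel₀ hv0 ?_
    push_cast at htot ⊢
    linear_combination htot
  exact_mod_cast h'

end Cfsg.Agent.M24Order
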