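import Cfsg.Agent.Lib.M24Order.ElevenLists

/-!
The searches at eleven for a group of order 244823040 with an action of order five.
-/

namespace Cfsg.Agent.M24Order

/-- The divisors of the order. -/
def ordDivs : List ℕ :=
  [1, 2, 4, 8, 16, 32, 64, 128, 256, 512, 1024].flatMap fun a => [1, 3, 9, 27].flatMap fun b =>
    [1, 5].flatMap fun c => [1, 7].flatMap fun d => [1, 11].flatMap fun f => [1, 23].map fun g =>
      a * b * c * d * f * g

theorem mem_ordDivs {n : ℕ} (h : n ∣ 244823040) : n ∈ ordDivs := by
  obtain ⟨x1, g, hx1, hg, rfl⟩ := exists_dvd_and_dvd_of_dvd_mul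
    (show n ∣ (1024 * 27 * 5 * 7 * 11) * 23 by simpa using h)
  obtain ⟨x2, f, hx2, hf, rfl⟩ := exists_dvd_and_dvd_of_dvd_mul hx1
  obtain ⟨x3, d, hx3, hd, rfl⟩ := exists_dvd_and_dvd_of_dvd_mul hx2
  obtain ⟨x4, c, hx4, hc, rfl⟩ := exists_dvd_and_dvd_of_dvd_mul hx3
  obtain ⟨a, b, ha, hb, rfl⟩ := exists_dvd_and_dvd_of_dvd_mul hx4
  have h1024 : ∀ a < 1025, a ∣ 1024 → a ∈ [1, 2, 4, 8, 16, 32, 64, 128, 256, 512, 1024] := by decide +kernel
  have h27 : ∀ a < 28, a ∣ 27 → a ∈ [1, 3, 9, 27] := by decide +kernel
  have hpr : ∀ q a : ℕ, q.Prime → a ∣ q → a ∈ [1, q] := fun q a hq h => by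
    rcases (Nat.dvd_prime hq).1 h with rfl | rfl <;> simp
  simp only [ordDivs, List.mem_flatMap, List.mem_map]
  exact ⟨a, h1024 a (Nat.lt_succ_of_le (Nat.le_of_dvd (by norm_num) ha)) ha,
    b, h27 b (Nat.lt_succ_of_le (Nat.le_of_dvd (by norm_num) hb)) hb,
    c, hpr 5 c (by norm_num) hc, d, hpr 7 d (by norm_num) hd, f, hpr 11 f (by norm_num) hf,
    g, hpr 23 g (by norm_num) hg, rfl⟩

/-- The coefficient of an ordinary row at eleven. -/
def sgE (f : ℕ) : ℤ := if f % 11 = 1 then 1 else -1

/-- The coefficient of the exceptional row at eleven for an action of order five. -/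
def exE (t : ℕ) : ℤ := if t % 11 = 5 then -1 else 1

/-- Twice the real part of a value at an element of order twenty-three. -/
def z2 (f : ℕ) : ℤ :=
  if f % 23 = 1 then 2 else if f % 23 = 22 then -2 else if f % 23 = 11 then -1 else if f % 23 = 12 then 1 else 0

/-- The candidates for the degrees of the ordinary rows at eleven, in descending order. -/
def ordinaryDegs : List ℕ :=
  [15456, 12880, 12420, 8832, 7360, 5796, 4830, 3840, 3312, 3024, 2760, 1288, 1242, 1035, 1024, 736, 540, 483,
    276, 252, 230, 45, 23, 12]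

/-- The candidates for the exceptional degree for an action of order five. -/
def exceptionalDegs : List ℕ :=
  [11776, 10752, 7728, 6440, 6210, 4416, 3680, 2898, 2415, 1920, 1656, 1380, 896, 644, 621, 368, 160, 138,
    126, 115]

/-- A degree allowed by the order and by the block at twenty-three. -/
def baseDeg (f : ℕ) : Bool :=
  Nat.ble 2 f && Nat.ble f 15646 &&
    (Nat.beq (f % 23) 0 || Nat.beq (f % 23) 1 || Nat.beq (f % 23) 22 || Nat.beq (f % 23) 11 ||
      Nat.beq (f % 23) 12)

set_option maxRecDepth 20000 in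
theorem ordinary_check : (ordDivs.filter baseDeg).all (fun f =>
    !(Nat.beq (f % 11) 1 || Nat.beq (f % 11) 10) || ordinaryDegs.elem f) = true := by decide +kernel

set_option maxRecDepth 20000 in
theorem exceptional_check : (ordDivs.filter baseDeg).all (fun f =>
    !(Nat.beq (f % 11) 5 || Nat.beq (f % 11) 6) || exceptionalDegs.elem f) = true := by decide +kernel

/-- No full part of a prime of the complement and no small degree with an involution in it. -/
def okDeg (v f : ℕ) : Bool :=
  (!(Nat.beq (v % 2) 0) || (Nat.blt 22 f && !(Nat.beq (f % 1024) 0))) &&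
    (!(Nat.beq (v % 3) 0) || !(Nat.beq (f % 27) 0)) && (!(Nat.beq (v % 7) 0) || !(Nat.beq (f % 7) 0))

/-- The conditions on the degrees of the rows. -/
def patE (v t : ℕ) (fs : List ℕ) : Bool :=
  Nat.ble (1 + (fs.map fun f => f * f).sum + 2 * (t * t)) 244823040 &&
    decide (2 + (fs.map fun f => sgE f * z2 f).sum + exE t * z2 t = 0) &&
    decide ((2 * 967680 + (fs.map fun f : ℕ => z2 f * ((967680 / f : ℕ) : ℤ)).sum -
      5 * (z2 t * ((967680 / t : ℕ) : ℤ))) % ((2 * v : ℕ) : ℤ) = 0) &&
    (!(Nat.beq (v % 7) 0) || !(Nat.beq (fs.count 45) 1))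

/-- The search for the ordinary rows: `p` and `m` are the positive and negative parts of the relation. -/
def patGo (Q : List ℕ → Bool) : ℕ → List ℕ → ℕ → ℕ → List ℕ → Bool
  | 0, _, p, m, acc => !(Nat.beq p m) || Q acc
  | k + 1, opts, p, m, acc => opts.tails.all fun tl => match tl with
    | [] => true
    | o :: _ => Nat.blt (m + (k + 1) * o) p || Nat.blt (p + (k + 1) * o) m ||
        bif Nat.beq (o % 11) 1 then patGo Q k tl (p + o) m (o :: acc)
        else patGo Q k tl p (m + o) (o :: acc)

/-- Every pattern for the complement of order `v` satisfies `Q`. -/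
def allPats (v : ℕ) (Q : ℕ → List ℕ → Bool) : Bool :=
  (exceptionalDegs.filter (okDeg v)).all fun t =>
    patGo (fun fs => !(patE v t fs) || Q t fs) 4 (ordinaryDegs.filter (okDeg v))
      (bif Nat.beq (t % 11) 5 then 1 else 1 + t) (bif Nat.beq (t % 11) 5 then t else 0) []

/-- The possible values at an involution with a centralizer of order `C`: a sign and an absolute value. -/
def valsE (C f : ℕ) : List (Bool × ℕ) :=
  (((List.range (f / 44 + 1)).map fun j => (true, f - 44 * j)) ++
    ((List.range (f / 44 + 1)).map fun j => (false, 44 * (f / 44 + 1 + j) - f))).filter fun x =>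
    Nat.blt x.2 f && Nat.ble (x.2 * x.2) C && Nat.beq (244823040 / C * x.2 % f) 0

/-- The divisibility and the norm for the value of absolute value `b` of the exceptional row. -/
def leafPre (K C t q b : ℕ) : Bool :=
  Nat.blt b t && Nat.beq (K * b % t) 0 && Nat.ble (q + 2 * (b * b)) C

/-- The quadratic relation, and the count used for `v = 2`. -/
def leafPost (v t b : ℕ) (ep bp : Bool) (np nm den Up Um : ℕ) : Bool :=
  (bif ep then Nat.beq (np * t + b * b * den) (nm * t) else Nat.beq (np * t) (nm * t + b * b * den)) &&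
    (!(Nat.beq v 2) || (bif bp then Nat.ble Um (Up + 6 * (b * (22256640 / t)))
      else Nat.ble (Um + 6 * (b * (22256640 / t))) Up))

/-- The end of the search for values: `P`, `M` are the parts of the linear relation, `np`, `nm` over
`den` those of the quadratic one and `Up`, `Um` those of the count used for `v = 2`. -/
def leafE (v C t P M q np nm den Up Um : ℕ) : Bool :=
  leafPre (244823040 / C) C t q ((P - M) + (M - P)) &&
    leafPost v t ((P - M) + (M - P)) (!(Nat.beq (t % 11) 5))
      (bif Nat.beq (t % 11) 5 then Nat.ble M P else Nat.ble P M) np nm den Up Um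

/-- The search for the values of the ordinary rows. -/
def valGo (v C t : ℕ) : List ℕ → ℕ → ℕ → ℕ → ℕ → ℕ → ℕ → ℕ → ℕ → Bool
  | [], P, M, q, np, nm, den, Up, Um => !(leafE v C t P M q np nm den Up Um)
  | f :: r, P, M, q, np, nm, den, Up, Um => (valsE C f).all fun x =>
      Nat.blt C (q + x.2 * x.2) ||
      bif Nat.beq (f % 11) 1 then
        bif x.1 then valGo v C t r (P + x.2) M (q + x.2 * x.2) (np * f + x.2 * x.2 * den) (nm * f) (den * f)
          (Up + x.2 * (22256640 / f)) Um
        else valGo v C t r P (M + x.2) (q + x.2 * x.2) (np * f + x.2 * x.2 * den) (nm * f) (den * f)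
          Up (Um + x.2 * (22256640 / f))
      else
        bif x.1 then valGo v C t r P (M + x.2) (q + x.2 * x.2) (np * f) (nm * f + x.2 * x.2 * den) (den * f)
          (Up + x.2 * (22256640 / f)) Um
        else valGo v C t r (P + x.2) M (q + x.2 * x.2) (np * f) (nm * f + x.2 * x.2 * den) (den * f)
          Up (Um + x.2 * (22256640 / f))

/-- No values for the degrees `t` and `fs`. -/
def deadVals (v C t : ℕ) (fs : List ℕ) : Bool :=
  (fs.any fun f => (valsE C f).isEmpty) || valGo v C t fs 1 0 1 1 0 1 22256640 0

/-- The orders of the centralizer of an involution normalised by a part of order `11 j` of the normalizer. -/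
def centOrds (js : List ℕ) : List ℕ :=
  ordDivs.filter fun C => !(Nat.beq (C % 23) 0) &&
    js.any fun j => Nat.beq (C % (11 * j)) 0 && Nat.beq (C / (11 * j) % 11) 1

/-- No rows and values with the given orders of the centralizer. -/
def deadE (v : ℕ) (Cs : List ℕ) : Bool := allPats v fun t fs => Cs.all fun C => deadVals v C t fs

set_option maxRecDepth 20000 in
theorem no_pattern_large : ([1344, 3456, 16128, 193536] : List ℕ).all
    (fun v => allPats v fun _ _ => false) = true := by decide +kernel

set_option maxRecDepth 20000 in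
theorem dead_288 : deadE 288 (centOrds [160, 480, 1440]) = true := by decide +kernel

end Cfsg.Agent.M24Order
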