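import Cfsg.Agent.Lib.M24Order.ElevenData

/-!
The searches at eleven for a complement of order 24.
-/

namespace Cfsg.Agent.M24Order

set_option maxRecDepth 20000 in
theorem dead_24 : deadE 24 (centOrds [40, 120]) = true := by decide +kernel

end Cfsg.Agent.M24Order
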