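import Cfsg.Agent.Lib.M24Order.ElevenData
import Mathlib.Data.Rat.Defs

/-!
Soundness of the search for values at eleven.
-/

namespace Cfsg.Agent.M24Order

theorem mem_valsE {C f : ℕ} {a : ℤ} (h1 : |a| < f) (hm : (44 : ℤ) ∣ (f : ℤ) - a)
    (hd : (f : ℤ) ∣ ((244823040 / C : ℕ) : ℤ) * a) (hC : a ^ 2 ≤ C) :
    (decide (0 ≤ a), a.natAbs) ∈ valsE C f := by
  obtain ⟨m, hm⟩ := hm
  rw [abs_lt] at h1
  refine List.mem_filter.2 ⟨List.mem_append.2 ?_, ?_⟩
  · rcases le_or_gt 0 a with ha | ha
    · left
      refine List.mem_map.2 ⟨m.toNat, List.mem_range.2 (by omega), ?_⟩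
      rw [decide_eq_true ha]
      simp only [Prod.mk.injEq, true_and]
      omega
    · right
      refine List.mem_map.2 ⟨m.toNat - (f / 44 + 1), List.mem_range.2 (by omega), ?_⟩
      rw [decide_eq_false (not_le.2 ha)]
      simp only [Prod.mk.injEq, true_and]
      omega
  · simp only [Bool.and_eq_true, Nat.blt_eq, Nat.ble_eq, Nat.beq_eq]
    refine ⟨⟨by omega, ?_⟩, Nat.mod_eq_zero_of_dvd ?_⟩
    · have : ((a.natAbs * a.natAbs : ℕ) : ℤ) ≤ (C : ℤ) := by
        push_cast; rw [abs_mul_abs_self, ← pow_two]; exact hC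
      exact_mod_cast this
    · have := Int.natAbs_dvd_natAbs.2 hd
      rwa [Int.natAbs_natCast, Int.natAbs_mul, Int.natAbs_natCast] at this

/-- The search reaches the end with the sums of the values. -/
theorem valGo_sound {α : Type*} (v C t : ℕ) (F : α → ℕ) (a : α → ℤ) : ∀ (L : List α) {P M q np nm den Up Um : ℕ},
    valGo v C t (L.map F) P M q np nm den Up Um = true →
    (∀ x ∈ L, 0 < F x ∧ (decide (0 ≤ a x), (a x).natAbs) ∈ valsE C (F x)) →
    (q : ℤ) + (L.map fun x => a x * a x).sum ≤ C → 0 < den →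
    ∃ P' M' q' np' nm' den' Up' Um' : ℕ, leafE v C t P' M' q' np' nm' den' Up' Um' = false ∧
      (P' : ℤ) - M' = (P : ℤ) - M + (L.map fun x => sgE (F x) * a x).sum ∧
      (q' : ℤ) = (q : ℤ) + (L.map fun x => a x * a x).sum ∧ 0 < den' ∧
      ((np' : ℚ) - nm') / den' = ((np : ℚ) - nm) / den +
        (L.map fun x => (sgE (F x) : ℚ) * ((a x : ℚ) * a x) / F x).sum ∧
      (Up' : ℤ) - Um' = (Up : ℤ) - Um + (L.map fun x => a x * ((22256640 / F x : ℕ) : ℤ)).sum
  | [], P, M, q, np, nm, den, Up, Um, h, _, _, hden => by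
    simp only [List.map_nil, valGo, Bool.not_eq_true'] at h
    exact ⟨P, M, q, np, nm, den, Up, Um, h, by simp, by simp, hden, by simp, by simp⟩
  | x :: L, P, M, q, np, nm, den, Up, Um, h, hv, hq, hden => by
    obtain ⟨hf, hmem⟩ := hv x (by simp)
    simp only [List.map_cons, valGo] at h
    have h := List.all_eq_true.1 h _ hmem
    simp only [List.map_cons, List.sum_cons] at hq
    set n := (a x).natAbs with hn
    have hnn : ((n * n : ℕ) : ℤ) = a x * a x := by rw [hn, Int.natAbs_mul_self]
    have hrest : (0 : ℤ) ≤ (L.map fun x => a x * a x).sum := List.sum_nonneg (by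
      intro y hy
      obtain ⟨z, -, rfl⟩ := List.mem_map.1 hy
      exact mul_self_nonneg _)
    rw [Bool.or_eq_true] at h
    rcases h with h | h
    · rw [Nat.blt_eq] at h
      simp only at h
      omega
    have hq' : ((q + n * n : ℕ) : ℤ) + (L.map fun x => a x * a x).sum ≤ C := by omega
    have hden' : 0 < den * F x := Nat.mul_pos hden hf
    have hfq : (F x : ℚ) ≠ 0 := Nat.cast_ne_zero.2 hf.ne'
    have hdq : (den : ℚ) ≠ 0 := Nat.cast_ne_zero.2 hden.ne'
    have hnq : (n : ℚ) ^ 2 = (a x : ℚ) ^ 2 := by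
      rw [pow_two, pow_two]; exact_mod_cast hnn
    have hv' : ∀ y ∈ L, 0 < F y ∧ (decide (0 ≤ a y), (a y).natAbs) ∈ valsE C (F y) :=
      fun y hy => hv y (List.mem_cons_of_mem x hy)
    simp only [List.map_cons, List.sum_cons]
    by_cases h11 : F x % 11 = 1
    · have hb : Nat.beq (F x % 11) 1 = true := by rw [Nat.beq_eq]; exact h11
      have hs : sgE (F x) = 1 := by rw [sgE, if_pos h11]
      rw [hb, cond_true] at h
      rcases le_or_gt 0 (a x) with hp | hp
      · rw [decide_eq_true hp, cond_true] at h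
        obtain ⟨P', M', q', np', nm', den', Up', Um', e0, e1, e2, e3, e4, e5⟩ :=
          valGo_sound v C t F a L h hv' hq' hden'
        refine ⟨P', M', q', np', nm', den', Up', Um', e0, ?_, ?_, e3, ?_, ?_⟩
        · rw [e1, hs]; push_cast; omega
        · rw [e2]; push_cast at hnn ⊢; linarith
        · rw [e4, hs]; push_cast; field_simp; rw [hnq]; ring
        · rw [e5, show a x = (n : ℤ) by omega]; push_cast; ring
      · rw [decide_eq_false (not_le.2 hp), cond_false] at h
        obtain ⟨P', M', q', np', nm', den', Up', Um', e0, e1, e2, e3, e4, e5⟩ :=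
          valGo_sound v C t F a L h hv' hq' hden'
        refine ⟨P', M', q', np', nm', den', Up', Um', e0, ?_, ?_, e3, ?_, ?_⟩
        · rw [e1, hs]; push_cast; omega
        · rw [e2]; push_cast at hnn ⊢; linarith
        · rw [e4, hs]; push_cast; field_simp; rw [hnq]; ring
        · rw [e5, show a x = -(n : ℤ) by omega]; push_cast; ring
    · have hb : Nat.beq (F x % 11) 1 = false := by
        rw [← Bool.not_eq_true, Nat.beq_eq]; exact h11
      have hs : sgE (F x) = -1 := by rw [sgE, if_neg h11]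
      rw [hb, cond_false] at h
      rcases le_or_gt 0 (a x) with hp | hp
      · rw [decide_eq_true hp, cond_true] at h
        obtain ⟨P', M', q', np', nm', den', Up', Um', e0, e1, e2, e3, e4, e5⟩ :=
          valGo_sound v C t F a L h hv' hq' hden'
        refine ⟨P', M', q', np', nm', den', Up', Um', e0, ?_, ?_, e3, ?_, ?_⟩
        · rw [e1, hs]; push_cast; omega
        · rw [e2]; push_cast at hnn ⊢; linarith
        · rw [e4, hs]; push_cast; field_simp; rw [hnq]; ring
        · rw [e5, show a x = (n : ℤ) by omega]; push_cast; ring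
      · rw [decide_eq_false (not_le.2 hp), cond_false] at h
        obtain ⟨P', M', q', np', nm', den', Up', Um', e0, e1, e2, e3, e4, e5⟩ :=
          valGo_sound v C t F a L h hv' hq' hden'
        refine ⟨P', M', q', np', nm', den', Up', Um', e0, ?_, ?_, e3, ?_, ?_⟩
        · rw [e1, hs]; push_cast; omega
        · rw [e2]; push_cast at hnn ⊢; linarith
        · rw [e4, hs]; push_cast; field_simp; rw [hnq]; ring
        · rw [e5, show a x = -(n : ℤ) by omega]; push_cast; ring

/-- A positive answer of the search excludes values. -/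
theorem deadVals_sound {α : Type*} {v C t : ℕ} {F : α → ℕ} {L : List α}
    (h : deadVals v C t (L.map F) = true) (a : α → ℤ) (b : ℤ)
    (hL : ∀ x ∈ L, |a x| < F x ∧ (44 : ℤ) ∣ (F x : ℤ) - a x ∧ (F x : ℤ) ∣ ((244823040 / C : ℕ) : ℤ) * a x)
    (hb : |b| < t) (hbd : (t : ℤ) ∣ ((244823040 / C : ℕ) : ℤ) * b)
    (hlin : 1 + (L.map fun x => sgE (F x) * a x).sum + exE t * b = 0)
    (hnorm : 1 + (L.map fun x => a x * a x).sum + 2 * (b * b) ≤ C)
    (hW : (1 : ℚ) + (L.map fun x => (sgE (F x) : ℚ) * ((a x : ℚ) * a x) / F x).sum +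
      (exE t : ℚ) * ((b : ℚ) * b) / t = 0)
    (hU : v = 2 → 0 ≤ 22256640 + (L.map fun x => a x * ((22256640 / F x : ℕ) : ℤ)).sum +
      6 * (b * ((22256640 / t : ℕ) : ℤ))) : False := by
  have hnn : ∀ x ∈ L, 0 ≤ a x * a x := fun x _ => mul_self_nonneg _
  have hmem : ∀ x ∈ L, (decide (0 ≤ a x), (a x).natAbs) ∈ valsE C (F x) := by
    intro x hx
    obtain ⟨h1, h2, h3⟩ := hL x hx
    refine mem_valsE h1 h2 h3 ?_
    have h4 := List.single_le_sum (l := L.map fun x => a x * a x) (by
      intro y hy
      obtain ⟨z, -, rfl⟩ := List.mem_map.1 hy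
      exact mul_self_nonneg _) _ (List.mem_map.2 ⟨x, hx, rfl⟩)
    have : 0 ≤ b * b := mul_self_nonneg b
    rw [pow_two]; linarith
  simp only [deadVals, Bool.or_eq_true, List.any_eq_true] at h
  rcases h with ⟨f, hf, he⟩ | h
  · obtain ⟨x, hx, rfl⟩ := List.mem_map.1 hf
    have h1 := hmem x hx
    rw [List.isEmpty_iff.1 he] at h1
    simp at h1
  obtain ⟨P', M', q', np', nm', den', Up', Um', e0, e1, e2, e3, e4, e5⟩ :=
    valGo_sound v C t F a L h
      (fun x hx => ⟨by have := (hL x hx).1; have := abs_nonneg (a x); omega, hmem x hx⟩)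
      (by have : 0 ≤ b * b := mul_self_nonneg b; push_cast; linarith) one_pos
  rw [← Bool.not_eq_true] at e0
  apply e0
  have hex : exE t = 1 ∨ exE t = -1 := by
    by_cases h5 : t % 11 = 5
    · right; rw [exE, if_pos h5]
    · left; rw [exE, if_neg h5]
  have htpos : 0 < t := by have := abs_nonneg b; omega
  have hPM : (P' : ℤ) - M' = -(exE t * b) := by rw [e1]; push_cast; linarith
  have hnb : P' - M' + (M' - P') = b.natAbs := by
    rcases hex with e | e <;> rw [e] at hPM <;> omega
  have hg : ((b.natAbs * b.natAbs : ℕ) : ℤ) = b * b := Int.natAbs_mul_self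
  have hgq : ((b.natAbs * b.natAbs : ℕ) : ℚ) = (b : ℚ) * b := by rw [← Int.cast_natCast, hg, Int.cast_mul]
  rw [leafE, hnb, Bool.and_eq_true]
  constructor
  · simp only [leafPre, Bool.and_eq_true, Nat.blt_eq, Nat.ble_eq, Nat.beq_eq]
    refine ⟨⟨by rw [abs_lt] at hb; omega, Nat.mod_eq_zero_of_dvd ?_⟩, ?_⟩
    · have := Int.natAbs_dvd_natAbs.2 hbd
      rwa [Int.natAbs_natCast, Int.natAbs_mul, Int.natAbs_natCast] at this
    · have : ((q' + 2 * (b.natAbs * b.natAbs) : ℕ) : ℤ) ≤ (C : ℤ) := by
        push_cast at hg e2 ⊢; linarith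
      exact_mod_cast this
  rw [leafPost, Bool.and_eq_true]
  have hdq : (den' : ℚ) ≠ 0 := Nat.cast_ne_zero.2 e3.ne'
  have htq : (t : ℚ) ≠ 0 := Nat.cast_ne_zero.2 htpos.ne'
  have key : ((np' : ℚ) - nm') * t + (exE t : ℚ) * ((b : ℚ) * b) * den' = 0 := by
    have h0 : ((np' : ℚ) - nm') / den' + (exE t : ℚ) * ((b : ℚ) * b) / t = 0 := by
      rw [e4]; push_cast; linarith
    field_simp at h0
    linarith
  refine ⟨?_, ?_⟩
  · by_cases h5 : t % 11 = 5
    · have hb5 : Nat.beq (t % 11) 5 = true := by rw [Nat.beq_eq]; exact h5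
      rw [hb5, Bool.not_true, cond_false, Nat.beq_eq]
      rw [exE, if_pos h5] at key
      have h' : ((np' * t : ℕ) : ℚ) = ((nm' * t + b.natAbs * b.natAbs * den' : ℕ) : ℚ) := by
        push_cast at hgq key ⊢; rw [hgq]; linarith
      exact_mod_cast h'
    · have hb5 : Nat.beq (t % 11) 5 = false := by rw [← Bool.not_eq_true, Nat.beq_eq]; exact h5
      rw [hb5, Bool.not_false, cond_true, Nat.beq_eq]
      rw [exE, if_neg h5] at key
      have h' : ((np' * t + b.natAbs * b.natAbs * den' : ℕ) : ℚ) = ((nm' * t : ℕ) : ℚ) := by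
        push_cast at hgq key ⊢; rw [hgq]; linarith
      exact_mod_cast h'
  · rw [Bool.or_eq_true]
    by_cases hv : v = 2
    · right
      have hU' := hU hv
      rw [show ((22256640 : ℕ) : ℤ) = 22256640 from rfl, Nat.cast_zero, sub_zero] at e5
      set X : ℕ := 22256640 / t
      rcases le_or_gt 0 b with hp | hp
      · have hbp : (bif Nat.beq (t % 11) 5 then Nat.ble M' P' else Nat.ble P' M') = true := by
          by_cases h5 : t % 11 = 5
          · rw [exE, if_pos h5] at hPM
            rw [show Nat.beq (t % 11) 5 = true by rw [Nat.beq_eq]; exact h5, cond_true, Nat.ble_eq]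
            omega
          · rw [exE, if_neg h5] at hPM
            rw [show Nat.beq (t % 11) 5 = false by rw [← Bool.not_eq_true, Nat.beq_eq]; exact h5,
              cond_false, Nat.ble_eq]
            omega
        rw [hbp, cond_true, Nat.ble_eq]
        have : (Um' : ℤ) ≤ ((Up' + 6 * (b.natAbs * X) : ℕ) : ℤ) := by
          push_cast; rw [abs_of_nonneg hp]; linarith
        exact_mod_cast this
      · have hbp : (bif Nat.beq (t % 11) 5 then Nat.ble M' P' else Nat.ble P' M') = false := by
          by_cases h5 : t % 11 = 5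
          · rw [exE, if_pos h5] at hPM
            rw [show Nat.beq (t % 11) 5 = true by rw [Nat.beq_eq]; exact h5, cond_true,
              ← Bool.not_eq_true, Nat.ble_eq]
            omega
          · rw [exE, if_neg h5] at hPM
            rw [show Nat.beq (t % 11) 5 = false by rw [← Bool.not_eq_true, Nat.beq_eq]; exact h5,
              cond_false, ← Bool.not_eq_true, Nat.ble_eq]
            omega
        rw [hbp, cond_false, Nat.ble_eq]
        have : ((Um' + 6 * (b.natAbs * X) : ℕ) : ℤ) ≤ (Up' : ℤ) := by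
          push_cast; rw [abs_of_neg hp]; linarith
        exact_mod_cast this
    · left
      rw [Bool.not_eq_true', ← Bool.not_eq_true, Nat.beq_eq]
      exact hv

theorem patGo_sound {Q : List ℕ → Bool} : ∀ {k : ℕ} {opts : List ℕ} {p m : ℕ} {acc : List ℕ},
    patGo Q k opts p m acc = true → opts.Pairwise (fun x y => y ≤ x) →
    ∀ s : Multiset ℕ, s.card = k → (∀ x ∈ s, x ∈ opts) →
    (p : ℤ) - m + (s.map fun f => sgE f * (f : ℤ)).sum = 0 →
    ∃ l : List ℕ, (l : Multiset ℕ) = s + (acc : Multiset ℕ) ∧ Q l = true := by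
  intro k
  induction k with
  | zero =>
    intro opts p m acc h _ s hs _ hrel
    rw [Multiset.card_eq_zero.1 hs] at hrel ⊢
    simp only [Multiset.map_zero, Multiset.sum_zero, add_zero] at hrel
    rw [patGo, Bool.or_eq_true, Bool.not_eq_true', ← Bool.not_eq_true, Nat.beq_eq] at h
    exact ⟨acc, by simp, h.resolve_left fun h' => h' (by omega)⟩
  | succ k ih =>
    intro opts p m acc h hpw s hs hsub hrel
    obtain ⟨tl, htl, o, r, rfl, ho, hin⟩ := exists_first hsub (fun h0 => by rw [h0] at hs; simp at hs)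
    have hpw' : (o :: r).Pairwise (fun x y => y ≤ x) :=
      hpw.sublist ((List.mem_tails _ _).1 htl).sublist
    have hmax : ∀ x ∈ s, x ≤ o := by
      intro x hx
      rcases List.mem_cons.1 (hin x hx) with e | e
      · exact e.le
      · exact (List.pairwise_cons.1 hpw').1 x e
    have hbound : |(s.map fun f => sgE f * (f : ℤ)).sum| ≤ ((k + 1 : ℕ) : ℤ) * o := by
      rw [← hs]
      clear hrel h hin ho hs hsub
      induction s using Multiset.induction_on with
      | empty => simp
      | cons x s iht =>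
        simp only [Multiset.map_cons, Multiset.sum_cons, Multiset.card_cons, Nat.cast_succ]
        have h1 := iht fun y hy => hmax y (Multiset.mem_cons_of_mem hy)
        have h2 : |sgE x * (x : ℤ)| ≤ (o : ℤ) := by
          have : (x : ℤ) ≤ (o : ℤ) := by exact_mod_cast hmax x (Multiset.mem_cons_self _ _)
          unfold sgE
          split_ifs <;> simpa using this
        calc _ ≤ |sgE x * (x : ℤ)| + |(s.map fun f => sgE f * (f : ℤ)).sum| := abs_add_le _ _
          _ ≤ _ := by rw [add_mul, one_mul]; linarith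
    rw [abs_le] at hbound
    push_cast at hbound
    obtain ⟨s', rfl⟩ := Multiset.exists_cons_of_mem ho
    rw [patGo] at h
    have h1 := List.all_eq_true.1 h _ htl
    simp only [Bool.or_eq_true, Nat.blt_eq] at h1
    simp only [Multiset.map_cons, Multiset.sum_cons] at hrel hbound
    rcases h1 with (h1 | h1) | h1
    · exfalso
      have : ((m + (k + 1) * o : ℕ) : ℤ) < (p : ℤ) := by exact_mod_cast h1
      push_cast at this; linarith
    · exfalso
      have : ((p + (k + 1) * o : ℕ) : ℤ) < (m : ℤ) := by exact_mod_cast h1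
      push_cast at this; linarith
    · by_cases h11 : o % 11 = 1
      · rw [show Nat.beq (o % 11) 1 = true by rw [Nat.beq_eq]; exact h11, cond_true] at h1
        obtain ⟨l, hl, hQ⟩ := ih h1 hpw' s' (by simpa using hs)
          (fun x hx => hin x (Multiset.mem_cons_of_mem hx))
          (by rw [sgE, if_pos h11] at hrel; push_cast; linarith)
        exact ⟨l, by rw [hl, ← Multiset.cons_coe, Multiset.add_cons, Multiset.cons_add], hQ⟩
      · rw [show Nat.beq (o % 11) 1 = false by rw [← Bool.not_eq_true, Nat.beq_eq]; exact h11,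
          cond_false] at h1
        obtain ⟨l, hl, hQ⟩ := ih h1 hpw' s' (by simpa using hs)
          (fun x hx => hin x (Multiset.mem_cons_of_mem hx))
          (by rw [sgE, if_neg h11] at hrel; push_cast; linarith)
        exact ⟨l, by rw [hl, ← Multiset.cons_coe, Multiset.add_cons, Multiset.cons_add], hQ⟩

/-- A pattern satisfies what the enumeration says. -/
theorem allPats_sound {v : ℕ} {Q : ℕ → List ℕ → Bool} (h : allPats v Q = true) {t : ℕ}
    (ht : t ∈ exceptionalDegs) (htok : okDeg v t = true) (s : Multiset ℕ) (hs : s.card = 4)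
    (hmem : ∀ x ∈ s, x ∈ ordinaryDegs ∧ okDeg v x = true)
    (hrel : 1 + exE t * (t : ℤ) + (s.map fun f => sgE f * (f : ℤ)).sum = 0) :
    ∃ l : List ℕ, (l : Multiset ℕ) = s ∧ (patE v t l = true → Q t l = true) := by
  have h := List.all_eq_true.1 h t (List.mem_filter.2 ⟨ht, htok⟩)
  have hsorted : ordinaryDegs.Pairwise (fun x y => y ≤ x) := by decide
  have hp : ((bif Nat.beq (t % 11) 5 then 1 else 1 + t : ℕ) : ℤ) - (bif Nat.beq (t % 11) 5 then t else 0 : ℕ) =
      1 + exE t * (t : ℤ) := by
    by_cases h5 : t % 11 = 5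
    · rw [show Nat.beq (t % 11) 5 = true by rw [Nat.beq_eq]; exact h5, cond_true, cond_true, exE, if_pos h5]
      push_cast; ring
    · rw [show Nat.beq (t % 11) 5 = false by rw [← Bool.not_eq_true, Nat.beq_eq]; exact h5, cond_false,
        cond_false, exE, if_neg h5]
      push_cast; ring
  obtain ⟨l, hl, hQ⟩ := patGo_sound h (hsorted.filter _) s hs
    (fun x hx => List.mem_filter.2 (hmem x hx)) (by rw [hp]; exact hrel)
  rw [Multiset.coe_nil, add_zero] at hl
  exact ⟨l, hl, fun hpat => by simpa [hpat] using hQ⟩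

end Cfsg.Agent.M24Order
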