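import Cfsg.Agent.Lib.M12Uniq.FivePrincipal
import Cfsg.Agent.Lib.Classical.DicksonGroups

/-!
A complement of order twelve at eleven: either an involution central in the normalizer, or a four group
with one class of involutions.
-/

set_option linter.unusedSectionVars false
set_option linter.style.haveILetI false

namespace Cfsg.Agent.M24Order

open Cfsg Cfsg.Agent.Char Cfsg.Agent.DefOne

universe u

variable {G : Type u} [Group G] [Fintype G]

/-- Facts on the alternating group of degree four. -/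
theorem alt_four_facts :
    (∀ x y : alternatingGroup (Fin 4), x * x = 1 → y * y = 1 → x * y * (x * y) = 1) ∧
      Fintype.card {x : alternatingGroup (Fin 4) // x * x = 1} = 4 ∧
      ∀ x y : alternatingGroup (Fin 4), x * x = 1 → x ≠ 1 → y * y = 1 → y ≠ 1 → ∃ z, z * x * z⁻¹ = y := by
  refine ⟨?_, ?_, ?_⟩ <;> decide +kernel

/-- The conjugates under a subgroup and its elements commuting with the given one. -/
theorem card_conjugates_mul (W : Subgroup G) (i : G) :
    Nat.card {g : G // ∃ w ∈ W, w * i * w⁻¹ = g} *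
      Nat.card (W ⊓ Subgroup.centralizer ({i} : Set G) : Subgroup G) = Nat.card W := by
  classical
  letI : MulAction W G := MulAction.compHom G ((ConjAct.toConjAct (G := G)).toMonoidHom.comp W.subtype)
  have hsmul : ∀ (w : W) (g : G), w • g = (w : G) * g * (w : G)⁻¹ := fun w g => rfl
  have h := Nat.card_congr (MulAction.orbitProdStabilizerEquivGroup W i)
  rw [Nat.card_prod] at h
  rw [← h]
  congr 1
  · refine Nat.card_congr (Equiv.subtypeEquivRight fun g => ?_)
    constructor
    · rintro ⟨w, hw, rfl⟩; exact ⟨⟨w, hw⟩, hsmul _ _⟩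
    · rintro ⟨w, rfl⟩; exact ⟨w, w.2, (hsmul w i).symm⟩
  · have hst : MulAction.stabilizer W i = (Subgroup.centralizer ({i} : Set G)).subgroupOf W := by
      ext w
      rw [MulAction.mem_stabilizer_iff, hsmul, Subgroup.mem_subgroupOf, Subgroup.mem_centralizer_singleton_iff,
        mul_inv_eq_iff_eq_mul]
    rw [hst, ← Subgroup.inf_subgroupOf_left, Nat.card_congr (Subgroup.subgroupOfEquivOfLe inf_le_left).toEquiv]

variable {P V N : Subgroup G}

/-- The complement lies in the normalizer. -/
theorem V_le_N {e : ℕ} (K : Conf 11 P V N e) : V ≤ N := fun v hv => by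
  rw [K.hN]
  refine Subgroup.centralizer_le_normalizer _ (Subgroup.mem_centralizer_iff.2 fun y hy => ?_)
  exact K.D.pv y hy v hv

/-- An involution commuting with `P` lies in the complement. -/
theorem mem_V_of_sq {e : ℕ} (K : Conf 11 P V N e) {g : G} (hg : g * g = 1) (hc : ∀ y ∈ P, y * g = g * y) :
    g ∈ V := by
  obtain ⟨y, hy, v, hv, rfl⟩ := (K.hC g).1 (Subgroup.mem_centralizer_iff.2 hc)
  have hcomm : y * v = v * y := K.D.pv y hy v hv
  have h2 : y * y = (v * v)⁻¹ := by
    refine eq_inv_of_mul_eq_one_left ?_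
    rw [← hg]
    calc y * y * (v * v) = y * (y * v) * v := by group
      _ = y * (v * y) * v := by rw [hcomm]
      _ = y * v * (y * v) := by group
  have hy2 : y * y = 1 := by
    have hmem : y * y ∈ V := h2 ▸ inv_mem (mul_mem hv hv)
    have h1 := Subgroup.orderOf_dvd_natCard P (mul_mem hy hy)
    have h3 := Subgroup.orderOf_dvd_natCard V hmem
    rw [← orderOf_eq_one_iff]
    exact Nat.Coprime.eq_one_of_dvd (Nat.Coprime.coprime_dvd_left h1 K.D.cop) h3
  have hy1 : y = 1 := by
    by_contra h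
    have := orderOf_dvd_of_pow_eq_one (show y ^ 2 = 1 by rw [pow_two, hy2])
    rw [(Nat.dvd_prime K.hp).1 (K.hP ▸ Subgroup.orderOf_dvd_natCard P hy) |>.resolve_left
      (fun e => h (orderOf_eq_one_iff.1 e))] at this
    norm_num at this
  rwa [hy1, one_mul]

/-- The two cases. -/
theorem twelve_cases (K : Conf 11 P V N 10) (hV : Nat.card V = 12) :
    (∃ i ∈ V, orderOf i = 2 ∧ ∀ w ∈ N, w * i * w⁻¹ = i) ∨
    (∃ (U : Subgroup G) (i : G), Nat.card U = 4 ∧ i ∈ U ∧ orderOf i = 2 ∧ U ≤ V ∧
      (∀ w ∈ N, ∀ u ∈ U, w * u * w⁻¹ ∈ U) ∧ (∀ u ∈ U, u * u = 1) ∧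
      (∀ y ∈ P, ∀ z ∈ P, y ≠ 1 → z ≠ 1 → ∃ g : G, g * i * g⁻¹ = i ∧ g * y * g⁻¹ = z) ∧
      (∀ v ∈ U, v ≠ 1 → ∃ g : G, g * i * g⁻¹ = v ∧ ∀ y ∈ P, g * y = y * g) ∧
      (∀ g, IsConj i g → (∀ y ∈ P, y * g = g * y) → g ∈ U) ∧
      Nat.card (N ⊓ Subgroup.centralizer ({i} : Set G) : Subgroup G) = 440) := by
  classical
  have hN : Nat.card N = 1320 := by rw [K.D.hcard, K.hP, hV]
  have hVN := V_le_N K
  by_cases hc : ∃ z ∈ V, orderOf z = 2 ∧ ∀ v ∈ V, v * z = z * v
  · left
    set J := {g : G // g ∈ V ∧ orderOf g = 2 ∧ ∀ v ∈ V, v * g = g * v}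
    haveI : Fintype J := Fintype.ofFinite _
    have hnorm : ∀ w ∈ N, ∀ g : J, w * g.1 * w⁻¹ ∈ V ∧ orderOf (w * g.1 * w⁻¹) = 2 ∧
        ∀ v ∈ V, v * (w * g.1 * w⁻¹) = w * g.1 * w⁻¹ * v := fun w hw g => by
      refine ⟨K.D.hNV w hw _ g.2.1, ?_, fun v hv => ?_⟩
      · rw [← MulAut.conj_apply, MulEquiv.orderOf_eq]; exact g.2.2.1
      · have h := g.2.2.2 _ (K.D.hNV w⁻¹ (inv_mem hw) v hv)
        rw [inv_inv] at h
        calc v * (w * g.1 * w⁻¹) = w * ((w⁻¹ * v * w) * g.1) * w⁻¹ := by group
          _ = w * (g.1 * (w⁻¹ * v * w)) * w⁻¹ := by rw [h]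
          _ = _ := by group
    letI : MulAction N J :=
      { smul := fun w g => ⟨(w : G) * g.1 * (w : G)⁻¹, hnorm w w.2 g⟩
        one_smul := fun g => Subtype.ext (by
          show ((1 : N) : G) * g.1 * ((1 : N) : G)⁻¹ = g.1
          simp)
        mul_smul := fun a b g => Subtype.ext (by
          show ((a * b : N) : G) * g.1 * ((a * b : N) : G)⁻¹ = (a : G) * ((b : G) * g.1 * (b : G)⁻¹) * (a : G)⁻¹
          simp [mul_assoc]) }
    -- the center of `V` has one or three involutions
    have hJ : Fintype.card J % 2 = 1 ∧ Fintype.card J ≤ 3 := by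
      obtain ⟨z, hz⟩ := hc
      let Z : Subgroup G :=
        { carrier := {g | g ∈ V ∧ g * g = 1 ∧ ∀ v ∈ V, v * g = g * v}
          one_mem' := ⟨one_mem V, one_mul 1, fun v _ => by simp⟩
          mul_mem' := fun {a b} ha hb => ⟨mul_mem ha.1 hb.1, by
              calc a * b * (a * b) = a * (b * a) * b := by group
                _ = a * (a * b) * b := by rw [hb.2.2 a ha.1]
                _ = a * a * (b * b) := by group
                _ = 1 := by rw [ha.2.1, hb.2.1, one_mul],
            fun v hv => by rw [← mul_assoc, ha.2.2 v hv, mul_assoc, hb.2.2 v hv, ← mul_assoc]⟩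
          inv_mem' := fun {a} ha => by rwa [inv_eq_of_mul_eq_one_left ha.2.1] }
      haveI : Fintype Z := Fintype.ofFinite _
      have hZV : Z ≤ V := fun g hg => hg.1
      have hd : Nat.card Z ∣ 12 := hV ▸ Subgroup.card_dvd_of_le hZV
      obtain ⟨k, hk⟩ := (IsPGroup.iff_card (p := 2) (G := Z)).1 fun g => ⟨1, Subtype.ext (by
        rw [pow_one, pow_two, Subgroup.coe_mul]; exact g.2.2.1)⟩
      have hk2 : k ≤ 2 := by
        by_contra h
        have : 2 ^ 3 ∣ 12 := (pow_dvd_pow 2 (show 3 ≤ k by omega)).trans (hk ▸ hd)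
        norm_num at this
      have e : Fintype.card J = Fintype.card Z - 1 := by
        rw [Fintype.card_congr (show J ≃ {g : Z // g ≠ 1} from
          { toFun := fun g => ⟨⟨g.1, g.2.1, by
                have h := pow_orderOf_eq_one g.1
                rw [g.2.2.1, pow_two] at h
                exact h, g.2.2.2⟩,
              fun h => by
                have h' := g.2.2.1
                have h1 : g.1 = 1 := congrArg Subtype.val h
                rw [h1, orderOf_one] at h'
                omega⟩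
            invFun := fun g => ⟨g.1.1, g.1.2.1, orderOf_eq_prime (by rw [pow_two]; exact g.1.2.2.1)
              (fun h => g.2 (Subtype.ext h)), g.1.2.2.2⟩
            left_inv := fun g => rfl
            right_inv := fun g => rfl }), Fintype.card_subtype_compl, Fintype.card_subtype_eq]
      have h2 : 2 ≤ Fintype.card Z := by
        rw [← Nat.card_eq_fintype_card]
        refine Finite.one_lt_card_iff_nontrivial.2 ⟨⟨⟨z, hz.1, by rw [← pow_two, ← hz.2.1, pow_orderOf_eq_one],
          hz.2.2⟩, 1, fun h => ?_⟩⟩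
        have h' := hz.2.1
        rw [show z = 1 from congrArg Subtype.val h, orderOf_one] at h'
        omega
      rw [Nat.card_eq_fintype_card] at hk
      interval_cases k <;> omega
    -- the normalizer acts through a group of order a power of two
    set φ : N →* Equiv.Perm J := MulAction.toPermHom N J
    have hrange : IsPGroup 2 φ.range := by
      intro σ
      obtain ⟨_, w, rfl⟩ := σ
      refine ⟨1, Subtype.ext ?_⟩
      rw [pow_one, Subgroup.coe_pow, OneMemClass.coe_one]
      have h10 : φ w ^ 10 = 1 := by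
        rw [← map_pow]
        have hmem : w ^ 10 ∈ (Subgroup.centralizer (P : Set G)).subgroupOf N := by
          haveI : ((Subgroup.centralizer (P : Set G)).subgroupOf N).Normal := by
            refine ⟨fun c hc a => ?_⟩
            rw [Subgroup.mem_subgroupOf] at hc ⊢
            refine Subgroup.mem_centralizer_iff.2 fun y hy => ?_
            have h := Subgroup.mem_centralizer_iff.1 hc _ (K.D.hNP (a : G)⁻¹ (inv_mem a.2) y hy)
            rw [inv_inv] at h
            simp only [Subgroup.coe_mul, Subgroup.coe_inv]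
            calc y * ((a : G) * c * (a : G)⁻¹) = (a : G) * (((a : G)⁻¹ * y * a) * c) * (a : G)⁻¹ := by group
              _ = (a : G) * ((c : G) * ((a : G)⁻¹ * y * a)) * (a : G)⁻¹ := by rw [h]
              _ = _ := by group
          rw [← K.D.he]
          exact Subgroup.pow_index_mem _ w
        obtain ⟨y, hy, v, hv, hyv⟩ := (K.hC _).1 (Subgroup.mem_subgroupOf.1 hmem)
        refine Equiv.ext fun g => Subtype.ext ?_
        show ((w ^ 10 : N) : G) * g.1 * ((w ^ 10 : N) : G)⁻¹ = g.1
        rw [← hyv, mul_inv_eq_iff_eq_mul]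
        calc y * v * g.1 = y * (v * g.1) := by group
          _ = y * (g.1 * v) := by rw [g.2.2.2 v hv]
          _ = y * g.1 * v := by group
          _ = g.1 * y * v := by rw [K.D.pv y hy _ g.2.1]
          _ = g.1 * (y * v) := by group
      have h6 : φ w ^ 6 = 1 := by
        refine orderOf_dvd_iff_pow_eq_one.1 (orderOf_dvd_card.trans ?_)
        rw [Fintype.card_perm]
        exact (Nat.factorial_dvd_factorial hJ.2).trans (by norm_num [Nat.factorial])
      have h := orderOf_dvd_of_pow_eq_one h10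
      have h' := orderOf_dvd_of_pow_eq_one h6
      exact orderOf_dvd_iff_pow_eq_one.1 (show orderOf (φ w) ∣ 2 from (Nat.dvd_gcd h h').trans (by norm_num))
    haveI : Fact (Nat.Prime 2) := ⟨Nat.prime_two⟩
    have hmod := hrange.card_modEq_card_fixedPoints J
    obtain ⟨⟨g, hg⟩⟩ : Nonempty (MulAction.fixedPoints φ.range J) := by
      by_contra h
      rw [not_nonempty_iff] at h
      have h0 : Nat.card (MulAction.fixedPoints φ.range J) = 0 := Nat.card_of_isEmpty
      rw [h0, Nat.card_eq_fintype_card] at hmod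
      have h1 : Fintype.card J % 2 = 0 % 2 := hmod
      omega
    exact ⟨g.1, g.2.1, g.2.2.1, fun w hw => congrArg Subtype.val (hg ⟨φ ⟨w, hw⟩, ⟨w, hw⟩, rfl⟩)⟩
  · right
    push Not at hc
    have h6 : ∀ g : V, orderOf g ≠ 6 := by
      intro g hg
      obtain ⟨v, hv, hne⟩ := hc ((g ^ 3 : V) : G) (g ^ 3).2 (by
        rw [Subgroup.orderOf_coe, orderOf_pow, hg]; norm_num)
      apply hne
      have hidx : (Subgroup.zpowers g).index = 2 := by
        have h := (Subgroup.zpowers g).index_mul_card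
        rw [Nat.card_zpowers, hg, hV] at h
        omega
      haveI := Subgroup.normal_of_index_eq_two hidx
      set v' : V := ⟨v, hv⟩
      obtain ⟨k, hk⟩ : ∃ k : ℕ, g ^ k = v' * g * v'⁻¹ :=
        (isOfFinOrder_of_finite g).mem_powers_iff_mem_zpowers.2
          (Subgroup.Normal.conj_mem inferInstance g (Subgroup.mem_zpowers g) v')
      have hk' : orderOf (g ^ k) = 6 := by rw [hk, ← MulAut.conj_apply, MulEquiv.orderOf_eq, hg]
      have hodd : k % 2 = 1 := by
        rw [orderOf_pow, hg] at hk'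
        rcases Nat.mod_two_eq_zero_or_one k with h | h
        · exfalso
          have hd : 2 ∣ Nat.gcd 6 k := Nat.dvd_gcd (by norm_num) (Nat.dvd_of_mod_eq_zero h)
          have h1 : Nat.gcd 6 k ≠ 1 := fun e => by rw [e] at hd; norm_num at hd
          have h3 := Nat.le_of_dvd (by norm_num) (Nat.gcd_dvd_left 6 k)
          interval_cases hh : Nat.gcd 6 k <;> omega
        · exact h
      have e3 : v' * g ^ 3 * v'⁻¹ = g ^ 3 := by
        rw [← conj_pow, ← hk, ← pow_mul, ← pow_mod_orderOf, hg, show k * 3 % 6 = 3 by omega]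
      simpa [v', mul_inv_eq_iff_eq_mul] using congrArg Subtype.val e3
    obtain ⟨ψ⟩ := Dickson.equiv_A4 hV h6
    obtain ⟨hA1, hA2, hA3⟩ := alt_four_facts
    have hψ : ∀ x : V, ψ x * ψ x = 1 ↔ x * x = 1 := fun x => by
      rw [← map_mul]; exact map_eq_one_iff ψ ψ.injective
    let U : Subgroup G :=
      { carrier := {g | g ∈ V ∧ g * g = 1}
        one_mem' := ⟨one_mem V, one_mul 1⟩
        mul_mem' := fun {a b} ha hb => ⟨mul_mem ha.1 hb.1, by
          have h := hA1 (ψ ⟨a, ha.1⟩) (ψ ⟨b, hb.1⟩) ((hψ _).2 (Subtype.ext ha.2)) ((hψ _).2 (Subtype.ext hb.2))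
          rw [← map_mul] at h
          exact congrArg Subtype.val ((hψ _).1 h)⟩
        inv_mem' := fun {a} ha => by rwa [inv_eq_of_mul_eq_one_left ha.2] }
    have hU : Nat.card U = 4 := by
      rw [← hA2, ← Nat.card_eq_fintype_card]
      exact Nat.card_congr
        { toFun := fun g => ⟨ψ ⟨g.1, g.2.1⟩, (hψ _).2 (Subtype.ext g.2.2)⟩
          invFun := fun x => ⟨(ψ.symm x.1 : V), (ψ.symm x.1).2, congrArg Subtype.val
            ((hψ (ψ.symm x.1)).1 (by rw [MulEquiv.apply_symm_apply]; exact x.2))⟩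
          left_inv := fun g => Subtype.ext (by
            show ((ψ.symm (ψ ⟨g.1, g.2.1⟩) : V) : G) = g.1
            rw [MulEquiv.symm_apply_apply])
          right_inv := fun x => Subtype.ext (by simp) }
    haveI : Fact (Nat.Prime 2) := ⟨Nat.prime_two⟩
    obtain ⟨i, hi⟩ := exists_prime_orderOf_dvd_card' 2 (show 2 ∣ Nat.card U by rw [hU]; norm_num)
    have hio : orderOf (i : G) = 2 := by rw [Subgroup.orderOf_coe, hi]
    have htrans : ∀ u ∈ U, u ≠ 1 → ∃ v ∈ V, v * (i : G) * v⁻¹ = u := by
      intro u hu hu1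
      obtain ⟨z, hz⟩ := hA3 (ψ ⟨i, i.2.1⟩) (ψ ⟨u, hu.1⟩) ((hψ _).2 (Subtype.ext i.2.2))
        (fun h => by
          have := congrArg Subtype.val ((map_eq_one_iff ψ ψ.injective).1 h)
          simp only [OneMemClass.coe_one] at this
          rw [this, orderOf_one] at hio
          omega)
        ((hψ _).2 (Subtype.ext hu.2))
        (fun h => hu1 (congrArg Subtype.val ((map_eq_one_iff ψ ψ.injective).1 h)))
      refine ⟨(ψ.symm z : V), (ψ.symm z).2, ?_⟩
      have h := congrArg (fun x => ((ψ.symm x : V) : G)) hz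
      simpa using h
    have hUN : ∀ w ∈ N, ∀ u ∈ U, w * u * w⁻¹ ∈ U := fun w hw u hu => ⟨K.D.hNV w hw u hu.1, by
      rw [show w * u * w⁻¹ * (w * u * w⁻¹) = w * (u * u) * w⁻¹ by group, hu.2, mul_one, mul_inv_cancel]⟩
    have hi1 : (i : G) ≠ 1 := fun h => by rw [h, orderOf_one] at hio; omega
    refine ⟨U, i, hU, i.2, hio, fun g hg => hg.1, hUN, fun u hu => hu.2, ?_, ?_, ?_, ?_⟩
    · intro y hy z hz hy1 hz1
      obtain ⟨w, hw, hwy⟩ := M12Uniq.conj_transitive K (by norm_num) hy hy1 hz hz1
      obtain ⟨v, hv, hvi⟩ := htrans (w * i * w⁻¹) (hUN w hw i i.2) (fun e => hi1 ((conj_eq_one_iff (a := w)).1 e))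
      refine ⟨w * (w⁻¹ * v⁻¹ * w), ?_, ?_⟩
      · rw [show w * (w⁻¹ * v⁻¹ * w) * (i : G) * (w * (w⁻¹ * v⁻¹ * w))⁻¹ = v⁻¹ * (w * i * w⁻¹) * v by group,
          ← hvi]
        group
      · rw [show w * (w⁻¹ * v⁻¹ * w) * y * (w * (w⁻¹ * v⁻¹ * w))⁻¹ = v⁻¹ * (w * y * w⁻¹) * v by group, hwy,
          mul_assoc, K.D.pv z hz v hv]
        group
    · intro v hv hv1
      obtain ⟨g, hg, hgi⟩ := htrans v hv hv1
      exact ⟨g, hgi, fun y hy => (K.D.pv y hy g hg).symm⟩
    · intro g hg hgc
      have hgg : g * g = 1 := M12Uniq.sq_of_isConj hg i.2.2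
      exact ⟨mem_V_of_sq K hgg hgc, hgg⟩
    · have h := card_conjugates_mul N (i : G)
      have hcard : Nat.card {g : G // ∃ w ∈ N, w * (i : G) * w⁻¹ = g} = 3 := by
        haveI : Fintype U := Fintype.ofFinite _
        rw [Nat.card_congr (show {g : G // ∃ w ∈ N, w * (i : G) * w⁻¹ = g} ≃ {u : U // u ≠ 1} from
          { toFun := fun g => ⟨⟨g.1, by obtain ⟨w, hw, e⟩ := g.2; rw [← e]; exact hUN w hw i i.2⟩, fun h => by
              obtain ⟨w, hw, e⟩ := g.2
              have h' : g.1 = 1 := congrArg Subtype.val h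
              rw [h'] at e
              exact hi1 ((conj_eq_one_iff (a := w)).1 e)⟩
            invFun := fun u => ⟨u.1.1, by
              obtain ⟨v, hv, e⟩ := htrans u.1.1 u.1.2 (fun h => u.2 (Subtype.ext h))
              exact ⟨v, hVN hv, e⟩⟩
            left_inv := fun g => rfl
            right_inv := fun u => rfl }), Nat.card_eq_fintype_card, Fintype.card_subtype_compl,
          Fintype.card_subtype_eq, ← Nat.card_eq_fintype_card, hU]
      rw [hcard, hN] at h
      omega

end Cfsg.Agent.M24Order
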