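import Cfsg.Agent.Lib.M23Order.Rows
import Cfsg.Agent.Lib.M23Order.Pairs
import Cfsg.Agent.Lib.M23Order.Column

/-!
Counting solutions with one factor in a section of an element of prime order, and the sums of the
squares of the components of the exceptional rows.
-/

set_option linter.unusedSectionVars false
set_option linter.style.haveILetI false

namespace Cfsg.Agent.M24Order

open Cfsg Cfsg.Agent.Char Cfsg.Agent.Blocks Cfsg.Agent.CCSylow Cfsg.Agent.DefOne
open Cfsg.Agent.M23Order (Rows)

open scoped ComplexConjugate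

universe u

/-- A class function with natural values, weighted by the orders of the centralizers, sums to a multiple
of the order of the group. -/
theorem dvd_sum_classes {W : Type*} [Group W] [Fintype W] (F : W → ℕ) (hF : ∀ w u, F (u * w * u⁻¹) = F w) :
    Nat.card W ∣ ∑ w, F w * Nat.card (Subgroup.centralizer ({w} : Set W)) := by
  classical
  rw [← Finset.sum_fiberwise Finset.univ (ConjClasses.mk : W → ConjClasses W)]
  refine Finset.dvd_sum fun C _ => ?_
  obtain ⟨r, rfl⟩ := ConjClasses.mk_surjective C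
  have hfil : (Finset.univ.filter fun w => ConjClasses.mk w = ConjClasses.mk r) = classFinset r := by
    ext w
    simp only [Finset.mem_filter, Finset.mem_univ, true_and, mem_classFinset, ConjClasses.mk_eq_mk_iff_isConj]
    exact ⟨fun h => h.symm, fun h => h.symm⟩
  rw [hfil, Finset.sum_congr rfl fun w hw => show F w * Nat.card (Subgroup.centralizer ({w} : Set W)) =
      F r * Nat.card (Subgroup.centralizer ({r} : Set W)) from ?_, Finset.sum_const, smul_eq_mul]
  · refine Dvd.intro (F r) ?_
    rw [card_classFinset, ← Subgroup.index_mul_card (Subgroup.centralizer ({r} : Set W))]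
    ring
  · have h := mem_classFinset.1 hw
    have hcl : classFinset w = classFinset r := by
      ext x
      simp only [mem_classFinset]
      exact ⟨fun h' => h.trans h', fun h' => h.symm.trans h'⟩
    obtain ⟨u, rfl⟩ := isConj_iff.1 h
    rw [hF]
    congr 1
    have h1 := (Subgroup.centralizer ({u * r * u⁻¹} : Set W)).index_mul_card
    have h2 := (Subgroup.centralizer ({r} : Set W)).index_mul_card
    rw [← card_classFinset, hcl, card_classFinset] at h1
    exact Nat.eq_of_mul_eq_mul_left (Nat.pos_of_ne_zero Subgroup.index_ne_zero_of_finite) (h1.trans h2.symm)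

variable {G : Type u} [Group G] [Fintype G]

variable {p : ℕ} {P V N : Subgroup G} {e : ℕ} (K : Conf p P V N e)
  [Fintype P] [Fintype V] [Fintype N] [Fintype (P →* ℂˣ)]

include K

/-- A fixed power sends a member of a section to the element it belongs to. -/
theorem exists_section_pow : ∃ k : ℕ, ∀ (y : P) (w : V), ((y : G) * w) ^ k = y := by
  obtain ⟨k, hk1, hk2⟩ := Nat.chineseRemainder K.D.cop 1 0
  refine ⟨k, fun y w => ?_⟩
  rw [(show Commute (y : G) w from K.D.pv _ y.2 _ w.2).mul_pow,
    show (w : G) ^ k = 1 from orderOf_dvd_iff_pow_eq_one.1 (by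
      rw [Subgroup.orderOf_coe]
      exact (orderOf_dvd_natCard w).trans (Nat.modEq_zero_iff_dvd.1 hk2)), mul_one]
  conv_rhs => rw [← pow_one (y : G)]
  refine pow_eq_pow_iff_modEq.2 (hk1.of_dvd ?_)
  rw [Subgroup.orderOf_coe]
  exact orderOf_dvd_natCard y

/-- The centralizer of a member of a section. -/
theorem card_cent_section {y : P} (hy : y ≠ 1) (w : V) :
    Nat.card (Subgroup.centralizer ({(y : G) * w} : Set G)) =
      p * Nat.card (Subgroup.centralizer ({w} : Set V)) := by
  classical
  obtain ⟨k, hk⟩ := exists_section_pow K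
  have hy1 : (y : G) ≠ 1 := fun h => hy (Subtype.ext h)
  have hcomm : ∀ (q : P) (u : Subgroup.centralizer ({w} : Set V)),
      (q : G) * ((u : V) : G) ∈ Subgroup.centralizer ({(y : G) * w} : Set G) := by
    intro q u
    rw [Subgroup.mem_centralizer_singleton_iff]
    have hq : Commute (q : G) (y : G) := K.D.comm _ q.2 _ y.2
    have hqw : Commute (q : G) (w : G) := K.D.pv _ q.2 _ w.2
    have huy : Commute (((u : V)) : G) (y : G) := (K.D.pv _ y.2 _ (u : V).2).symm
    have huw : Commute (((u : V)) : G) (w : G) :=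
      congrArg Subtype.val (Subgroup.mem_centralizer_singleton_iff.1 u.2)
    exact (((hq.mul_right hqw).mul_left (huy.mul_right huw))).eq
  let Φ : P × Subgroup.centralizer ({w} : Set V) → Subgroup.centralizer ({(y : G) * w} : Set G) :=
    fun q => ⟨(q.1 : G) * ((q.2 : V) : G), hcomm q.1 q.2⟩
  have hinj : Function.Injective Φ := by
    intro a b hab
    obtain ⟨h1, h2⟩ := M23Order.coord_unique K a.1.2 b.1.2 (a.2 : V).2 (b.2 : V).2 (congrArg Subtype.val hab)
    exact Prod.ext (Subtype.ext h1) (Subtype.ext (Subtype.ext h2))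
  have hsurj : Function.Surjective Φ := by
    intro g
    have hg : Commute (g : G) ((y : G) * w) := Subgroup.mem_centralizer_singleton_iff.1 g.2
    have hgy : Commute (g : G) (y : G) := by
      have h := hg.pow_right k
      rwa [hk y w] at h
    have hgP : (g : G) ∈ Subgroup.centralizer (P : Set G) := by
      rw [centralizer_P K y.2 hy1]
      exact Subgroup.mem_centralizer_singleton_iff.2 hgy.eq
    obtain ⟨q, hq, u, hu, hgu⟩ := (K.hC _).1 hgP
    have hgw : Commute (g : G) (w : G) := by
      have h := (hgy.inv_right).mul_right hg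
      rwa [inv_mul_cancel_left] at h
    have huw : (⟨u, hu⟩ : V) ∈ Subgroup.centralizer ({w} : Set V) := by
      rw [Subgroup.mem_centralizer_singleton_iff]
      refine Subtype.ext (mul_left_cancel (a := q) ?_)
      show q * (u * (w : G)) = q * ((w : G) * u)
      calc q * (u * (w : G)) = (g : G) * w := by rw [← mul_assoc, hgu]
        _ = (w : G) * g := hgw.eq
        _ = (w : G) * q * u := by rw [← hgu, mul_assoc]
        _ = q * (w : G) * u := by rw [← K.D.pv q hq _ w.2]
        _ = _ := mul_assoc _ _ _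
    exact ⟨(⟨q, hq⟩, ⟨⟨u, hu⟩, huw⟩), Subtype.ext hgu⟩
  rw [← Nat.card_congr (Equiv.ofBijective Φ ⟨hinj, hsurj⟩), Nat.card_prod, K.hP]

/-- The number of solutions of `a' * b' = g` with `a'` conjugate to `a` and `b'` in the classes of a
section, each class once. -/
theorem section_count_phi {y : P} (hy : y ≠ 1) (a g : G) :
    ∃ n : ℕ, (n : ℂ) * ((Nat.card (Subgroup.centralizer ({a} : Set G)) : ℂ) * p) =
      (Nat.card G : ℂ) * ∑ χ : IrrCharacter G,
        (χ : G → ℂ) a * phi (χ : G → ℂ) (trivB V) y * conj ((χ : G → ℂ) g) / (χ : G → ℂ) 1 := by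
  classical
  choose m hm using fun w : V => M12Uniq.structure_count a ((y : G) * w) g
  set Ca := (Nat.card (Subgroup.centralizer ({a} : Set G)) : ℂ) with hCa
  have hCa0 : Ca ≠ 0 := Nat.cast_ne_zero.2 Nat.card_pos.ne'
  have hclass : ∀ w u : V, m (u * w * u⁻¹) = m w := by
    intro w u
    have hconj : IsConj ((y : G) * w) ((y : G) * (u * w * u⁻¹ : V)) := by
      refine isConj_iff.2 ⟨u, ?_⟩
      have huy : (u : G) * y = (y : G) * u := (K.D.pv _ y.2 _ u.2).symm
      push_cast
      calc (u : G) * ((y : G) * w) * (u : G)⁻¹ = (u : G) * y * w * (u : G)⁻¹ := by group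
        _ = _ := by rw [huy]; group
    have h1 := hm w
    have h2 := hm (u * w * u⁻¹)
    rw [← M22Uniq.cent_card_of_isConj hconj] at h2
    rw [Finset.sum_congr rfl fun (χ : IrrCharacter G) _ => by
      rw [← M11Local.class_eq (IsIrrCharacter.isCharacter χ.2) hconj], ← h1] at h2
    exact_mod_cast mul_right_cancel₀ (mul_ne_zero hCa0 (Nat.cast_ne_zero.2 Nat.card_pos.ne')) h2
  obtain ⟨n, hn⟩ := dvd_sum_classes m hclass
  refine ⟨n, ?_⟩
  have hv : (Nat.card V : ℂ) ≠ 0 := Nat.cast_ne_zero.2 Nat.card_pos.ne'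
  refine mul_left_cancel₀ hv ?_
  have hphi : ∀ χ : IrrCharacter G, (Nat.card V : ℂ) *
      ((χ : G → ℂ) a * phi (χ : G → ℂ) (trivB V) y * conj ((χ : G → ℂ) g) / (χ : G → ℂ) 1) =
      ∑ w : V, (χ : G → ℂ) a * (χ : G → ℂ) ((y : G) * w) * conj ((χ : G → ℂ) g) / (χ : G → ℂ) 1 := by
    intro χ
    simp only [phi, show ∀ w : V, (trivB V : V → ℂ) w = 1 from fun _ => rfl, map_one, mul_one,
      Finset.mul_sum, Finset.sum_mul, Finset.sum_div]
    refine Finset.sum_congr rfl fun w _ => ?_
    field_simp
  rw [mul_left_comm (Nat.card V : ℂ) (Nat.card G : ℂ), Finset.mul_sum,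
    Finset.sum_congr rfl fun χ _ => hphi χ, Finset.sum_comm, Finset.mul_sum]
  calc (Nat.card V : ℂ) * ((n : ℂ) * (Ca * p))
      = ((∑ w : V, m w * Nat.card (Subgroup.centralizer ({w} : Set V)) : ℕ) : ℂ) * (Ca * p) := by
        rw [hn]; push_cast; ring
    _ = ∑ w : V, (m w : ℂ) * (Ca * Nat.card (Subgroup.centralizer ({(y : G) * w} : Set G))) := by
        rw [Nat.cast_sum, Finset.sum_mul]
        refine Finset.sum_congr rfl fun w _ => ?_
        rw [card_cent_section K hy w]
        push_cast; ring
    _ = _ := Finset.sum_congr rfl fun w _ => hm w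

variable {M : Ideal AlgInt} [M.IsPrime] {k : ℕ} {S : Finset (IrrCharacter G)} {c : IrrCharacter G → ℤ}
  {t : IrrCharacter G} (hM : IsPModular p M) (R : Rows p e k P V M S c t)

include hM R

/-- The sum of a Galois invariant function against two components. -/
theorem sum_phi_two (h : IrrCharacter G → ℂ) (hinv : ∀ σ, FixesP p σ → ∀ χ, h (galT σ χ) = h χ) {y z : P}
    (hy : y ≠ 1) (hz : z ≠ 1) :
    ∑ χ : IrrCharacter G, h χ * (phi (χ : G → ℂ) (trivB V) y * conj (phi (χ : G → ℂ) (trivB V) z)) =
      h (principal G) + ∑ χ ∈ S.erase t, h χ +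
        h t * (∑ χ : IrrCharacter G, phi (χ : G → ℂ) (trivB V) y * conj (phi (χ : G → ℂ) (trivB V) z) -
          1 - (S.erase t).card) := by
  classical
  set F : IrrCharacter G → ℂ := fun χ =>
    phi (χ : G → ℂ) (trivB V) y * conj (phi (χ : G → ℂ) (trivB V) z) with hF
  have hp1 : F (principal G) = 1 := by
    have hb : principal G ∈ principalBlock M G := principal_mem_principalBlock
    simp only [hF]
    rw [phi_principal K hM hb hy, phi_principal K hM hb hz]
    simp [principal]
  have hS1 : ∀ χ ∈ S.erase t, F χ = 1 := by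
    intro χ hχ
    obtain ⟨hne, hχS⟩ := Finset.mem_erase.1 hχ
    simp only [hF]
    rw [R.phi_eq χ hχS (Or.inl hne) y hy, R.phi_eq χ hχS (Or.inl hne) z hz, map_intCast, ← Int.cast_mul]
    rcases R.sign χ hχS with s | s <;> rw [s] <;> norm_num
  set T : Finset (IrrCharacter G) := insert (principal G) (S.erase t) with hT
  have hnp : principal G ∉ S.erase t := fun h => R.ne_one (Finset.mem_of_mem_erase h)
  have hrest : ∀ χ ∉ T, h χ * F χ = h t * F χ := by
    intro χ hχ
    by_cases hb : χ ∈ principalBlock M G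
    · simp only [hT, Finset.mem_insert, Finset.mem_erase, not_or, not_and] at hχ
      rcases R.cases χ hb with h1 | h1 | ⟨σ, hσ, h1⟩
      · exact absurd h1 hχ.1
      · rw [Classical.byContradiction fun hne : ¬ χ = t => hχ.2 hne h1]
      · rw [← h1, hinv σ hσ]
    · simp only [hF]
      rw [phi_not_principal K hM hb hy, zero_mul, mul_zero, mul_zero]
  have e1 : ∀ g : IrrCharacter G → ℂ, ∑ χ : IrrCharacter G, g χ =
      g (principal G) + ∑ χ ∈ S.erase t, g χ + ∑ χ ∈ Tᶜ, g χ := fun g => by
    rw [← Finset.sum_add_sum_compl T, hT, Finset.sum_insert hnp]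
  rw [e1 fun χ => h χ * F χ, e1 F, hp1, Finset.sum_congr rfl fun χ hχ => by rw [hS1 χ hχ, mul_one],
    Finset.sum_congr (s₁ := S.erase t) (f := F) rfl hS1,
    Finset.sum_congr rfl fun χ hχ => hrest χ (Finset.mem_compl.1 hχ), ← Finset.mul_sum, mul_one,
    Finset.sum_const, nsmul_one]
  ring

omit R in
/-- The norm of the components at one element. -/
theorem gram_self {y : P} (hy : y ≠ 1) :
    ∑ χ : IrrCharacter G, phi (χ : G → ℂ) (trivB V) y * conj (phi (χ : G → ℂ) (trivB V) y) = (p : ℂ) := by
  classical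
  rw [phi_gram K (trivB V) hy, stabB_triv K]
  have hv : (Nat.card V : ℂ) ≠ 0 := Nat.cast_ne_zero.2 Nat.card_pos.ne'
  have hy1 : (y : G) ≠ 1 := fun h => hy (Subtype.ext h)
  have hcard : (Finset.univ.filter fun x : N => (x : G) ∈ N ∧ (x : G) * y * (x : G)⁻¹ = y).card =
      p * Nat.card V := by
    rw [← Fintype.card_subtype, ← Nat.card_eq_fintype_card, ← card_centralizer K, centralizer_P K y.2 hy1]
    refine Nat.card_congr
      { toFun := fun x => ⟨x.1, Subgroup.mem_centralizer_singleton_iff.2 (mul_inv_eq_iff_eq_mul.1 x.2.2)⟩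
        invFun := fun g =>
          have hg : (g : G) ∈ N := by
            rw [K.hN]
            refine Subgroup.centralizer_le_normalizer _ ?_
            rw [centralizer_P K y.2 hy1]
            exact g.2
          ⟨⟨g, hg⟩, hg, mul_inv_eq_iff_eq_mul.2 (Subgroup.mem_centralizer_singleton_iff.1 g.2)⟩
        left_inv := fun x => rfl
        right_inv := fun g => rfl }
  rw [hcard]
  push_cast
  field_simp

omit R hM in
/-- For an action of odd order no element inverts a generator. -/
theorem no_inverter (hp : 2 < p) (he : Odd e) {y : P} (hy : y ≠ 1) (g : G) : g * y * g⁻¹ ≠ (y : G)⁻¹ := by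
  classical
  intro hgy
  have hgN : g ∈ N := K.D.hTI _ y.2 (fun h => hy (Subtype.ext h)) g (hgy ▸ P.inv_mem y.2)
  haveI : ((Subgroup.centralizer (P : Set G)).subgroupOf N).Normal := ⟨fun a ha b => by
    rw [Subgroup.mem_subgroupOf, Subgroup.mem_centralizer_iff] at ha ⊢
    intro q hq
    have hb : (b : G)⁻¹ * q * b ∈ P := by
      have := K.D.hNP _ (inv_mem b.2) q hq
      simpa using this
    have := ha _ hb
    simp only [Subgroup.coe_mul, Subgroup.coe_inv]
    calc q * ((b : G) * a * (b : G)⁻¹) = b * ((b : G)⁻¹ * q * b * a) * (b : G)⁻¹ := by group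
      _ = b * (a * ((b : G)⁻¹ * q * b)) * (b : G)⁻¹ := by rw [this]
      _ = b * a * (b : G)⁻¹ * q := by group⟩
  have hge : g ^ e * y * (g ^ e)⁻¹ = (y : G) := by
    have := Subgroup.pow_index_mem ((Subgroup.centralizer (P : Set G)).subgroupOf N) (⟨g, hgN⟩ : N)
    rw [K.D.he, Subgroup.mem_subgroupOf] at this
    exact mul_inv_eq_iff_eq_mul.2 (Subgroup.mem_centralizer_iff.1 (by simpa using this) _ y.2).symm
  have key : ∀ j : ℕ, g ^ j * (y : G) * (g ^ j)⁻¹ = if Even j then (y : G) else (y : G)⁻¹ := by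
    intro j
    induction j with
    | zero => simp
    | succ j ih =>
      rw [pow_succ', show g * g ^ j * (y : G) * (g * g ^ j)⁻¹ = g * (g ^ j * (y : G) * (g ^ j)⁻¹) * g⁻¹
        by group, ih]
      by_cases hj : Even j
      · rw [if_pos hj, if_neg (by simp [Nat.even_add_one, hj]), hgy]
      · rw [if_neg hj, if_pos (by simp [Nat.even_add_one, hj]), ← conj_inv, hgy, inv_inv]
  rw [key, if_neg (Nat.not_even_iff_odd.2 he)] at hge
  have hy1 : (y : G) ≠ 1 := fun h => hy (Subtype.ext h)
  have h2 : (y : G) ^ 2 = 1 := by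
    rw [pow_two]; nth_rewrite 1 [← hge]; exact inv_mul_cancel _
  have h3 := orderOf_dvd_of_pow_eq_one h2
  rw [DefOne.orderOf_P K y.2 hy1] at h3
  have := Nat.le_of_dvd (by norm_num) h3
  omega

omit R in
/-- For an action of odd order the components at an element and its inverse are orthogonal. -/
theorem gram_inv (hp : 2 < p) (he : Odd e) {y : P} (hy : y ≠ 1) :
    ∑ χ : IrrCharacter G, phi (χ : G → ℂ) (trivB V) y * conj (phi (χ : G → ℂ) (trivB V) y⁻¹) = 0 := by
  classical
  rw [phi_gram K (trivB V) hy, Finset.filter_eq_empty_iff.2 (fun x _ hx => ?_)]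
  · simp
  · have h := hx.2
    simp only [InvMemClass.coe_inv] at h
    refine no_inverter K hp he hy (x : G)⁻¹ ?_
    calc (x : G)⁻¹ * (y : G) * ((x : G)⁻¹)⁻¹ =
        (x : G)⁻¹ * ((x : G) * (y : G)⁻¹ * (x : G)⁻¹) * ((x : G)⁻¹)⁻¹ := by rw [h]
      _ = (y : G)⁻¹ := by group

omit R hM in
/-- The component at the inverse is the conjugate. -/
theorem phi_inv (χ : IrrCharacter G) (y : P) :
    conj (phi (χ : G → ℂ) (trivB V) y⁻¹) = phi (χ : G → ℂ) (trivB V) y := by
  simp only [phi, show ∀ w : V, (trivB V : V → ℂ) w = 1 from fun _ => rfl, map_one, mul_one, map_mul,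
    map_inv₀, map_natCast, map_sum]
  congr 1
  refine Fintype.sum_equiv (Equiv.inv V) _ _ fun w => ?_
  rw [← IsCharacter.inv (IsIrrCharacter.isCharacter χ.2)]
  congr 1
  have h : (y : G) * (w : G)⁻¹ = (w : G)⁻¹ * y := K.D.pv _ y.2 _ (inv_mem w.2)
  simp only [InvMemClass.coe_inv, Equiv.inv_apply, mul_inv_rev, inv_inv]
  exact congrArg (χ : G → ℂ) h.symm

end Cfsg.Agent.M24Order
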