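import Cfsg.Agent.Lib.M24Order.ElevenBad
import Cfsg.Agent.Lib.M24Order.ElevenTwelve
import Cfsg.Agent.Lib.M24Order.SectionCount
import Cfsg.Agent.Lib.M24Order.ElevenFiveSound

/-!
Facts on the rows at eleven in a group of order 244823040.
-/

set_option linter.unusedSectionVars false
set_option linter.style.haveILetI false

namespace Cfsg.Agent.M24Order

open Cfsg Cfsg.Agent.Char Cfsg.Agent.Blocks Cfsg.Agent.CCSylow Cfsg.Agent.DefOne
open Cfsg.Agent.M23Order (Rows)

open scoped ComplexConjugate

universe u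

theorem fact2 : (244823040 : ℕ).factorization 2 = 10 := by
  rw [show (244823040 : ℕ) = 2 ^ 10 * 239085 from rfl, Nat.factorization_mul (by norm_num) (by norm_num),
    Finsupp.add_apply, Nat.Prime.factorization_pow Nat.prime_two, Finsupp.single_eq_same,
    Nat.factorization_eq_zero_of_not_dvd (by norm_num)]

theorem fact3 : (244823040 : ℕ).factorization 3 = 3 := by
  rw [show (244823040 : ℕ) = 3 ^ 3 * 9067520 from rfl, Nat.factorization_mul (by norm_num) (by norm_num),
    Finsupp.add_apply, Nat.Prime.factorization_pow Nat.prime_three, Finsupp.single_eq_same,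
    Nat.factorization_eq_zero_of_not_dvd (by norm_num)]

theorem fact7 : (244823040 : ℕ).factorization 7 = 1 := by
  rw [show (244823040 : ℕ) = 7 ^ 1 * 34974720 from rfl, Nat.factorization_mul (by norm_num) (by norm_num),
    Finsupp.add_apply, Nat.Prime.factorization_pow (by norm_num : Nat.Prime 7), Finsupp.single_eq_same,
    Nat.factorization_eq_zero_of_not_dvd (by norm_num)]

variable {G : Type u} [Group G] [Fintype G] [IsSimpleGroup G] (hG : Nat.card G = 244823040)

include hG

/-- The degree of a nontrivial character is a listed divisor. -/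
theorem base_mem {χ : IrrCharacter G} (hne : χ ≠ principal G) :
    charDegree (χ : G → ℂ) ∈ ordDivs.filter baseDeg := by
  classical
  obtain ⟨P, -, hsums⟩ := sums23 hG
  haveI : Fintype P := Fintype.ofFinite _
  obtain ⟨A, -, hres, -⟩ := hsums χ
  refine List.mem_filter.2 ⟨mem_ordDivs (deg_facts hG χ).2, ?_⟩
  have h1 : charDegree (χ : G → ℂ) ≠ 1 := fun e => hne (eq_principal hG e)
  have h0 := charDegree_pos χ
  have h2 := (deg_facts hG χ).1
  simp only [List.mem_cons, List.not_mem_nil, or_false] at hres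
  simp only [baseDeg, Bool.and_eq_true, Bool.or_eq_true, Nat.ble_eq, Nat.beq_eq, or_assoc]
  exact ⟨⟨by omega, h2⟩, hres⟩

/-- The centralizer of an element whose order is prime to twenty-three and which is nontrivial is not
divisible by twenty-three. -/
theorem not_dvd_cent {i : G} (hi : i ≠ 1) (hio : ¬ 23 ∣ orderOf i) :
    ¬ 23 ∣ Nat.card (Subgroup.centralizer ({i} : Set G)) := by
  classical
  intro hd
  haveI : Fact (Nat.Prime 23) := ⟨by norm_num⟩
  obtain ⟨x, hx⟩ := exists_prime_orderOf_dvd_card' 23 hd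
  have hxo : orderOf (x : G) = 23 := by rw [Subgroup.orderOf_coe, hx]
  have hmem : i ∈ Subgroup.centralizer ({(x : G)} : Set G) :=
    Subgroup.mem_centralizer_singleton_iff.2 (Subgroup.mem_centralizer_singleton_iff.1 x.2).symm
  have h := Subgroup.orderOf_dvd_natCard _ hmem
  rw [c23 hG hxo] at h
  rcases (Nat.dvd_prime (by norm_num)).1 h with e | e
  · exact hi (orderOf_eq_one_iff.1 e)
  · exact hio (by rw [e])

variable {P V N : Subgroup G} {e : ℕ} (K : Conf 11 P V N e)
  [Fintype P] [Fintype V] [Fintype N] [Fintype (P →* ℂˣ)] {M : Ideal AlgInt} [M.IsPrime]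
  (hM : IsPModular 11 M) {k : ℕ} {S : Finset (IrrCharacter G)} {c : IrrCharacter G → ℤ}
  {t : IrrCharacter G} (R : Rows 11 e k P V M S c t)

include K hM R

/-- An ordinary row: its degree and its coefficient. -/
theorem ordinary_row {χ : IrrCharacter G} (hχ : χ ∈ S) (hne : χ ≠ t) :
    charDegree (χ : G → ℂ) ∈ ordinaryDegs ∧ c χ = sgE (charDegree (χ : G → ℂ)) := by
  obtain ⟨h1, h2⟩ := coef_ord K R (by norm_num) hχ hne
  refine ⟨?_, by rw [h1]; rfl⟩
  have h := List.all_eq_true.1 ordinary_check _ (base_mem hG (fun e : χ = principal G => R.ne_one (e ▸ hχ)))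
  simp only [Bool.or_eq_true, Bool.not_eq_true', ← Bool.not_eq_true, Nat.beq_eq, List.elem_iff] at h
  exact h.resolve_left fun h' => h' h2

/-- A full part of a prime in a degree avoids the complement. -/
theorem no_full {q : ℕ} (hq : q.Prime) {χ : IrrCharacter G} (hχ : χ ∈ S) (hqV : q ∣ Nat.card V) :
    ¬ q ^ (244823040 : ℕ).factorization q ∣ charDegree (χ : G → ℂ) := fun h => by
  refine M23Order.not_dvd_V K hM (R.block χ hχ) hq ?_ hqV
  rw [hG]
  exact le_antisymm ((Nat.factorization_le_iff_dvd (charDegree_pos χ).ne' (by norm_num)).2 (deg_facts hG χ).2 q)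
    ((hq.pow_dvd_iff_le_factorization (charDegree_pos χ).ne').1 h)

/-- A row fits the order of the complement. -/
theorem ok_row {χ : IrrCharacter G} (hχ : χ ∈ S) : okDeg (Nat.card V) (charDegree (χ : G → ℂ)) = true := by
  simp only [okDeg, Bool.and_eq_true, Bool.or_eq_true, Bool.not_eq_true', ← Bool.not_eq_true, Nat.beq_eq,
    Nat.blt_eq]
  refine ⟨⟨?_, ?_⟩, ?_⟩
  · rcases em (Nat.card V % 2 = 0) with h | h
    · right
      haveI : Fact (Nat.Prime 2) := ⟨Nat.prime_two⟩
      obtain ⟨u, hu⟩ := exists_prime_orderOf_dvd_card' 2 (Nat.dvd_of_mod_eq_zero h)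
      obtain ⟨a, -, ha, hlt⟩ := value_at hG K hM R hχ u.2 (i := (u : G))
        (by rw [Subgroup.orderOf_coe, hu]) (by norm_num)
      refine ⟨?_, fun h' => ?_⟩
      · rw [abs_lt] at hlt
        obtain ⟨z, hz⟩ := ha
        push_cast at hz
        omega
      · refine no_full hG K hM R Nat.prime_two hχ (Nat.dvd_of_mod_eq_zero h) ?_
        rw [fact2]
        exact Nat.dvd_of_mod_eq_zero h'
    · exact Or.inl h
  · rcases em (Nat.card V % 3 = 0) with h | h
    · refine Or.inr fun h' => no_full hG K hM R Nat.prime_three hχ (Nat.dvd_of_mod_eq_zero h) ?_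
      rw [fact3]
      exact Nat.dvd_of_mod_eq_zero h'
    · exact Or.inl h
  · rcases em (Nat.card V % 7 = 0) with h | h
    · refine Or.inr fun h' => no_full hG K hM R (q := 7) (by norm_num) hχ (Nat.dvd_of_mod_eq_zero h) ?_
      rw [fact7, pow_one]
      exact Nat.dvd_of_mod_eq_zero h'
    · exact Or.inl h

/-- An only row of its degree bounds the primes of the complement. -/
theorem deg_bound {χ : IrrCharacter G} (hχ : χ ∈ S)
    (hu : ∀ ψ ∈ S, charDegree (ψ : G → ℂ) = charDegree (χ : G → ℂ) → ψ = χ)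
    (hk : charDegree (t : G → ℂ) ≠ charDegree (χ : G → ℂ) ∨ k = 1) (h7 : 7 ∣ Nat.card V) :
    66 ≤ charDegree (χ : G → ℂ) := by
  have hnp : charDegree (χ : G → ℂ) ≠ 1 := fun h => R.ne_one (eq_principal hG h ▸ hχ)
  have hd1 : charDegree (principal G : G → ℂ) = 1 := Cfsg.Agent.CharX.charDegree_one
  refine M23Order.small_deg_prime K hM (R.block χ hχ) (fun ψ hψ hd => ?_)
    (fun g hg => norm_ne hG (fun e : χ = principal G => R.ne_one (e ▸ hχ)) hg) (q := 7) (by norm_num) h7
  rcases hk with hk | hk
  · rcases R.cases ψ hψ with h1 | h1 | ⟨σ, -, h1⟩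
    · rw [h1, hd1] at hd; exact absurd hd.symm hnp
    · exact hu ψ h1 hd
    · have h2 := DefOne.galT_one σ t
      rw [h1, irr_one_eq_charDegree, irr_one_eq_charDegree] at h2
      have h3 : charDegree (ψ : G → ℂ) = charDegree (t : G → ℂ) := by exact_mod_cast h2
      exact absurd (h3.symm.trans hd) hk
  · rcases R.single hk ψ hψ with h1 | h1
    · rw [h1, hd1] at hd; exact absurd hd.symm hnp
    · exact hu ψ h1 hd

/-- The relation of the degrees. -/
theorem deg_relation : 1 + ∑ χ ∈ S, c χ * (charDegree (χ : G → ℂ) : ℤ) = 0 := by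
  have h := R.relation 1 (by simp)
  simp only [irr_one_eq_charDegree] at h
  exact_mod_cast h

end Cfsg.Agent.M24Order
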