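import Cfsg.Agent.Lib.M24Order.Setup

/-!
An involution of the complement centralized by a Sylow two-subgroup of it and by an element of order five
of the normalizer.
-/

set_option linter.unusedSectionVars false
set_option linter.style.haveILetI false

namespace Cfsg.Agent.M24Order

open Cfsg Cfsg.Agent.Char Cfsg.Agent.CCSylow Cfsg.Agent.DefOne

universe u

variable {G : Type u} [Group G] [Fintype G]

/-- An element of prime order normalizing a nontrivial two-group centralizes an involution of it, unless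
the prime divides the number of the nontrivial elements. -/
theorem exists_fixed_two {p j : ℕ} [Fact p.Prime] {T : Subgroup G} {h : G} (hh : orderOf h = p)
    (hN : ∀ a ∈ Subgroup.zpowers h, ∀ g ∈ T, a * g * a⁻¹ ∈ T) (hT : Nat.card T = 2 ^ j)
    (hp : ¬ p ∣ 2 ^ j - 1) : ∃ i ∈ T, orderOf i = 2 ∧ h * i = i * h := by
  classical
  have hq : ∀ a g, a ∈ Subgroup.zpowers h → (g ∈ T ∧ g ≠ 1) → (a * g * a⁻¹ ∈ T ∧ a * g * a⁻¹ ≠ 1) :=
    fun a g ha hg => ⟨hN a ha g hg.1, fun e => hg.2 (by rwa [conj_eq_one_iff] at e)⟩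
  have hmod := M23Uniq.fixed_modEq hh (fun g => g ∈ T ∧ g ≠ 1) hq
  have hcard : Nat.card {g : G // g ∈ T ∧ g ≠ 1} = 2 ^ j - 1 := by
    rw [← hT, Nat.card_eq_fintype_card, Nat.card_eq_fintype_card,
      Fintype.card_congr (Equiv.subtypeSubtypeEquivSubtypeInter (fun g => g ∈ T) (fun g => g ≠ 1)).symm,
      Fintype.card_congr (Equiv.subtypeEquivRight (q := fun g : T => ¬ g = 1) fun g => by simp),
      Fintype.card_subtype_compl, Fintype.card_subtype_eq]
  rw [hcard] at hmod
  by_cases h0 : Nat.card {g : G // (g ∈ T ∧ g ≠ 1) ∧ h * g = g * h} = 0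
  · rw [h0] at hmod
    exact absurd (Nat.modEq_zero_iff_dvd.1 hmod) hp
  · obtain ⟨⟨g, ⟨hgT, hg1⟩, hc⟩⟩ := (Nat.card_ne_zero.1 h0).1
    obtain ⟨l, -, hl⟩ := (Nat.dvd_prime_pow Nat.prime_two).1 (hT ▸ Subgroup.orderOf_dvd_natCard T hgT)
    have hl1 : 1 ≤ l := Nat.one_le_iff_ne_zero.2 fun e => hg1 (orderOf_eq_one_iff.1 (by rw [hl, e, pow_zero]))
    refine ⟨g ^ 2 ^ (l - 1), pow_mem hgT _, ?_, (Commute.pow_right (hc : Commute h g) _).eq⟩
    rw [orderOf_pow_of_dvd (by positivity) (by rw [hl]; exact pow_dvd_pow 2 (by omega)), hl,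
      Nat.pow_div (by omega) (by norm_num), show l - (l - 1) = 1 by omega, pow_one]

/-- The involution: its centralizer in the normalizer contains the group of order eleven, an element of
order five and a Sylow two-subgroup of the complement. -/
theorem exists_pick {P V N : Subgroup G} {e : ℕ} (K : Conf 11 P V N e) (he : 5 ∣ e) (h5 : ¬ 5 ∣ Nat.card V)
    (ha4 : (Nat.card V).factorization 2 ∈ ([1, 2, 3, 5] : List ℕ)) :
    ∃ i ∈ V, orderOf i = 2 ∧
      55 * 2 ^ (Nat.card V).factorization 2 ∣ Nat.card (N ⊓ Subgroup.centralizer ({i} : Set G) : Subgroup G) := by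
  classical
  haveI : Fact (Nat.Prime 2) := ⟨Nat.prime_two⟩
  haveI : Fact (Nat.Prime 5) := ⟨by norm_num⟩
  set a := (Nat.card V).factorization 2 with ha
  have hVN : V ≤ N := fun v hv => by
    rw [K.hN]
    exact Subgroup.centralizer_le_normalizer _ (Subgroup.mem_centralizer_iff.2 fun y hy => K.D.pv y hy v hv)
  set W := V.subgroupOf N with hW
  haveI : W.Normal := ⟨fun v hv g => by
    rw [hW, Subgroup.mem_subgroupOf] at hv ⊢
    simpa using K.D.hNV g g.2 v hv⟩
  obtain ⟨T0⟩ : Nonempty (Sylow 2 W) := inferInstance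
  set TN : Subgroup N := (T0 : Subgroup W).map W.subtype with hTN
  set A := Subgroup.normalizer (TN : Set N) with hA
  have hsup : A ⊔ W = ⊤ := Sylow.normalizer_sup_eq_top T0
  have hWc : Nat.card W = Nat.card V := Nat.card_congr (Subgroup.subgroupOfEquivOfLe hVN).toEquiv
  have hidx : A.index ∣ Nat.card V := by
    have e1 : W.relIndex A = W.index := by
      rw [← Subgroup.relIndex_sup_right, hsup, Subgroup.relIndex_top_right]
    have e2 := (W.subgroupOf A).index_mul_card
    rw [show (W.subgroupOf A).index = W.relIndex A from rfl, e1] at e2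
    have e3 := W.index_mul_card
    have e4 := A.index_mul_card
    rw [← hWc]
    refine ⟨Nat.card (W.subgroupOf A), Nat.eq_of_mul_eq_mul_left
      (Nat.pos_of_ne_zero (Subgroup.index_ne_zero_of_finite (H := W))) ?_⟩
    rw [e3, ← mul_left_comm, e2, e4]
  have hA5 : 5 ∣ Nat.card A := by
    have h := A.index_mul_card
    rw [K.D.hcard, K.hP] at h
    have h5e : 5 ∣ A.index * Nat.card A := h ▸ Dvd.dvd.mul_right he _
    exact ((Nat.Prime.dvd_mul (by norm_num)).1 h5e).resolve_left fun hd => h5 (hd.trans hidx)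
  obtain ⟨h', hh'⟩ := exists_prime_orderOf_dvd_card' 5 hA5
  set h : G := ((h' : N) : G) with hh_def
  have hh : orderOf h = 5 := by rw [hh_def, Subgroup.orderOf_coe, Subgroup.orderOf_coe, hh']
  -- the Sylow subgroup and its center inside `G`
  set T : Subgroup G := TN.map N.subtype with hT
  have hTc : Nat.card T = 2 ^ a := by
    rw [hT, Subgroup.card_map_of_injective N.subtype_injective, hTN,
      Subgroup.card_map_of_injective W.subtype_injective]
    exact (T0.card_eq_multiplicity).trans (by rw [hWc, ha])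
  have hTV : T ≤ V := by
    rintro g ⟨n, hn, rfl⟩
    obtain ⟨w, -, rfl⟩ := hn
    exact Subgroup.mem_subgroupOf.1 w.2
  have hmove : ∀ b ∈ Subgroup.zpowers h, ∀ g ∈ T, b * g * b⁻¹ ∈ T := by
    intro b hb g hg
    obtain ⟨l, rfl⟩ := Subgroup.mem_zpowers_iff.1 hb
    obtain ⟨n, hn, rfl⟩ := hg
    refine ⟨((h' ^ l : A) : N) * n * ((h' ^ l : A) : N)⁻¹,
      (Subgroup.mem_normalizer_iff.1 (h' ^ l : A).2 n).1 hn, ?_⟩
    simp [hh_def]
  set Z : Subgroup G :=
    { carrier := {g | g ∈ T ∧ ∀ x ∈ T, x * g = g * x}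
      one_mem' := ⟨one_mem T, fun x _ => by simp⟩
      mul_mem' := fun {b c} hb hc => ⟨mul_mem hb.1 hc.1, fun x hx => by
        rw [← mul_assoc, hb.2 x hx, mul_assoc, hc.2 x hx, ← mul_assoc]⟩
      inv_mem' := fun {b} hb => ⟨inv_mem hb.1, fun x hx => ((show Commute x b from hb.2 x hx).inv_right).eq⟩ }
    with hZ
  have hZT : Z ≤ T := fun g hg => hg.1
  have hZmove : ∀ b ∈ Subgroup.zpowers h, ∀ g ∈ Z, b * g * b⁻¹ ∈ Z := by
    intro b hb g hg
    refine ⟨hmove b hb g hg.1, fun x hx => ?_⟩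
    have h1 := hg.2 _ (hmove b⁻¹ (inv_mem hb) x hx)
    rw [inv_inv] at h1
    calc x * (b * g * b⁻¹) = b * (b⁻¹ * x * b * g) * b⁻¹ := by group
      _ = b * (g * (b⁻¹ * x * b)) * b⁻¹ := by rw [h1]
      _ = _ := by group
  simp only [List.mem_cons, List.not_mem_nil, or_false] at ha4
  have ha1 : 1 ≤ a := by omega
  haveI : Nontrivial T := Finite.one_lt_card_iff_nontrivial.1 (by rw [hTc]; exact Nat.one_lt_two_pow (by omega))
  have hTp : IsPGroup 2 T := IsPGroup.of_card hTc
  have hZ1 : 1 < Nat.card Z := by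
    haveI := hTp.center_nontrivial
    rw [Finite.one_lt_card_iff_nontrivial]
    obtain ⟨z, hz⟩ := exists_ne (1 : Subgroup.center T)
    exact ⟨⟨1, one_mem Z⟩, ⟨((z : T) : G), (z : T).2,
      fun x hx => congrArg Subtype.val (Subgroup.mem_center_iff.1 z.2 ⟨x, hx⟩)⟩,
      fun e => hz (Subtype.ext (Subtype.ext (congrArg Subtype.val e).symm))⟩
  obtain ⟨j, hja, hj⟩ := (Nat.dvd_prime_pow Nat.prime_two).1 (hTc ▸ Subgroup.card_dvd_of_le hZT)
  have hj1 : 1 ≤ j := Nat.one_le_iff_ne_zero.2 fun e => by rw [hj, e] at hZ1; norm_num at hZ1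
  have hj4 : j ≠ 4 := by
    intro hj'
    obtain ⟨x, hxT, hxZ⟩ : ∃ x ∈ T, x ∉ Z := by
      by_contra hall
      push Not at hall
      have h1 := hj
      rw [← le_antisymm hall hZT, hTc, hj'] at h1
      have := Nat.pow_right_injective (le_refl 2) h1
      omega
    refine hxZ ⟨hxT, fun y hy => ?_⟩
    set Cx : Subgroup G := T ⊓ Subgroup.centralizer ({x} : Set G) with hCx
    have hle : Z ≤ Cx := fun g hg => ⟨hg.1, Subgroup.mem_centralizer_singleton_iff.2 (hg.2 x hxT).symm⟩
    have hxCx : x ∈ Cx := ⟨hxT, Subgroup.mem_centralizer_singleton_iff.2 rfl⟩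
    obtain ⟨l, hla, hl⟩ := (Nat.dvd_prime_pow Nat.prime_two).1
      (hTc ▸ Subgroup.card_dvd_of_le (inf_le_left : Cx ≤ T))
    have h16 : Nat.card Z < Nat.card Cx := by
      refine lt_of_le_of_ne (Subgroup.card_le_of_le hle) fun e => hxZ ?_
      rw [Subgroup.eq_of_le_of_card_ge hle e.ge]
      exact hxCx
    rw [hj, hl] at h16
    have h4l := (Nat.pow_lt_pow_iff_right (by norm_num : 1 < 2)).1 h16
    have hCT : Cx = T := Subgroup.eq_of_le_of_card_ge inf_le_left
      (by rw [hl, hTc]; exact Nat.pow_le_pow_right (by norm_num) (by omega))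
    have hyC : y ∈ Cx := by rw [hCT]; exact hy
    exact Subgroup.mem_centralizer_singleton_iff.1 hyC.2
  obtain ⟨i, hi, hio, hhi⟩ := exists_fixed_two (p := 5) hh hZmove hj
    (by have : j ≤ 5 := by omega
        interval_cases j <;> first | omega | norm_num)
  refine ⟨i, hTV hi.1, hio, ?_⟩
  set H : Subgroup G := N ⊓ Subgroup.centralizer ({i} : Set G) with hH
  have hPN : P ≤ N := by rw [K.hN]; exact Subgroup.le_normalizer
  have hPH : P ≤ H := fun y hy =>
    ⟨hPN hy, Subgroup.mem_centralizer_singleton_iff.2 (K.D.pv y hy i (hTV hi.1))⟩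
  have hTH : T ≤ H := fun g hg =>
    ⟨hVN (hTV hg), Subgroup.mem_centralizer_singleton_iff.2 (hi.2 g hg)⟩
  have h11 : 11 ∣ Nat.card H := K.hP ▸ Subgroup.card_dvd_of_le hPH
  have h2a : 2 ^ a ∣ Nat.card H := hTc ▸ Subgroup.card_dvd_of_le hTH
  have h5H : 5 ∣ Nat.card H := hh ▸ Subgroup.orderOf_dvd_natCard H
    ⟨(h' : N).2, Subgroup.mem_centralizer_singleton_iff.2 hhi⟩
  have h55 : 55 ∣ Nat.card H :=
    (show Nat.Coprime 11 5 by norm_num).mul_dvd_of_dvd_of_dvd h11 h5H
  exact (Nat.Coprime.pow_right a (show Nat.Coprime 55 2 by norm_num)).mul_dvd_of_dvd_of_dvd h55 h2a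

end Cfsg.Agent.M24Order
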