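import Cfsg.Agent.Lib.M24Order.ElevenSeven
import Cfsg.Agent.Lib.M24Order.ElevenPick
import Cfsg.Agent.Lib.M24Order.ElevenData24
import Cfsg.Agent.Lib.M24Order.ElevenData2

/-!
A group of order 244823040 has no action of order five at eleven.
-/

set_option linter.unusedSectionVars false
set_option linter.style.haveILetI false

namespace Cfsg.Agent.M24Order

open Cfsg Cfsg.Agent.Char Cfsg.Agent.Blocks Cfsg.Agent.CCSylow Cfsg.Agent.DefOne
open Cfsg.Agent.M23Order (Rows exists_rows)

open scoped ComplexConjugate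

universe u

set_option maxRecDepth 20000 in
theorem vals_five : ordDivs.all (fun v => !(Nat.beq (4451328 % v) 0 && Nat.beq (v % 11) 2 &&
    !(Nat.beq (v % 23) 0)) || [2, 24, 112, 189, 288, 1344, 3456, 16128, 193536].elem v) = true := by
  decide +kernel

/-- With a complement of even order no degree is congruent to twelve modulo twenty-three. -/
theorem not_twelve : ∀ f ∈ ordinaryDegs ++ exceptionalDegs, okDeg 2 f = true → f % 23 ≠ 12 := by decide +kernel

/-- The divisibilities making the searches integral. -/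
theorem exact_div : ∀ f ∈ ordinaryDegs ++ exceptionalDegs, 22256640 % f = 0 ∧ 0 < f ∧
    (f % 23 = 0 ∨ 967680 % f = 0) := by decide +kernel

variable {G : Type u} [Group G] [Fintype G] [IsSimpleGroup G] (hG : Nat.card G = 244823040)

include hG

/-- The possible orders of the complement. -/
theorem card_five {P : Sylow 11 G} {V : Subgroup G}
    (K : Conf 11 (P : Subgroup G) V (Subgroup.normalizer ((P : Subgroup G) : Set G)) 5) :
    Nat.card V ∈ ([2, 24, 112, 189, 288, 1344, 3456, 16128, 193536] : List ℕ) := by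
  haveI : Fact (Nat.Prime 11) := ⟨by norm_num⟩
  set N := Subgroup.normalizer ((P : Subgroup G) : Set G)
  have hn : N.index * (5 * (11 * Nat.card V)) = 244823040 := by
    have h := N.index_mul_card
    rwa [K.D.hcard, K.hP, hG] at h
  have hn11 : N.index % 11 = 1 := by
    have h := card_sylow_modEq_one 11 G
    rw [P.card_eq_index_normalizer] at h
    exact h
  have hv : N.index * Nat.card V = 4451328 := by linarith
  have h23 : ¬ 23 ∣ Nat.card V := M23Order.not_dvd_other K (by norm_num) fun x hx => c23 hG hx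
  have hv11 : Nat.card V % 11 = 2 := by
    have h1 : (N.index * Nat.card V) % 11 = 2 := by rw [hv]
    rw [Nat.mul_mod, hn11, one_mul, Nat.mod_mod] at h1
    exact h1
  have h := List.all_eq_true.1 vals_five (Nat.card V) (mem_ordDivs (hG ▸ Subgroup.card_subgroup_dvd_card V))
  simp only [Bool.or_eq_true, Bool.not_eq_true', ← Bool.not_eq_true, Bool.and_eq_true, Nat.beq_eq,
    List.elem_iff] at h
  exact h.resolve_left fun h' => h' ⟨⟨by rw [← hv]; exact Nat.mul_mod_left _ _, hv11⟩,
    fun e => h23 (Nat.dvd_of_mod_eq_zero e)⟩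

variable {P V N : Subgroup G} (K : Conf 11 P V N 5)
  [Fintype P] [Fintype V] [Fintype N] [Fintype (P →* ℂˣ)] {M : Ideal AlgInt} [M.IsPrime]
  (hM : IsPModular 11 M) {S : Finset (IrrCharacter G)} {c : IrrCharacter G → ℤ}
  {t : IrrCharacter G} (R : Rows 11 5 2 P V M S c t)

include K hM R

/-- The exceptional row: its degree and its coefficient. -/
theorem exceptional_row : charDegree (t : G → ℂ) ∈ exceptionalDegs ∧ c t = exE (charDegree (t : G → ℂ)) := by
  obtain ⟨h1, h2⟩ := coef_exc K R (by norm_num)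
  refine ⟨?_, by rw [h1]; rfl⟩
  have h := List.all_eq_true.1 exceptional_check _
    (base_mem hG (fun e : t = principal G => R.ne_one (e ▸ R.mem_t)))
  simp only [Bool.or_eq_true, Bool.not_eq_true', ← Bool.not_eq_true, Nat.beq_eq, List.elem_iff] at h
  exact h.resolve_left fun h' => h' (by omega)

/-- The sums over the rows at an element of order twenty-three, for a complement of even order. -/
theorem sums_at_23 (h2 : 2 ∣ Nat.card V) :
    2 + ∑ χ ∈ S.erase t, c χ * z2 (charDegree (χ : G → ℂ)) + c t * z2 (charDegree (t : G → ℂ)) = 0 ∧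
      ∃ m : ℕ, (2 * (m : ℤ)) * Nat.card V = 23 * (2 * 967680 +
        ∑ χ ∈ S.erase t, z2 (charDegree (χ : G → ℂ)) * ((967680 / charDegree (χ : G → ℂ) : ℕ) : ℤ) -
        5 * (z2 (charDegree (t : G → ℂ)) * ((967680 / charDegree (t : G → ℂ) : ℕ) : ℤ))) := by
  classical
  obtain ⟨Q, hQc, hsums⟩ := sums23 hG
  haveI : Fintype Q := Fintype.ofFinite _
  choose A hA hres h0 h1 h22 h11 using hsums
  have hlist : ∀ χ ∈ S, charDegree (χ : G → ℂ) ∈ ordinaryDegs ++ exceptionalDegs := fun χ h => by
    by_cases hne : χ = t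
    · subst hne; exact List.mem_append_right _ (exceptional_row hG K hM R).1
    · exact List.mem_append_left _ (ordinary_row hG K hM R h hne).1
  have hA' : ∀ χ ∈ S, A χ = 11 * z2 (charDegree (χ : G → ℂ)) := by
    intro χ h
    have hok : okDeg 2 (charDegree (χ : G → ℂ)) = true := by
      have h' := ok_row hG K hM R h
      simp only [okDeg, Bool.and_eq_true, Bool.or_eq_true, Bool.not_eq_true', ← Bool.not_eq_true,
        Nat.beq_eq, Nat.blt_eq] at h' ⊢
      refine ⟨⟨Or.inr (h'.1.1.resolve_left fun e => e (Nat.mod_eq_zero_of_dvd h2)), Or.inl (by norm_num)⟩,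
        Or.inl (by norm_num)⟩
    have h12 := not_twelve _ (hlist χ h) hok
    have hr := hres χ
    simp only [List.mem_cons, List.not_mem_nil, or_false] at hr
    rcases hr with hr | hr | hr | hr | hr
    · rw [h0 χ hr, z2, hr]; norm_num
    · rw [h1 χ hr, z2, hr]; norm_num
    · rw [h22 χ hr, z2, hr]; norm_num
    · rw [h11 χ hr, z2, hr]; norm_num
    · exact absurd hr h12
  have hord : ∀ b : Q, ¬ 11 ∣ orderOf (b : G) := fun b h => by
    have := h.trans (Subgroup.orderOf_dvd_natCard Q b.2)
    rw [hQc] at this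
    norm_num at this
  constructor
  · -- the relation
    have hsum : ∑ b : Q, ((1 : ℂ) + ∑ χ ∈ S, (c χ : ℂ) * (χ : G → ℂ) b) = 0 :=
      Finset.sum_eq_zero fun b _ => R.relation b (hord b)
    rw [Finset.sum_add_distrib, Finset.sum_comm, Finset.sum_const, Finset.card_univ,
      ← Nat.card_eq_fintype_card, hQc, nsmul_one, Finset.sum_congr rfl fun χ _ => by
        rw [← Finset.mul_sum, hA χ]] at hsum
    have hz : (23 : ℤ) + ∑ χ ∈ S, c χ * ((charDegree (χ : G → ℂ) : ℤ) + A χ) = 0 := by
      exact_mod_cast hsum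
    have hD := deg_relation hG K hM R
    rw [Finset.sum_congr rfl fun χ h => show c χ * ((charDegree (χ : G → ℂ) : ℤ) + A χ) =
      c χ * (charDegree (χ : G → ℂ) : ℤ) + 11 * (c χ * z2 (charDegree (χ : G → ℂ))) by rw [hA' χ h]; ring,
      Finset.sum_add_distrib, ← Finset.mul_sum] at hz
    rw [← Finset.add_sum_erase _ _ R.mem_t] at hz hD
    rw [← Finset.add_sum_erase (f := fun χ : IrrCharacter G => c χ * z2 (charDegree (χ : G → ℂ))) _ R.mem_t]
      at hz
    omega
  · -- the count
    obtain ⟨y, hy⟩ := exists_ne_one_P K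
    have hy' : y⁻¹ ≠ 1 := inv_ne_one.2 hy
    have hyc : Nat.card (Subgroup.centralizer ({(y : G)} : Set G)) = 11 * Nat.card V := by
      rw [← centralizer_P K y.2 (fun h => hy (Subtype.ext h)), card_centralizer K]
    choose n hn using fun b : Q => section_count_phi K hy (y : G) (b : G)
    set w : IrrCharacter G → ℂ := fun χ =>
      phi (χ : G → ℂ) (trivB V) y * conj (phi (χ : G → ℂ) (trivB V) y⁻¹)
    have hw : ∀ χ : IrrCharacter G, (χ : G → ℂ) y * phi (χ : G → ℂ) (trivB V) y = w χ := by
      intro χ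
      simp only [w]
      rw [phi_inv K χ y]
      by_cases hb : χ ∈ principalBlock M G
      · rw [phi_principal K hM hb hy]
      · rw [phi_not_principal K hM hb hy]; ring
    have hinv : ∀ b : Q, ∀ σ, FixesP 11 σ → ∀ χ : IrrCharacter G,
        conj ((galT σ χ : G → ℂ) b) / (galT σ χ : G → ℂ) 1 = conj ((χ : G → ℂ) b) / (χ : G → ℂ) 1 :=
      fun b σ hσ χ => by rw [galT_apply, galT_one, irr_regular_fixed hσ χ (hord b)]
    have hfor : ∀ b : Q, (n b : ℂ) * (121 * (Nat.card V : ℂ)) = 244823040 *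
        (1 + ∑ χ ∈ S.erase t, conj ((χ : G → ℂ) b) / (charDegree (χ : G → ℂ) : ℕ) -
          5 * (conj ((t : G → ℂ) b) / (charDegree (t : G → ℂ) : ℕ))) := by
      intro b
      have h := hn b
      rw [hyc, hG, Finset.sum_congr rfl fun (χ : IrrCharacter G) _ => show (χ : G → ℂ) y * phi (χ : G → ℂ) (trivB V) y *
          conj ((χ : G → ℂ) b) / (χ : G → ℂ) 1 = conj ((χ : G → ℂ) b) / (χ : G → ℂ) 1 * w χ by
          rw [hw]; ring,
        sum_phi_two K hM R (fun χ => conj ((χ : G → ℂ) b) / (χ : G → ℂ) 1) (hinv b) hy hy',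
        gram_inv K hM (by norm_num) (by decide) hy, Finset.card_erase_of_mem R.mem_t, R.card,
        irr_one_eq_charDegree t, Finset.sum_congr rfl fun χ _ => by rw [irr_one_eq_charDegree χ],
        show (principal G : G → ℂ) b = 1 from rfl, show (principal G : G → ℂ) 1 = 1 from rfl] at h
      push_cast at h
      rw [map_one] at h
      linear_combination h
    have hne : (121 * (Nat.card V : ℂ)) ≠ 0 :=
      mul_ne_zero (by norm_num) (Nat.cast_ne_zero.2 Nat.card_pos.ne')
    have hsymm : ∀ b : Q, n b⁻¹ = n b := by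
      intro b
      have hconj : ∀ χ : IrrCharacter G, (χ : G → ℂ) ((b⁻¹ : Q) : G) = conj ((χ : G → ℂ) b) := fun χ =>
        IsCharacter.inv (IsIrrCharacter.isCharacter χ.2) _
      have e1 := congrArg conj (hfor b)
      have e2 := hfor b⁻¹
      simp only [hconj, Complex.conj_conj] at e2
      simp only [map_mul, map_sub, map_add, map_sum, map_one, map_div₀, map_natCast, map_ofNat,
        Complex.conj_conj] at e1
      rw [← e1] at e2
      exact_mod_cast mul_right_cancel₀ hne e2
    have h1n : n 1 = 0 := by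
      have h := hfor 1
      rw [OneMemClass.coe_one, irr_one_eq_charDegree, map_natCast,
        div_self (Nat.cast_ne_zero.2 (charDegree_pos t).ne'),
        Finset.sum_congr rfl fun (χ : IrrCharacter G) _ => show conj ((χ : G → ℂ) 1) / (charDegree (χ : G → ℂ) : ℕ) = 1 by
          rw [irr_one_eq_charDegree, map_natCast, div_self (Nat.cast_ne_zero.2 (charDegree_pos χ).ne')],
        Finset.sum_const, Finset.card_erase_of_mem R.mem_t, R.card] at h
      norm_num at h
      exact h
    obtain ⟨m, hm⟩ : 2 ∣ ∑ b : Q, n b := by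
      rw [← ZMod.natCast_eq_zero_iff, Nat.cast_sum]
      refine Finset.sum_involution (fun b _ => b⁻¹) (fun b _ => ?_) (fun b _ hb => ?_)
        (fun b _ => Finset.mem_univ _) (fun b _ => inv_inv b)
      · rw [hsymm b]
        exact CharTwo.add_self_eq_zero _
      · intro hbb
        have hb2 : b ^ 2 = 1 := by rw [pow_two]; nth_rewrite 1 [← hbb]; exact inv_mul_cancel b
        have hd := orderOf_dvd_of_pow_eq_one hb2
        have hQ := orderOf_dvd_natCard b
        rw [hQc] at hQ
        have hb1 : b = 1 := orderOf_eq_one_iff.1 (Nat.Coprime.eq_one_of_dvd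
          (Nat.Coprime.coprime_dvd_left hQ (by norm_num : Nat.Coprime 23 2)) hd)
        rw [hb1, h1n] at hb
        simp at hb
    refine ⟨m, ?_⟩
    have hsum := Finset.sum_congr rfl fun b (_ : b ∈ (Finset.univ : Finset Q)) => hfor b
    rw [← Finset.sum_mul, ← Nat.cast_sum, hm, ← Finset.mul_sum, Finset.sum_sub_distrib, Finset.sum_add_distrib,
      Finset.sum_comm, Finset.sum_const, Finset.card_univ, ← Nat.card_eq_fintype_card, hQc, nsmul_one,
      ← Finset.mul_sum, ← Finset.sum_div, ← map_sum, hA t, map_add, map_intCast, map_intCast,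
      Finset.sum_congr rfl fun χ _ => by rw [← Finset.sum_div, ← map_sum, hA χ, map_add, map_intCast,
        map_intCast]] at hsum
    have hsplit : ∀ χ ∈ S, (((charDegree (χ : G → ℂ) : ℤ) : ℂ) + (A χ : ℂ)) / (charDegree (χ : G → ℂ) : ℕ) =
        1 + 11 * ((z2 (charDegree (χ : G → ℂ)) : ℂ) *
          ((967680 / charDegree (χ : G → ℂ) : ℕ) : ℂ)) / 967680 := by
      intro χ h
      obtain ⟨-, hf, hdiv⟩ := exact_div _ (hlist χ h)
      have hf0 : (charDegree (χ : G → ℂ) : ℂ) ≠ 0 := Nat.cast_ne_zero.2 hf.ne'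
      rw [hA' χ h]
      rcases hdiv with hz | hz
      · rw [show z2 (charDegree (χ : G → ℂ)) = 0 by rw [z2, hz]; norm_num]
        push_cast
        field_simp
        ring
      · rw [Nat.cast_div (Nat.dvd_of_mod_eq_zero hz) hf0]
        push_cast
        field_simp
    rw [hsplit t R.mem_t, Finset.sum_congr rfl fun χ h => hsplit χ (Finset.mem_of_mem_erase h),
      Finset.sum_add_distrib, Finset.sum_const, Finset.card_erase_of_mem R.mem_t, R.card, ← Finset.sum_div,
      ← Finset.mul_sum] at hsum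
    have hfin : (((2 * (m : ℤ)) * Nat.card V : ℤ) : ℂ) = ((23 * (2 * 967680 +
        ∑ χ ∈ S.erase t, z2 (charDegree (χ : G → ℂ)) * ((967680 / charDegree (χ : G → ℂ) : ℕ) : ℤ) -
        5 * (z2 (charDegree (t : G → ℂ)) * ((967680 / charDegree (t : G → ℂ) : ℕ) : ℤ))) : ℤ) : ℂ) := by
      simp only [Int.cast_add, Int.cast_mul, Int.cast_sub, Int.cast_sum, Int.cast_natCast, Int.cast_ofNat]
      rw [nsmul_one] at hsum
      push_cast at hsum
      linear_combination (1 / 121 : ℂ) * hsum
    exact_mod_cast hfin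

/-- The degrees form a pattern of the search. -/
theorem exists_listed (h2 : 2 ∣ Nat.card V) {Q : ℕ → List ℕ → Bool} (hQ : allPats (Nat.card V) Q = true) :
    ∃ L : List (IrrCharacter G), (L : Multiset (IrrCharacter G)) = (S.erase t).val ∧
      Q (charDegree (t : G → ℂ)) (L.map fun χ : IrrCharacter G => charDegree (χ : G → ℂ)) = true := by
  classical
  have hD := deg_relation hG K hM R
  obtain ⟨ht, hct⟩ := exceptional_row hG K hM R
  have hord := fun χ (h : χ ∈ S.erase t) =>
    ordinary_row hG K hM R (Finset.mem_of_mem_erase h) (Finset.ne_of_mem_erase h)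
  set s := (S.erase t).val.map fun χ : IrrCharacter G => charDegree (χ : G → ℂ) with hs
  obtain ⟨l, hl, hlQ⟩ := allPats_sound hQ ht (ok_row hG K hM R R.mem_t) s
    (by rw [hs, Multiset.card_map, Finset.card_val, Finset.card_erase_of_mem R.mem_t, R.card])
    (fun x hx => by
      obtain ⟨χ, hχ, rfl⟩ := Multiset.mem_map.1 hx
      exact ⟨(hord χ hχ).1, ok_row hG K hM R (Finset.mem_of_mem_erase hχ)⟩)
    (by
      rw [hs, Multiset.map_map]
      change _ + ∑ χ ∈ S.erase t, sgE (charDegree (χ : G → ℂ)) * (charDegree (χ : G → ℂ) : ℤ) = 0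
      rw [← Finset.add_sum_erase _ _ R.mem_t, hct,
        Finset.sum_congr rfl fun χ h => by rw [(hord χ h).2]] at hD
      linarith)
  obtain ⟨L, hL, rfl⟩ := exists_listing (fun χ : IrrCharacter G => charDegree (χ : G → ℂ)) l (S.erase t).val
    (hl.trans hs)
  refine ⟨L, hL, hlQ ?_⟩
  have hsum : ∀ {β : Type} [AddCommMonoid β] (g : IrrCharacter G → β),
      (L.map g).sum = ∑ χ ∈ S.erase t, g χ := by
    intro β _ g
    rw [Finset.sum_eq_multiset_sum, ← hL, Multiset.map_coe, Multiset.sum_coe]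
  obtain ⟨hz, m, hm⟩ := sums_at_23 hG K hM R h2
  simp only [patE, Bool.and_eq_true, Nat.ble_eq, decide_eq_true_eq, List.map_map]
  refine ⟨⟨⟨?_, ?_⟩, ?_⟩, ?_⟩
  · rw [hsum]
    have h1 := R.norm 1 (by simp) (fun χ => (charDegree (χ : G → ℂ) : ℤ))
      (fun χ _ => by rw [irr_one_eq_charDegree]; push_cast; rfl)
    rw [show Nat.card (Subgroup.centralizer ({(1 : G)} : Set G)) = 244823040 by
      rw [← hG, Subgroup.centralizer_eq_top_iff_subset.2 (by simp), Subgroup.card_top],
      ← Finset.add_sum_erase _ _ R.mem_t] at h1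
    have h3 : ((1 + ∑ χ ∈ S.erase t, charDegree (χ : G → ℂ) * charDegree (χ : G → ℂ) +
        2 * (charDegree (t : G → ℂ) * charDegree (t : G → ℂ)) : ℕ) : ℤ) ≤ 244823040 := by
      push_cast at h1 ⊢
      simp only [pow_two] at h1
      linarith
    exact_mod_cast h3
  · rw [hsum, ← hct]
    simp only [Function.comp]
    rw [Finset.sum_congr rfl fun χ h => by rw [← (hord χ h).2]]
    exact hz
  · rw [hsum]
    simp only [Function.comp]
    set T : ℤ := 2 * 967680 +
      ∑ χ ∈ S.erase t, z2 (charDegree (χ : G → ℂ)) * ((967680 / charDegree (χ : G → ℂ) : ℕ) : ℤ) -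
      5 * (z2 (charDegree (t : G → ℂ)) * ((967680 / charDegree (t : G → ℂ) : ℕ) : ℤ)) with hT
    have h23 : ¬ 23 ∣ Nat.card V := M23Order.not_dvd_other K (by norm_num) fun x hx => c23 hG hx
    have hdvd : ((2 * Nat.card V : ℕ) : ℤ) ∣ 23 * T := ⟨m, by rw [← hm]; push_cast; ring⟩
    have hcop : IsCoprime ((2 * Nat.card V : ℕ) : ℤ) 23 :=
      Int.isCoprime_iff_nat_coprime.2 (Nat.Coprime.mul_left (by norm_num)
        (((show Nat.Prime 23 by norm_num).coprime_iff_not_dvd).2 h23).symm)
    exact Int.emod_eq_zero_of_dvd (hcop.dvd_of_dvd_mul_left hdvd)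
  · simp only [Bool.or_eq_true, Bool.not_eq_true', ← Bool.not_eq_true, Nat.beq_eq]
    rcases em (Nat.card V % 7 = 0) with h7 | h7
    · right
      intro hcnt
      rw [← Multiset.coe_count, ← Multiset.map_coe, hL, Multiset.count_map] at hcnt
      obtain ⟨χ, hχ⟩ := Multiset.card_eq_one.1 hcnt
      have hmem : χ ∈ (S.erase t).val.filter fun χ : IrrCharacter G => 45 = charDegree (χ : G → ℂ) := by
        rw [hχ]; exact Multiset.mem_singleton_self _
      obtain ⟨hχe, hχ45⟩ := Multiset.mem_filter.1 hmem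
      have ht45 : charDegree (t : G → ℂ) ≠ 45 := fun e => by
        have := exact_div 45
        rw [e] at ht
        exact absurd ht (by decide)
      have := deg_bound hG K hM R (Finset.mem_of_mem_erase hχe) (fun ψ hψ hd => by
        have hne : ψ ≠ t := fun e => ht45 (by rw [← e, hd, ← hχ45])
        have : ψ ∈ (S.erase t).val.filter fun χ : IrrCharacter G => 45 = charDegree (χ : G → ℂ) :=
          Multiset.mem_filter.2 ⟨Finset.mem_erase.2 ⟨hne, hψ⟩, by rw [hd, ← hχ45]⟩
        rwa [hχ, Multiset.mem_singleton] at this) (Or.inl (by rw [← hχ45]; exact ht45))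
        (Nat.dvd_of_mod_eq_zero h7)
      omega
    · exact Or.inl h7

/-- No large complement. -/
theorem large_five (hv : Nat.card V ∈ ([1344, 3456, 16128, 193536] : List ℕ)) : False := by
  have h2 : 2 ∣ Nat.card V := by
    simp only [List.mem_cons, List.not_mem_nil, or_false] at hv
    omega
  obtain ⟨L, -, hQ⟩ := exists_listed hG K hM R h2 (List.all_eq_true.1 no_pattern_large _ hv)
  exact Bool.false_ne_true hQ

/-- The search at an involution excludes it. -/
theorem dead_five {i : G} (hiV : i ∈ V) (hio : orderOf i = 2) {Cs : List ℕ}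
    (hC : Nat.card (Subgroup.centralizer ({i} : Set G)) ∈ Cs)
    (hdead : deadE (Nat.card V) Cs = true) : False := by
  classical
  have h2 : 2 ∣ Nat.card V := hio ▸ Subgroup.orderOf_dvd_natCard V hiV
  obtain ⟨L, hL, hQ⟩ := exists_listed hG K hM R h2 hdead
  set C := Nat.card (Subgroup.centralizer ({i} : Set G)) with hCdef
  have hQ := List.all_eq_true.1 hQ C hC
  have hval := fun χ (h : χ ∈ S) => value_at hG K hM R h hiV hio (by norm_num : 2 < 11)
  choose! a ha hadvd halt using hval
  have hidx : 244823040 / C = (Subgroup.centralizer ({i} : Set G)).index :=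
    Nat.div_eq_of_eq_mul_left Nat.card_pos (by rw [hCdef, Subgroup.index_mul_card, hG])
  have hpi : ¬ 11 ∣ orderOf i := by rw [hio]; norm_num
  have hii : i * i = 1 := by rw [← pow_two, ← hio, pow_orderOf_eq_one]
  obtain ⟨-, hlin, hnorm, -, -⟩ := column hG K R (by norm_num) hpi ha
  rw [← hCdef] at hnorm
  rw [← Finset.add_sum_erase _ _ R.mem_t] at hlin hnorm
  obtain ⟨ht, hct⟩ := exceptional_row hG K hM R
  have hsum : ∀ {β : Type} [AddCommMonoid β] (g : IrrCharacter G → β),
      (L.map g).sum = ∑ χ ∈ S.erase t, g χ := by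
    intro β _ g
    rw [Finset.sum_eq_multiset_sum, ← hL, Multiset.map_coe, Multiset.sum_coe]
  have hmemL : ∀ χ ∈ L, χ ∈ S.erase t := fun χ h => by
    rw [← Finset.mem_val, ← hL]; exact Multiset.mem_coe.2 h
  have hord := fun χ (h : χ ∈ S.erase t) =>
    ordinary_row hG K hM R (Finset.mem_of_mem_erase h) (Finset.ne_of_mem_erase h)
  have hrow : ∀ χ ∈ S, |a χ| < (charDegree (χ : G → ℂ) : ℤ) ∧ (44 : ℤ) ∣ (charDegree (χ : G → ℂ) : ℤ) - a χ ∧
      (charDegree (χ : G → ℂ) : ℤ) ∣ ((244823040 / C : ℕ) : ℤ) * a χ := fun χ h =>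
    ⟨halt χ h, hadvd χ h, by rw [hidx]; exact M12Uniq.dvd_index_mul χ (ha χ h)⟩
  obtain ⟨y, hy⟩ := exists_ne_one_P K
  refine deadVals_sound hQ a (a t) (fun χ h => hrow χ (Finset.mem_of_mem_erase (hmemL χ h)))
    (hrow t R.mem_t).1 (hrow t R.mem_t).2.2 ?_ ?_ ?_ ?_
  · rw [hsum, Finset.sum_congr rfl fun χ h => by rw [← (hord χ h).2], ← hct]
    linarith
  · rw [hsum]
    simp only [Nat.cast_ofNat, pow_two] at hnorm
    linarith
  · rw [hsum]
    have h := M23Order.pairs K (by norm_num) hy hii hii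
    have hinv0 : M23Order.inverters (y : G) i = 0 := by
      rw [M23Order.inverters]
      have : IsEmpty {x : G // IsConj i x ∧ x * y * x⁻¹ = (y : G)⁻¹} :=
        ⟨fun x => no_inverter K (by norm_num) (by decide) hy x.1 x.2.2⟩
      exact Nat.card_of_isEmpty
    rw [hinv0, Nat.cast_zero, zero_mul, mul_zero] at h
    have h0 : ∑ χ : IrrCharacter G, (χ : G → ℂ) i * (χ : G → ℂ) i *
        conj (phi (χ : G → ℂ) (trivB V) y) / (χ : G → ℂ) 1 = 0 := by
      refine (mul_eq_zero.1 h.symm).resolve_left ?_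
      rw [hG]
      exact mul_ne_zero (mul_ne_zero (by norm_num) (Nat.cast_ne_zero.2 Nat.card_pos.ne')) (by norm_num)
    rw [Finset.sum_congr rfl fun (χ : IrrCharacter G) _ => show (χ : G → ℂ) i * (χ : G → ℂ) i *
        conj (phi (χ : G → ℂ) (trivB V) y) / (χ : G → ℂ) 1 =
        (χ : G → ℂ) i * (χ : G → ℂ) i / (χ : G → ℂ) 1 * conj (phi (χ : G → ℂ) (trivB V) y) by ring,
      R.sum_phi (fun χ => (χ : G → ℂ) i * (χ : G → ℂ) i / (χ : G → ℂ) 1) (fun σ hσ χ => by
        rw [galT_apply, galT_one, irr_regular_fixed hσ χ hpi]) y hy,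
      ← Finset.add_sum_erase _ _ R.mem_t, irr_one_eq_charDegree t, ha t R.mem_t,
      Finset.sum_congr rfl fun χ h => by rw [irr_one_eq_charDegree χ, ha χ (Finset.mem_of_mem_erase h)],
      show (principal G : G → ℂ) i = 1 from rfl, show (principal G : G → ℂ) 1 = 1 from rfl, hct,
      Finset.sum_congr rfl fun χ h => by rw [(hord χ h).2]] at h0
    have h1 : (((1 : ℚ) + ∑ χ ∈ S.erase t, (sgE (charDegree (χ : G → ℂ)) : ℚ) * ((a χ : ℚ) * a χ) /
        (charDegree (χ : G → ℂ) : ℕ) + (exE (charDegree (t : G → ℂ)) : ℚ) * ((a t : ℚ) * a t) /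
        (charDegree (t : G → ℂ) : ℕ) : ℚ) : ℂ) = ((0 : ℚ) : ℂ) := by
      push_cast
      simp only [mul_div_assoc] at h0 ⊢
      linear_combination h0
    exact_mod_cast h1
  · intro _
    rw [hsum]
    obtain ⟨n, hn⟩ := section_count_phi K hy i (y : G)
    rw [hG, Finset.sum_congr rfl fun (χ : IrrCharacter G) _ => show (χ : G → ℂ) i * phi (χ : G → ℂ) (trivB V) y *
        conj ((χ : G → ℂ) y) / (χ : G → ℂ) 1 = (χ : G → ℂ) i / (χ : G → ℂ) 1 *
          (phi (χ : G → ℂ) (trivB V) y * conj (phi (χ : G → ℂ) (trivB V) y)) by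
        by_cases hb : χ ∈ principalBlock M G
        · rw [phi_principal K hM hb hy]; ring
        · rw [phi_not_principal K hM hb hy]; ring,
      sum_phi_two K hM R (fun χ => (χ : G → ℂ) i / (χ : G → ℂ) 1) (fun σ hσ χ => by
        rw [galT_apply, galT_one, irr_regular_fixed hσ χ hpi]) hy hy,
      gram_self K hM hy, Finset.card_erase_of_mem R.mem_t, R.card, irr_one_eq_charDegree t, ha t R.mem_t,
      Finset.sum_congr rfl fun χ h => by rw [irr_one_eq_charDegree χ, ha χ (Finset.mem_of_mem_erase h)],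
      show (principal G : G → ℂ) i = 1 from rfl, show (principal G : G → ℂ) 1 = 1 from rfl, ← hCdef] at hn
    set U : ℚ := 1 + ∑ χ ∈ S.erase t, (a χ : ℚ) / (charDegree (χ : G → ℂ) : ℕ) +
      6 * ((a t : ℚ) / (charDegree (t : G → ℂ) : ℕ)) with hU
    have hn' : (n : ℚ) * ((C : ℚ) * 11) = 244823040 * U := by
      have h : (((n : ℚ) * ((C : ℚ) * 11) : ℚ) : ℂ) = ((244823040 * U : ℚ) : ℂ) := by
        rw [hU]; push_cast at hn ⊢; linear_combination hn
      exact_mod_cast h
    have hU0 : 0 ≤ U := by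
      have : (0 : ℚ) ≤ (n : ℚ) * ((C : ℚ) * 11) := by positivity
      linarith
    have hdiv : ∀ χ ∈ S, ((22256640 / charDegree (χ : G → ℂ) : ℕ) : ℚ) =
        22256640 / (charDegree (χ : G → ℂ) : ℕ) := fun χ h => by
      have hmem : charDegree (χ : G → ℂ) ∈ ordinaryDegs ++ exceptionalDegs := by
        by_cases hne : χ = t
        · subst hne; exact List.mem_append_right _ ht
        · exact List.mem_append_left _ (ordinary_row hG K hM R h hne).1
      obtain ⟨h1, h2, -⟩ := exact_div _ hmem
      rw [Nat.cast_div (Nat.dvd_of_mod_eq_zero h1) (Nat.cast_ne_zero.2 h2.ne')]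
      norm_num
    have h1 : (0 : ℚ) ≤ ((22256640 +
        ∑ χ ∈ S.erase t, a χ * ((22256640 / charDegree (χ : G → ℂ) : ℕ) : ℤ) +
        6 * (a t * ((22256640 / charDegree (t : G → ℂ) : ℕ) : ℤ)) : ℤ) : ℚ) := by
      simp only [Int.cast_add, Int.cast_mul, Int.cast_sum, Int.cast_natCast, Int.cast_ofNat]
      rw [hdiv t R.mem_t, Finset.sum_congr rfl fun χ h => by rw [hdiv χ (Finset.mem_of_mem_erase h)]]
      have e : (22256640 : ℚ) + ∑ χ ∈ S.erase t, (a χ : ℚ) * (22256640 / (charDegree (χ : G → ℂ) : ℕ)) +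
          6 * ((a t : ℚ) * (22256640 / (charDegree (t : G → ℂ) : ℕ))) = 22256640 * U := by
        rw [hU, mul_add, mul_add, Finset.mul_sum]
        congr 1
        · congr 1
          · ring
          · exact Finset.sum_congr rfl fun χ _ => by ring
        · ring
      rw [e]
      positivity
    exact_mod_cast h1

omit K hM R

/-- There is no action of order five. -/
theorem five_false {P : Sylow 11 G} {V : Subgroup G}
    (K : Conf 11 (P : Subgroup G) V (Subgroup.normalizer ((P : Subgroup G) : Set G)) 5) : False := by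
  classical
  haveI : Fact (Nat.Prime 11) := ⟨by norm_num⟩
  haveI : Fintype (P : Subgroup G) := Fintype.ofFinite _
  haveI : Fintype V := Fintype.ofFinite _
  haveI : Fintype (Subgroup.normalizer ((P : Subgroup G) : Set G)) := Fintype.ofFinite _
  haveI : Fintype ((P : Subgroup G) →* ℂˣ) := Fintype.ofFinite _
  obtain ⟨M, hM⟩ := exists_isPModular_witness 11
  haveI := IsPModular.isPrime hM
  obtain ⟨k, S, c, t, R⟩ := exists_rows hM (by norm_num) K
  have hk : k = 2 := by have := R.ek; omega
  subst hk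
  have hV := card_five hG K
  by_cases hbig : Nat.card V ∈ ([1344, 3456, 16128, 193536] : List ℕ)
  · exact large_five hG K hM R hbig
  by_cases hseven : Nat.card V ∈ ([112, 189] : List ℕ)
  · refine no_seven hG K ?_
    simp only [List.mem_cons, List.not_mem_nil, or_false] at hseven
    rcases hseven with h | h <;> rw [h] <;> decide
  simp only [List.mem_cons, List.not_mem_nil, or_false] at hV hbig hseven
  have hv : Nat.card V = 2 ∨ Nat.card V = 24 ∨ Nat.card V = 288 := by omega
  set N := Subgroup.normalizer ((P : Subgroup G) : Set G) with hNdef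
  have hval : (Nat.card V).factorization 2 = if Nat.card V = 2 then 1 else if Nat.card V = 24 then 3 else 5 := by
    have hpow : ∀ a m : ℕ, m % 2 = 1 → (2 ^ a * m).factorization 2 = a := fun a m hm => by
      rw [Nat.factorization_mul (by positivity) (by omega), Finsupp.add_apply,
        Nat.Prime.factorization_pow Nat.prime_two, Finsupp.single_eq_same,
        Nat.factorization_eq_zero_of_not_dvd (by omega), add_zero]
    rcases hv with h | h | h <;> rw [h]
    · exact hpow 1 1 rfl
    · exact hpow 3 3 rfl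
    · exact hpow 5 9 rfl
  have ha : (Nat.card V).factorization 2 ∈ ([1, 2, 3, 5] : List ℕ) := by
    rw [hval]; rcases hv with h | h | h <;> rw [h] <;> decide
  obtain ⟨i, hiV, hio, hdiv⟩ := exists_pick K dvd_rfl (by omega) ha
  set H := Subgroup.centralizer ({i} : Set G) with hH
  have hPH : (P : Subgroup G) ≤ H := fun y hy =>
    Subgroup.mem_centralizer_singleton_iff.2 (K.D.pv y hy i hiV)
  obtain ⟨a, hCa, ha11⟩ := index_part P hPH
  rw [← hNdef] at hCa
  set J := Nat.card (N ⊓ H : Subgroup G) with hJ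
  have hJd : J ∣ 5 * (11 * Nat.card V) := by
    have h : J ∣ Nat.card N := Subgroup.card_dvd_of_le inf_le_left
    rwa [K.D.hcard, K.hP] at h
  obtain ⟨q, hq⟩ : 11 ∣ J := Dvd.dvd.trans (Dvd.intro _ (by ring : 11 * (5 * 2 ^ _) = 55 * 2 ^ _)) hdiv
  have hqd : q ∣ 5 * Nat.card V := by
    rw [hq, show 5 * (11 * Nat.card V) = 11 * (5 * Nat.card V) by ring] at hJd
    exact (Nat.mul_dvd_mul_iff_left (by norm_num)).1 hJd
  rw [hval] at hdiv
  rw [hq] at hdiv hCa
  have hqdiv : q ∈ Nat.divisors (5 * Nat.card V) := Nat.mem_divisors.2 ⟨hqd, by omega⟩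
  set C := Nat.card H with hC
  have hCd : C ∈ ordDivs := mem_ordDivs (hG ▸ Subgroup.card_subgroup_dvd_card H)
  have hC23 : ¬ 23 ∣ C := not_dvd_cent hG (by rintro rfl; simp at hio) (by rw [hio]; norm_num)
  have hCent : ∀ js : List ℕ, q ∈ js → C ∈ centOrds js := fun js hjs => List.mem_filter.2 ⟨hCd, by
    simp only [Bool.and_eq_true, Bool.not_eq_true', ← Bool.not_eq_true, Nat.beq_eq, List.any_eq_true]
    exact ⟨fun e => hC23 (Nat.dvd_of_mod_eq_zero e), q, hjs, by rw [hCa, Nat.mul_mod_left],
      by rw [hCa, Nat.mul_div_cancel _ (Nat.pos_of_ne_zero fun e => by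
        rw [e] at hCa; exact absurd hCa (by simp [C, Nat.card_pos.ne'])), ha11]⟩⟩
  rcases hv with h | h | h <;> rw [h] at hdiv hqdiv <;>
    norm_num at hdiv
  · have hq10 : q ∈ ([10] : List ℕ) :=
      (by decide : ∀ q ∈ Nat.divisors (5 * 2), 110 ∣ 11 * q → q ∈ ([10] : List ℕ)) q hqdiv hdiv
    by_cases hC8 : C = 887040
    · have hidx : H.index = 276 := by
        have e := H.index_mul_card
        rw [hG, ← hC, hC8] at e
        omega
      refine no_index_276_central hG (fun χ hχ hmem => ?_) hidx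
      have hii : i * i = 1 := by rw [← pow_two, ← hio, pow_orderOf_eq_one]
      have hI : ∀ g, g ∈ ({i} : Finset G) ↔ IsConj i g ∧ ∀ y ∈ (P : Subgroup G), y * g = g * y := by
        intro g
        rw [Finset.mem_singleton]
        refine ⟨fun e => by subst e; exact ⟨IsConj.refl g, fun y hy => K.D.pv y hy g hiV⟩, fun ⟨hc, hcomm⟩ => ?_⟩
        obtain ⟨w, hw⟩ := isConj_iff.1 hc
        have hgg : g * g = 1 := by
          rw [← hw, show w * i * w⁻¹ * (w * i * w⁻¹) = w * (i * i) * w⁻¹ by group, hii]; group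
        have hgV := mem_V_of_sq K hgg hcomm
        have hg1 : g ≠ 1 := fun e => by
          rw [e] at hw
          have hi1 : i = 1 := conj_eq_one_iff.1 hw
          rw [hi1, orderOf_one] at hio
          omega
        by_contra hgi
        have hthree : 2 < Nat.card V := by
          rw [Nat.card_eq_fintype_card, Fintype.two_lt_card_iff]
          exact ⟨⟨1, one_mem V⟩, ⟨g, hgV⟩, ⟨i, hiV⟩, fun e => hg1 (congrArg Subtype.val e).symm,
            fun e => (by rintro rfl; simp at hio : i ≠ 1) (congrArg Subtype.val e).symm,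
            fun e => hgi (congrArg Subtype.val e)⟩
        omega
      obtain ⟨b, -, hb⟩ := value_mem hG P.2 hio hI (fun u hu w hw hne => absurd
        ((Finset.mem_singleton.1 hu).trans (Finset.mem_singleton.1 hw).symm) hne) hχ
      rw [← hH, hidx, Finset.card_singleton] at hb
      rw [List.isEmpty_iff.1 (List.all_eq_true.1 no_badVals _ hmem)] at hb
      exact List.not_mem_nil hb
    · exact dead_five hG K hM R hiV hio (Cs := (centOrds [10]).filter fun C => !(Nat.beq C 887040))
        (List.mem_filter.2 ⟨hCent _ hq10, by rw [Bool.not_eq_true', ← Bool.not_eq_true, Nat.beq_eq]; exact hC8⟩) (h ▸ dead_2)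
  · exact dead_five hG K hM R hiV hio (hCent [40, 120]
      ((by decide : ∀ q ∈ Nat.divisors (5 * 24), 440 ∣ 11 * q → q ∈ ([40, 120] : List ℕ)) q hqdiv hdiv))
      (h ▸ dead_24)
  · exact dead_five hG K hM R hiV hio (hCent [160, 480, 1440]
      ((by decide +kernel : ∀ q ∈ Nat.divisors (5 * 288), 1760 ∣ 11 * q → q ∈ ([160, 480, 1440] : List ℕ)) q
        hqdiv hdiv)) (h ▸ dead_288)

end Cfsg.Agent.M24Order
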