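import Cfsg.Agent.Lib.M24Order.ElevenBad
import Cfsg.Agent.Lib.M12Uniq.Congr

/-!
The degrees excluded by a four group commuting with a group of order eleven in a group of order 244823040.
-/

set_option linter.unusedSectionVars false
set_option linter.style.haveILetI false

namespace Cfsg.Agent.M24Order

open Cfsg Cfsg.Agent.Char Cfsg.Agent.Blocks

open scoped ComplexConjugate

universe u

/-- The test for one degree. -/
def fourDead (f : ℕ) : Bool :=
  (badVals 828 3 f).all fun a => (List.range 23).all fun j : ℕ =>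
    let b : ℤ := (j : ℤ) - 11
    !(decide (((f : ℤ) + 10 * b) % 11 = 0) && decide (0 ≤ (f : ℤ) + 10 * b)) ||
      (List.range ((((f : ℤ) + 10 * b) / 11).toNat + 1)).all fun m : ℕ =>
        let n : ℤ := 11 * (4 * (m : ℤ) - ((f : ℤ) + 10 * b) / 11) - 3 * a
        !(decide (n % 30 = 0)) || !(decide (b + 3 * (n / 30) ≤ (f : ℤ) + 3 * a))

theorem four_dead : badDegs.all fourDead = true := by decide +kernel

variable {G : Type u} [Group G] [Fintype G] [IsSimpleGroup G] (hG : Nat.card G = 244823040)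

omit [IsSimpleGroup G] in
/-- A rational algebraic integer combination gives an integer value. -/
theorem int_of_mul {z : ℂ} (hz : IsIntegral ℤ z) {k n : ℤ} (hk : k ≠ 0) (h : (k : ℂ) * z = n) :
    ∃ q : ℤ, z = q ∧ k * q = n := by
  have hq : z = (((n : ℚ) / k : ℚ) : ℂ) := by
    push_cast
    rw [eq_div_iff (by exact_mod_cast hk)]
    linear_combination h
  obtain ⟨q, hq'⟩ := exists_int_of_isIntegral (q := (n : ℚ) / k) (hq ▸ hz)
  refine ⟨q, by rw [hq, hq']; push_cast; rfl, ?_⟩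
  rw [div_eq_iff (by exact_mod_cast hk)] at hq'
  have : ((k * q : ℤ) : ℚ) = ((n : ℤ) : ℚ) := by push_cast; linarith
  exact_mod_cast this

include hG

/-- The degrees excluded by the four group. -/
theorem four_bad {P U : Subgroup G} (hP : Nat.card P = 11) (hU : Nat.card U = 4)
    (hPU : ∀ y ∈ P, ∀ v ∈ U, y * v = v * y) {i : G} (hiU : i ∈ U) (hio : orderOf i = 2)
    (hy : ∀ y ∈ P, ∀ z ∈ P, y ≠ 1 → z ≠ 1 → ∃ g : G, g * i * g⁻¹ = i ∧ g * y * g⁻¹ = z)
    (hu : ∀ v ∈ U, v ≠ 1 → ∃ g : G, g * i * g⁻¹ = v ∧ ∀ y ∈ P, g * y = y * g)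
    (hall : ∀ g, IsConj i g → (∀ y ∈ P, y * g = g * y) → g ∈ U)
    (hidx : (Subgroup.centralizer ({i} : Set G)).index = 828)
    (hCy : ∀ y ∈ P, y ≠ 1 → Nat.card (Subgroup.centralizer ({y} : Set G)) ≤ 132)
    (χ : IrrCharacter G) (hχ : χ ≠ principal G) : charDegree (χ : G → ℂ) ∉ badDegs := by
  classical
  intro hmem
  haveI : Fact (Nat.Prime 11) := ⟨by norm_num⟩
  haveI : Fintype P := Fintype.ofFinite _
  haveI : Fintype U := Fintype.ofFinite _
  have hi1 : i ≠ 1 := fun h => by rw [h, orderOf_one] at hio; omega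
  set I : Finset G := Finset.univ.filter fun g => g ∈ U ∧ g ≠ 1 with hI
  have hconj : ∀ g, g ∈ I → IsConj i g := fun g hg => by
    obtain ⟨h1, h2⟩ := (Finset.mem_filter.1 hg).2
    obtain ⟨c, hc, -⟩ := hu g h1 h2
    exact isConj_iff.2 ⟨c, hc⟩
  have hIiff : ∀ g, g ∈ I ↔ IsConj i g ∧ ∀ y ∈ P, y * g = g * y := fun g => by
    refine ⟨fun h => ⟨hconj g h, fun y hy' => hPU y hy' g (Finset.mem_filter.1 h).2.1⟩, fun ⟨h1, h2⟩ => ?_⟩
    refine Finset.mem_filter.2 ⟨Finset.mem_univ _, hall g h1 h2, fun e => hi1 ?_⟩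
    obtain ⟨c, hc⟩ := isConj_iff.1 h1
    rw [e] at hc
    exact (conj_eq_one_iff (a := c)).1 hc
  have hii : i * i = 1 := by rw [← pow_two, ← hio, pow_orderOf_eq_one]
  have hprod : ∀ u ∈ I, ∀ w ∈ I, u ≠ w → u * w ∈ I := fun u hu' w hw hne => by
    obtain ⟨h1, h2⟩ := (Finset.mem_filter.1 hu').2
    refine Finset.mem_filter.2 ⟨Finset.mem_univ _, mul_mem h1 (Finset.mem_filter.1 hw).2.1, fun e => hne ?_⟩
    rw [eq_inv_of_mul_eq_one_left e]
    exact inv_eq_of_mul_eq_one_left (M12Uniq.sq_of_isConj (hconj w hw) hii)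
  have hIcard : I.card = 3 := by
    have : I = (Finset.univ.filter fun g => g ∈ U).erase 1 := by
      ext g; simp [hI, and_comm]
    rw [this, Finset.card_erase_of_mem (by simp), ← Fintype.card_subtype, ← Nat.card_eq_fintype_card]
    show Nat.card U - 1 = 3
    rw [hU]
  obtain ⟨α, hα, hαmem⟩ := value_mem hG (IsPGroup.of_card (n := 1) (by rw [hP, pow_one])) hio hIiff hprod hχ
  rw [hidx, hIcard] at hαmem
  set f := charDegree (χ : G → ℂ)
  -- the two values at the elements of order eleven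
  haveI : Nontrivial P := Finite.one_lt_card_iff_nontrivial.1 (by rw [hP]; norm_num)
  obtain ⟨y₀, hy₀⟩ := exists_ne (1 : P)
  have hy₀' : (y₀ : G) ≠ 1 := fun h => hy₀ (Subtype.ext h)
  have hcls : ∀ (g x : G), (χ : G → ℂ) (g * x * g⁻¹) = (χ : G → ℂ) x := fun g x =>
    IsCharacter.isClassFunction (IsIrrCharacter.isCharacter χ.2) x g
  have hyv : ∀ y : P, y ≠ 1 → (χ : G → ℂ) y = (χ : G → ℂ) y₀ ∧
      (χ : G → ℂ) ((y : G) * i) = (χ : G → ℂ) ((y₀ : G) * i) := by
    intro y hy1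
    obtain ⟨g, hgi, hgy⟩ := hy _ y₀.2 _ y.2 hy₀' (fun h => hy1 (Subtype.ext h))
    refine ⟨by rw [← hgy, hcls], ?_⟩
    rw [← hcls g ((y₀ : G) * i), show g * ((y₀ : G) * i) * g⁻¹ = (g * y₀ * g⁻¹) * (g * i * g⁻¹) by group,
      hgy, hgi]
  have huv : ∀ (y : P) (v : U), v ≠ 1 → (χ : G → ℂ) ((y : G) * v) = (χ : G → ℂ) ((y : G) * i) := by
    intro y v hv
    obtain ⟨g, hgi, hgP⟩ := hu _ v.2 (fun h => hv (Subtype.ext h))
    rw [← hcls g ((y : G) * i), show g * ((y : G) * i) * g⁻¹ = (g * y * g⁻¹) * (g * i * g⁻¹) by group, hgi,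
      mul_inv_eq_of_eq_mul (hgP y y.2)]
  obtain ⟨ψ, hψ, hψv⟩ := M12Uniq.exists_fixed_character (IsIrrCharacter.isCharacter χ.2) P U hPU
  obtain ⟨d, hd⟩ := IsCharacter.exists_degree hψ
  have hPsum : ∀ v : U, ∑ y : P, (χ : G → ℂ) ((y : G) * v) =
      (χ : G → ℂ) v + 10 * (χ : G → ℂ) ((y₀ : G) * v) := by
    intro v
    rw [← Finset.add_sum_erase _ _ (Finset.mem_univ (1 : P)), OneMemClass.coe_one, one_mul,
      Finset.sum_congr rfl fun (y : P) hy' => show (χ : G → ℂ) ((y : G) * v) = (χ : G → ℂ) ((y₀ : G) * v) by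
        obtain ⟨h1, h2⟩ := hyv y (Finset.ne_of_mem_erase hy')
        by_cases hv : v = 1
        · rw [hv, OneMemClass.coe_one, mul_one, mul_one, h1]
        · rw [huv y v hv, huv y₀ v hv, h2],
      Finset.sum_const, Finset.card_erase_of_mem (Finset.mem_univ _), Finset.card_univ,
      ← Nat.card_eq_fintype_card, hP, nsmul_eq_mul]
    norm_num
  have e1 := hψv 1
  rw [hPsum, OneMemClass.coe_one, irr_one_eq_charDegree, mul_one, hd, hP] at e1
  obtain ⟨b, hb, hbe⟩ := int_of_mul (irr_isIntegral χ (y₀ : G)) (k := 10) (n := 11 * (d : ℤ) - f)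
    (by norm_num) (by push_cast at e1 ⊢; linear_combination e1)
  have ei := hψv ⟨i, hiU⟩
  rw [hPsum, hP] at ei
  have hψu : ∀ v : U, v ≠ 1 → ψ v = ψ ⟨i, hiU⟩ := by
    intro v hv
    have hv' : (χ : G → ℂ) v = (χ : G → ℂ) i := by
      have := huv 1 v hv
      simpa using this
    have h1 := hψv v
    rw [hPsum, huv y₀ v hv, hv', hP] at h1
    exact mul_left_cancel₀ (by norm_num : ((11 : ℕ) : ℂ) ≠ 0) (h1.symm.trans ei)
  obtain ⟨m, hm⟩ := M12Uniq.sum_eq_nat_mul hψ
  rw [← Finset.add_sum_erase _ _ (Finset.mem_univ (1 : U)), hd,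
    Finset.sum_congr rfl fun v hv => hψu v (Finset.ne_of_mem_erase hv), Finset.sum_const,
    Finset.card_erase_of_mem (Finset.mem_univ _), Finset.card_univ, ← Nat.card_eq_fintype_card, hU,
    nsmul_eq_mul] at hm
  obtain ⟨c, hc, hce⟩ := int_of_mul (irr_isIntegral χ ((y₀ : G) * i)) (k := 30)
    (n := 11 * (4 * (m : ℤ) - d) - 3 * α) (by norm_num)
    (by
      have ei' : (χ : G → ℂ) i + 10 * (χ : G → ℂ) ((y₀ : G) * i) = 11 * ψ ⟨i, hiU⟩ := by exact_mod_cast ei
      rw [hα] at ei'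
      push_cast at hm ⊢
      linear_combination 3 * ei' + 11 * hm)
  have hmd : m ≤ d := by
    obtain ⟨q, hq⟩ : ∃ q : ℤ, ψ ⟨i, hiU⟩ = q ∧ |q| ≤ d := by
      obtain ⟨q, hq, -⟩ := int_of_mul (IsCharacter.isIntegral hψ ⟨i, hiU⟩) (k := 3) (n := 4 * (m : ℤ) - d)
        (by norm_num) (by push_cast at hm ⊢; linear_combination hm)
      refine ⟨q, hq, ?_⟩
      obtain ⟨n', ρ, hρ⟩ := hψ
      have h4 := Cfsg.Agent.Char.norm_char_le ρ (⟨i, hiU⟩ : U)
      rw [← hρ, Representation.char_one] at hd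
      rw [show Module.finrank ℂ (Fin n' → ℂ) = d by exact_mod_cast hd, congrFun hρ, hq, Complex.norm_intCast] at h4
      exact_mod_cast h4
    obtain ⟨hq, hqd⟩ := hq
    rw [hq] at hm
    have h' : ((((d : ℤ) + 3 * q) : ℤ) : ℂ) = ((4 * (m : ℤ) : ℤ) : ℂ) := by push_cast at hm ⊢; linear_combination hm
    have h'' := Int.cast_injective h'
    rw [abs_le] at hqd
    omega
  -- the fixed points of the four group
  obtain ⟨φ, hφ, hφv⟩ := M12Uniq.exists_fixed_character (IsIrrCharacter.isCharacter χ.2) U P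
    (fun v hv y hy' => (hPU y hy' v hv).symm)
  obtain ⟨d', hd'⟩ := IsCharacter.exists_degree hφ
  have hUsum : ∀ y : P, ∑ v : U, (χ : G → ℂ) ((v : G) * y) =
      (χ : G → ℂ) y + 3 * (χ : G → ℂ) ((y : G) * i) := by
    intro y
    rw [← Finset.add_sum_erase _ _ (Finset.mem_univ (1 : U)), OneMemClass.coe_one, one_mul,
      Finset.sum_congr rfl fun (v : U) hv => show (χ : G → ℂ) ((v : G) * y) = (χ : G → ℂ) ((y : G) * i) by
        rw [← hPU _ y.2 _ v.2, huv y v (Finset.ne_of_mem_erase hv)],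
      Finset.sum_const, Finset.card_erase_of_mem (Finset.mem_univ _), Finset.card_univ,
      ← Nat.card_eq_fintype_card, hU, nsmul_eq_mul]
    norm_num
  have f1 := hφv 1
  rw [hUsum, OneMemClass.coe_one, one_mul, irr_one_eq_charDegree, hα, hd', hU] at f1
  have f2 := hφv y₀
  rw [hUsum, hb, hc, hU] at f2
  have hbc : b + 3 * c ≤ (f : ℤ) + 3 * α := by
    have hd4 : (f : ℤ) + 3 * α = 4 * (d' : ℤ) := by
      have : ((((f : ℤ) + 3 * α) : ℤ) : ℂ) = ((4 * (d' : ℤ) : ℤ) : ℂ) := by push_cast at f1 ⊢; linear_combination f1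
      exact_mod_cast this
    obtain ⟨n', ρ, hρ⟩ := hφ
    have h4 := Cfsg.Agent.Char.norm_char_le ρ y₀
    rw [← hρ, Representation.char_one] at hd'
    have f3 : (4 : ℂ) * φ y₀ = ((b + 3 * c : ℤ) : ℂ) := by push_cast at f2 ⊢; linear_combination -f2
    rw [show Module.finrank ℂ (Fin n' → ℂ) = d' by exact_mod_cast hd', congrFun hρ] at h4
    have h5 := congrArg (‖·‖) f3
    simp only [norm_mul, Complex.norm_intCast, Complex.norm_ofNat] at h5
    have h6 : |((b + 3 * c : ℤ) : ℝ)| ≤ 4 * (d' : ℝ) := by rw [← h5]; linarith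
    have h7 : |b + 3 * c| ≤ 4 * (d' : ℤ) := by exact_mod_cast h6
    rw [abs_le] at h7
    omega
  have hb132 : b * b ≤ 132 := by
    have h := M12Uniq.sum_sq_le (y₀ : G) {χ} (fun _ => b) (fun ψ' hψ' => by
      rw [Finset.mem_singleton.1 hψ', hb])
    rw [Finset.sum_singleton, pow_two] at h
    have := hCy _ y₀.2 hy₀'
    omega
  have hb11 : -11 ≤ b ∧ b ≤ 11 := ⟨by nlinarith, by nlinarith⟩
  have h := List.all_eq_true.1 four_dead f hmem
  have h := List.all_eq_true.1 (List.all_eq_true.1 h α hαmem) (b + 11).toNat (List.mem_range.2 (by omega))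
  simp only [show ((b + 11).toNat : ℤ) - 11 = b by omega, Bool.or_eq_true, Bool.not_eq_true',
    ← Bool.not_eq_true, Bool.and_eq_true, decide_eq_true_eq] at h
  have hd11 : ((f : ℤ) + 10 * b) / 11 = d := by omega
  rcases h with h | h
  · exact h ⟨by omega, by omega⟩
  · rw [hd11] at h
    have h := List.all_eq_true.1 h m (List.mem_range.2 (by omega))
    simp only [Bool.or_eq_true, Bool.not_eq_true', ← Bool.not_eq_true, decide_eq_true_eq] at h
    have hc30 : (11 * (4 * (m : ℤ) - d) - 3 * α) / 30 = c := by omega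
    rw [hc30] at h
    rcases h with h | h
    · exact h (by omega)
    · exact h hbc

end Cfsg.Agent.M24Order
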