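import Cfsg.Agent.Lib.M24Order.DegTwentyThree
import Cfsg.Agent.Lib.Perm.CharPerm

/-!
A group of order 244823040 whose small degrees are excluded has no subgroup of index 276.
-/

set_option linter.unusedSectionVars false
set_option linter.style.haveILetI false

namespace Cfsg.Agent.M24Order

open Cfsg Cfsg.Agent.Char Cfsg.Agent.Blocks Cfsg.Agent.CCSylow Cfsg.Agent.DefOne
open Cfsg.Agent.M23Order (Rows exists_rows)

open scoped ComplexConjugate

universe u

variable {G : Type u} [Group G] [Fintype G] [IsSimpleGroup G] (hG : Nat.card G = 244823040)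

/-- The degrees which no constituent of the permutation character may have. -/
def badDegs : List ℕ := [11, 12, 22, 23, 35, 45, 80, 160]

theorem small_degs : allDivs.all (fun f => !(Nat.ble 2 f && Nat.ble f 275 &&
    [0, 1, 22, 11, 12].contains (f % 23) && !(badDegs.contains f)) ||
    (Nat.blt 23 f && ([0, 1].contains (f % 23) || [126, 252, 264].contains f))) = true := by
  decide +kernel

include hG

/-- The sums of the values over the nontrivial elements of a group of order 23. -/
theorem sums23 : ∃ P : Subgroup G, Nat.card P = 23 ∧ ∀ [Fintype P] (χ : IrrCharacter G), ∃ A : ℤ,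
    ∑ y : P, (χ : G → ℂ) y = (charDegree (χ : G → ℂ) : ℤ) + (A : ℂ) ∧
      charDegree (χ : G → ℂ) % 23 ∈ ([0, 1, 22, 11, 12] : List ℕ) ∧
      (charDegree (χ : G → ℂ) % 23 = 0 → A = 0) ∧ (charDegree (χ : G → ℂ) % 23 = 1 → A = 22) ∧
      (charDegree (χ : G → ℂ) % 23 = 22 → A = -22) ∧ (charDegree (χ : G → ℂ) % 23 = 11 → A = -11) := by
  classical
  haveI : Fact (Nat.Prime 23) := ⟨by norm_num⟩
  obtain ⟨P, V, K, hV⟩ := twentyThree hG
  refine ⟨(P : Subgroup G), K.hP, fun {iP} χ => ?_⟩
  haveI : Fintype V := Fintype.ofFinite _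
  haveI : Fintype (Subgroup.normalizer ((P : Subgroup G) : Set G)) := Fintype.ofFinite _
  haveI : Fintype ((P : Subgroup G) →* ℂˣ) := Fintype.ofFinite _
  obtain ⟨M, hM⟩ := exists_isPModular_witness 23
  haveI := IsPModular.isPrime hM
  have hphi : ∀ (ψ : IrrCharacter G) (y : (P : Subgroup G)),
      phi (ψ : G → ℂ) (trivB V) y = (ψ : G → ℂ) y := by
    intro ψ y
    obtain ⟨hs⟩ : Nonempty (Subsingleton V) := ⟨(Nat.card_eq_one_iff_unique.1 hV).1⟩
    simp only [phi, hV, Nat.cast_one, inv_one, one_mul]
    rw [Fintype.sum_subsingleton _ (1 : V)]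
    simp [trivB]
  have hdeg := deg_mod hG K hV hM χ
  have hP23 : Nat.card (P : Subgroup G) = 23 := K.hP
  have hsum : ∀ (z : ℤ), (∀ y : (P : Subgroup G), y ≠ 1 → (χ : G → ℂ) y = z) →
      ∑ y : (P : Subgroup G), (χ : G → ℂ) y = (charDegree (χ : G → ℂ) : ℤ) + ((22 * z : ℤ) : ℂ) := by
    intro z hz
    rw [← Finset.add_sum_erase _ _ (Finset.mem_univ (1 : (P : Subgroup G))), OneMemClass.coe_one,
      irr_one_eq_charDegree, Finset.sum_congr rfl fun y hy => hz y (Finset.ne_of_mem_erase hy),
      Finset.sum_const, Finset.card_erase_of_mem (Finset.mem_univ _), Finset.card_univ,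
      ← Nat.card_eq_fintype_card, hP23, nsmul_eq_mul]
    push_cast; ring
  have hunit : ∀ r, charDegree (χ : G → ℂ) % 23 = r → r = 1 ∨ r = 22 →
      ∀ y : (P : Subgroup G), y ≠ 1 → (χ : G → ℂ) y = (sgP 23 (charDegree (χ : G → ℂ)) : ℤ) := by
    intro r hr hr' y hy
    rw [← hphi, phi_unit hG K hV hM (by omega) hy]
  simp only [List.mem_cons, List.not_mem_nil, or_false] at hdeg
  rcases hdeg with h | h | h | h | h
  · refine ⟨22 * 0, hsum 0 fun y hy => ?_, by simp [h], fun _ => by norm_num, fun e => by omega,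
      fun e => by omega, fun e => by omega⟩
    rw [← hphi, phi_zero hG K hM (Nat.dvd_of_mod_eq_zero h) hy]; simp
  · refine ⟨22 * 1, hsum 1 fun y hy => ?_, by simp [h], fun e => by omega, fun _ => by norm_num,
      fun e => by omega, fun e => by omega⟩
    rw [hunit 1 h (Or.inl rfl) y hy, sgP, if_pos h]
  · refine ⟨22 * -1, hsum (-1) fun y hy => ?_, by simp [h], fun e => by omega, fun e => by omega,
      fun _ => by norm_num, fun e => by omega⟩
    rw [hunit 22 h (Or.inr rfl) y hy, sgP, if_neg (by omega)]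
  all_goals
    -- the exceptional family
    obtain ⟨k, S, c, t, R⟩ := exists_rows hM (by norm_num) K
    have hk : k * 11 = 22 := R.ek
    have hχmem := M23Order.mem_principal K hV hM (χ := χ) (fun h' => by
      have := Nat.mod_eq_zero_of_dvd h'; omega)
    have hexc : ∀ ψ : IrrCharacter G, ψ ∈ principalBlock M G →
        charDegree (ψ : G → ℂ) % 23 = charDegree (χ : G → ℂ) % 23 → ∃ σ, FixesP 23 σ ∧ galT σ t = ψ := by
      intro ψ hψ hres
      rcases R.cases ψ hψ with e | e | e
      · rw [e, show charDegree (principal G : G → ℂ) = 1 from Cfsg.Agent.CharX.charDegree_one] at hres; omega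
      · by_cases hne : ψ = t
        · exact ⟨RingEquiv.refl ℂ, FixesP.refl, by rw [hne, galT_refl]⟩
        · have h2 := R.congr ψ e hne
          rw [Int.ModEq] at h2
          rcases R.sign ψ e with s | s <;> rw [s] at h2 <;> omega
      · exact e
    obtain ⟨σ, hσ, hσt⟩ := hexc χ hχmem rfl
    obtain ⟨ψ', hψ', hv⟩ := M12Uniq.exists_fixed_character (IsIrrCharacter.isCharacter t.2)
      (P : Subgroup G) (⊥ : Subgroup G) (fun y _ v hv => by rw [Subgroup.mem_bot.1 hv]; simp)
    obtain ⟨d, hd⟩ := IsCharacter.exists_degree hψ'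
    have ht1 := hv 1
    simp only [OneMemClass.coe_one, mul_one, hd, hP23] at ht1
    set At : ℤ := 23 * (d : ℤ) - (charDegree (t : G → ℂ) : ℤ) with hAt
    have hdt : charDegree (χ : G → ℂ) = charDegree (t : G → ℂ) := by
      have h2 := DefOne.galT_one σ t
      rw [hσt, irr_one_eq_charDegree, irr_one_eq_charDegree] at h2
      exact_mod_cast h2
    have hall : ∀ ψ : IrrCharacter G, ψ ∈ principalBlock M G →
        charDegree (ψ : G → ℂ) % 23 = charDegree (χ : G → ℂ) % 23 →
        ∑ y : (P : Subgroup G), (ψ : G → ℂ) y = (charDegree (χ : G → ℂ) : ℤ) + (At : ℂ) := by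
      intro ψ hψ hres
      obtain ⟨τ, -, rfl⟩ := hexc ψ hψ hres
      simp only [galT_apply]
      rw [← map_sum, ht1, map_mul, map_natCast, map_natCast, hdt, hAt]
      push_cast
      simp
    refine ⟨At, hall χ hχmem rfl, by simp [h], fun e => by omega, fun e => by omega, fun e => by omega, ?_⟩
    intro h11
    -- the component sum of the family
    set T := Finset.univ.filter fun ψ : IrrCharacter G => ψ ∈ principalBlock M G ∧
      charDegree (ψ : G → ℂ) % 23 = 11 with hT
    have hTt : ∀ y : (P : Subgroup G), y ≠ 1 → ∑ ψ ∈ T, conj ((ψ : G → ℂ) y) = (-1 : ℂ) := by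
      intro y hy
      have hs := R.sum_phi (fun ψ => if ψ ∈ T then 1 else 0) (fun τ hτ ψ => by
        have hd' : charDegree (galT τ ψ : G → ℂ) = charDegree (ψ : G → ℂ) := by
          have h2 := DefOne.galT_one τ ψ
          rw [irr_one_eq_charDegree, irr_one_eq_charDegree] at h2
          exact_mod_cast h2
        have hb : galT τ ψ ∈ T ↔ ψ ∈ T := by
          simp only [hT, Finset.mem_filter, Finset.mem_univ, true_and, hd']
          constructor <;> (rintro ⟨-, hr⟩; refine ⟨M23Order.mem_principal K hV hM (fun h' => ?_), hr⟩)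
          · have := Nat.mod_eq_zero_of_dvd h'; omega
          · rw [hd'] at h'
            have := Nat.mod_eq_zero_of_dvd h'; omega
        simp only [hb]) y hy
      simp only [ite_mul, one_mul, zero_mul, mul_ite, mul_one, mul_zero] at hs
      rw [Finset.sum_ite_mem, Finset.univ_inter, Finset.sum_ite_mem] at hs
      rw [← Finset.sum_congr rfl fun ψ _ => congrArg conj (hphi ψ y), hs, if_neg ?_, zero_add]
      · have hST : S ∩ T = {t} := by
          ext ψ
          simp only [Finset.mem_inter, hT, Finset.mem_filter, Finset.mem_univ, true_and, Finset.mem_singleton]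
          refine ⟨fun ⟨hS', _, hr⟩ => ?_, fun e => ?_⟩
          · by_contra hne
            have h2 := R.congr ψ hS' hne
            rw [Int.ModEq] at h2
            rcases R.sign ψ hS' with s | s <;> rw [s] at h2 <;> omega
          · subst e; exact ⟨R.mem_t, R.block ψ R.mem_t, by omega⟩
        rw [hST, Finset.sum_singleton]
        have h2 := R.congr_t
        rw [Int.ModEq] at h2
        rcases R.sign t R.mem_t with s | s <;> rw [s] at h2 ⊢
        · omega
        · norm_num
      · simp only [hT, Finset.mem_filter, not_and]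
        intro _ _
        rw [show charDegree (principal G : G → ℂ) = 1 from Cfsg.Agent.CharX.charDegree_one]
        norm_num
    have htot : ((T.card : ℤ) * At : ℤ) = -22 := by
      have h2 : ∑ ψ ∈ T, ∑ y : (P : Subgroup G), (ψ : G → ℂ) y =
          (T.card : ℂ) * ((charDegree (χ : G → ℂ) : ℤ) + (At : ℂ)) := by
        rw [Finset.sum_congr rfl fun ψ hψ => hall ψ (Finset.mem_filter.1 hψ).2.1
          (by rw [(Finset.mem_filter.1 hψ).2.2, h11]), Finset.sum_const, nsmul_eq_mul]
      rw [Finset.sum_comm, ← Finset.add_sum_erase _ _ (Finset.mem_univ (1 : (P : Subgroup G))),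
        Finset.sum_congr rfl fun (y : (P : Subgroup G)) hy => show ∑ ψ ∈ T, (ψ : G → ℂ) (y : G) = -1 by
          have := congrArg conj (hTt y (Finset.ne_of_mem_erase hy))
          rw [map_sum, map_neg, map_one] at this
          simpa only [Complex.conj_conj] using this,
        OneMemClass.coe_one, Finset.sum_congr rfl fun (ψ : IrrCharacter G) hψ => show (ψ : G → ℂ) 1 =
            ((charDegree (χ : G → ℂ) : ℤ) : ℂ) by
          obtain ⟨τ, -, rfl⟩ := hexc ψ (Finset.mem_filter.1 hψ).2.1
            (by rw [(Finset.mem_filter.1 hψ).2.2, h11])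
          rw [DefOne.galT_one, irr_one_eq_charDegree, hdt]; norm_num,
        Finset.sum_const, Finset.sum_const, Finset.card_erase_of_mem (Finset.mem_univ _), Finset.card_univ,
        ← Nat.card_eq_fintype_card, hP23, nsmul_eq_mul, nsmul_eq_mul] at h2
      push_cast at h2
      have : (((T.card : ℤ) * At : ℤ) : ℂ) = ((-22 : ℤ) : ℂ) := by push_cast; linear_combination -h2
      exact_mod_cast this
    have hd22 : T.card ∣ 22 := Int.natCast_dvd_natCast.1 ⟨-At, by push_cast; linarith⟩
    have hmod : (At + (charDegree (χ : G → ℂ) : ℤ)) % 23 = 0 := by rw [hAt, hdt]; omega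
    have hle : T.card ≤ 22 := Nat.le_of_dvd (by norm_num) hd22
    interval_cases hc : T.card <;> omega

/-- The constituents of the permutation character on 276 points. -/
theorem perm276 {H : Subgroup G} (hH : H.index = 276) :
    ∃ (m : IrrCharacter G → ℕ) (A : IrrCharacter G → ℤ),
      ∑ χ ∈ (Finset.univ : Finset (IrrCharacter G)).erase (principal G), (m χ : ℤ) * charDegree (χ : G → ℂ) = 275 ∧
      ∑ χ ∈ (Finset.univ : Finset (IrrCharacter G)).erase (principal G), (m χ : ℤ) * A χ = -22 ∧
      ∀ χ : IrrCharacter G, (charDegree (χ : G → ℂ) % 23 ∈ ([0, 1, 22, 11, 12] : List ℕ)) ∧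
        (charDegree (χ : G → ℂ) % 23 = 0 → A χ = 0) ∧ (charDegree (χ : G → ℂ) % 23 = 1 → A χ = 22) ∧
        (charDegree (χ : G → ℂ) % 23 = 22 → A χ = -22) ∧ (charDegree (χ : G → ℂ) % 23 = 11 → A χ = -11) := by
  classical
  obtain ⟨P, hP, hsums⟩ := sums23 hG
  haveI : Fintype P := Fintype.ofFinite _
  haveI : Fintype (G ⧸ H) := Fintype.ofFinite _
  have hcardH : Nat.card H = 887040 := by
    have h := H.index_mul_card
    rw [hH, hG] at h
    omega
  choose A hA hres h0 h1 h22 h11 using hsums
  obtain ⟨m, hm⟩ := IsCharacter.exists_decomp (CharPerm.isCharacter_permChar (G := G) (Ω := G ⧸ H))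
  have hm1 : m (principal G) = 1 := by
    have h := CharPerm.classInner_permChar_one (G := G) (Ω := G ⧸ H)
    rw [hm, show (fun _ : G => (1 : ℂ)) = (principal G : G → ℂ) from rfl, classInner_combination] at h
    exact_mod_cast h
  have hval : ∀ g : G, CharPerm.permChar G (G ⧸ H) g =
      ∑ χ : IrrCharacter G, (m χ : ℂ) * (χ : G → ℂ) g := fun g => by
    rw [hm, Finset.sum_apply]; rfl
  -- the degree
  have hdeg : ∑ χ : IrrCharacter G, (m χ : ℤ) * charDegree (χ : G → ℂ) = 276 := by
    have h := hval 1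
    simp only [CharPerm.permChar, irr_one_eq_charDegree] at h
    rw [show Nat.card (MulAction.fixedBy (G ⧸ H) (1 : G)) = 276 by
      rw [show MulAction.fixedBy (G ⧸ H) (1 : G) = Set.univ from Set.eq_univ_of_forall fun x => one_smul G x,
        Nat.card_univ, ← hH]; rfl] at h
    exact_mod_cast h.symm
  -- the values at twenty-three
  have hP1 : ∀ y : P, y ≠ 1 → CharPerm.permChar G (G ⧸ H) y = 0 := by
    intro y hy
    have : IsEmpty (MulAction.fixedBy (G ⧸ H) (y : G)) := ⟨fun ⟨x, hx⟩ => by
      induction x using QuotientGroup.induction_on with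
      | H g =>
        rw [MulAction.mem_fixedBy, MulAction.Quotient.smul_mk, smul_eq_mul, eq_comm, QuotientGroup.eq] at hx
        have hy1 : (y : G) ≠ 1 := fun h => hy (Subtype.ext h)
        have ho : orderOf (g⁻¹ * ((y : G) * g)) = 23 := by
          have e : g⁻¹ * ((y : G) * g) = MulAut.conj g⁻¹ (y : G) := by simp [mul_assoc]
          rw [e, MulEquiv.orderOf_eq]
          exact ((Nat.dvd_prime (by norm_num)).1 (hP ▸ Subgroup.orderOf_dvd_natCard P y.2)).resolve_left
            (fun h => hy1 (orderOf_eq_one_iff.1 h))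
        have h := Subgroup.orderOf_dvd_natCard H hx
        rw [ho, hcardH] at h
        norm_num at h⟩
    simp [CharPerm.permChar]
  have hsum : ∑ χ : IrrCharacter G, (m χ : ℤ) * A χ = 0 := by
    have h : ∑ y : P, CharPerm.permChar G (G ⧸ H) y = 276 := by
      rw [← Finset.add_sum_erase _ _ (Finset.mem_univ (1 : P)),
        Finset.sum_eq_zero fun y hy => hP1 y (Finset.ne_of_mem_erase hy), add_zero, OneMemClass.coe_one,
        hval]
      simp only [irr_one_eq_charDegree]
      exact_mod_cast hdeg
    rw [Finset.sum_congr rfl fun (y : P) _ => hval (y : G), Finset.sum_comm] at h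
    simp only [← Finset.mul_sum] at h
    rw [Finset.sum_congr rfl fun χ _ => by rw [hA χ]] at h
    simp only [mul_add, Finset.sum_add_distrib] at h
    have hdegC : ∑ χ : IrrCharacter G, (m χ : ℂ) * (((charDegree (χ : G → ℂ) : ℤ)) : ℂ) = 276 := by
      exact_mod_cast hdeg
    rw [hdegC] at h
    have h' : ((∑ χ : IrrCharacter G, (m χ : ℤ) * A χ : ℤ) : ℂ) = ((0 : ℤ) : ℂ) := by
      push_cast; linear_combination h
    exact_mod_cast h'
  rw [← Finset.add_sum_erase _ _ (Finset.mem_univ (principal G))] at hdeg hsum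
  have hd1 : charDegree (principal G : G → ℂ) = 1 := Cfsg.Agent.CharX.charDegree_one
  have hA1 : A (principal G) = 22 := h1 _ (by rw [hd1])
  rw [hm1, hd1] at hdeg
  rw [hm1, hA1] at hsum
  refine ⟨m, A, ?_, ?_, fun χ => ⟨hres χ, h0 χ, h1 χ, h22 χ, h11 χ⟩⟩
  · push_cast at hdeg; linarith
  · push_cast at hsum; linarith

/-- A constituent of a permutation character on 276 points has one of the degrees of the search. -/
theorem constituent_cases {m : IrrCharacter G → ℕ}
    (hdeg : ∑ χ ∈ (Finset.univ : Finset (IrrCharacter G)).erase (principal G), (m χ : ℤ) * charDegree (χ : G → ℂ) = 275)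
    {χ : IrrCharacter G} (hne : χ ≠ principal G) (hm : 0 < m χ)
    (hres : charDegree (χ : G → ℂ) % 23 ∈ ([0, 1, 22, 11, 12] : List ℕ)) :
    2 ≤ charDegree (χ : G → ℂ) ∧ charDegree (χ : G → ℂ) ≤ 275 ∧ (charDegree (χ : G → ℂ) ∈ badDegs ∨
      (23 < charDegree (χ : G → ℂ) ∧ ((charDegree (χ : G → ℂ) % 23 = 0 ∨ charDegree (χ : G → ℂ) % 23 = 1) ∨
        charDegree (χ : G → ℂ) = 126 ∨ charDegree (χ : G → ℂ) = 252 ∨ charDegree (χ : G → ℂ) = 264))) := by
  have hf2 : 2 ≤ charDegree (χ : G → ℂ) := by
    have := charDegree_pos χ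
    have : charDegree (χ : G → ℂ) ≠ 1 := fun e => hne (eq_principal hG e)
    omega
  have hf275 : charDegree (χ : G → ℂ) ≤ 275 := by
    have h := Finset.single_le_sum (f := fun χ => (m χ : ℤ) * charDegree (χ : G → ℂ))
      (fun _ _ => by positivity) (Finset.mem_erase.2 ⟨hne, Finset.mem_univ χ⟩)
    have h' : (charDegree (χ : G → ℂ) : ℤ) ≤ (m χ : ℤ) * charDegree (χ : G → ℂ) :=
      le_mul_of_one_le_left (by positivity) (by exact_mod_cast hm)
    rw [hdeg] at h
    omega
  refine ⟨hf2, hf275, ?_⟩
  by_cases hb : charDegree (χ : G → ℂ) ∈ badDegs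
  · exact Or.inl hb
  right
  have h := List.all_eq_true.1 small_degs _ (mem_allDivs (deg_facts hG χ).2)
  simpa only [Bool.or_eq_true, Bool.not_eq_true', ← Bool.not_eq_true, Bool.and_eq_true, Nat.ble_eq,
      Nat.blt_eq, List.contains_eq_mem, decide_eq_true_eq, hf2, hf275, hres, hb, not_false_eq_true,
      and_self, not_true_eq_false, false_or, List.mem_cons, List.not_mem_nil, or_false] using h

/-- No subgroup of index 276 when the small degrees are excluded. -/
theorem no_index_276 (hbad : ∀ χ : IrrCharacter G, χ ≠ principal G → charDegree (χ : G → ℂ) ∉ badDegs)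
    {H : Subgroup G} (hH : H.index = 276) : False := by
  classical
  obtain ⟨m, A, hdeg, hsum, hfacts⟩ := perm276 hG hH
  set E := (Finset.univ : Finset (IrrCharacter G)).erase (principal G)
  set w : IrrCharacter G → ℤ := fun χ => (m χ : ℤ) * (11 * charDegree (χ : G → ℂ) + 126 * A χ) with hw
  have htot : ∑ χ ∈ E, w χ = 253 := by
    rw [Finset.sum_congr rfl fun χ _ => show w χ = 11 * ((m χ : ℤ) * charDegree (χ : G → ℂ)) +
      126 * ((m χ : ℤ) * A χ) by simp only [hw]; ring, Finset.sum_add_distrib, ← Finset.mul_sum,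
      ← Finset.mul_sum, hdeg, hsum]
    norm_num
  have hterm : ∀ χ ∈ E, w χ = 0 ∨ 264 ≤ w χ := by
    intro χ hχ
    rcases Nat.eq_zero_or_pos (m χ) with h | hpos
    · left; simp [hw, h]
    have hne := Finset.ne_of_mem_erase hχ
    obtain ⟨hres, h0, h1, h22, h11⟩ := hfacts χ
    obtain ⟨-, -, hb | ⟨h23, (h | h) | (h | h | h)⟩⟩ := constituent_cases hG hdeg hne hpos hres
    · exact absurd hb (hbad χ hne)
    · right; simp only [hw, h0 h]; nlinarith
    · right; simp only [hw, h1 h]; nlinarith
    · left; simp only [hw]; rw [h11 (by rw [h]), h]; norm_num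
    · left; simp only [hw]; rw [h22 (by rw [h]), h]; norm_num
    · right; simp only [hw]; rw [h11 (by rw [h]), h]; push_cast; nlinarith
  rcases em (∀ χ ∈ E, w χ = 0) with hz | hz
  · rw [Finset.sum_eq_zero hz] at htot; norm_num at htot
  · push Not at hz
    obtain ⟨χ, hχ, hne⟩ := hz
    have h1 := (hterm χ hχ).resolve_left hne
    have h2 := Finset.single_le_sum (f := w) (fun ψ hψ => by rcases hterm ψ hψ with e | e <;> omega) hχ
    omega

/-- No subgroup of index 276 when the degrees negative at twenty-three but one are excluded. -/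
theorem no_index_276_central (hbad : ∀ χ : IrrCharacter G, χ ≠ principal G →
      charDegree (χ : G → ℂ) ∉ ([11, 12, 22, 35, 45, 80, 126, 160, 252] : List ℕ))
    {H : Subgroup G} (hH : H.index = 276) : False := by
  classical
  obtain ⟨m, A, hdeg, hsum, hfacts⟩ := perm276 hG hH
  set E := (Finset.univ : Finset (IrrCharacter G)).erase (principal G)
  have htot : ∑ χ ∈ E, ((m χ : ℤ) * (charDegree (χ : G → ℂ) + 24 * A χ)) = -253 := by
    rw [Finset.sum_congr rfl fun χ _ => show (m χ : ℤ) * (charDegree (χ : G → ℂ) + 24 * A χ) =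
      (m χ : ℤ) * charDegree (χ : G → ℂ) + 24 * ((m χ : ℤ) * A χ) by ring, Finset.sum_add_distrib,
      ← Finset.mul_sum, hdeg, hsum]
    norm_num
  have hterm : ∀ χ ∈ E, 0 ≤ (m χ : ℤ) * (charDegree (χ : G → ℂ) + 24 * A χ) := by
    intro χ hχ
    rcases Nat.eq_zero_or_pos (m χ) with h | hpos
    · simp [h]
    have hne := Finset.ne_of_mem_erase hχ
    have hb' := hbad χ hne
    obtain ⟨hres, h0, h1, h22, h11⟩ := hfacts χ
    refine mul_nonneg (by positivity) ?_
    obtain ⟨-, -, hb | ⟨-, (h | h) | (h | h | h)⟩⟩ := constituent_cases hG hdeg hne hpos hres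
    · simp only [badDegs, List.mem_cons, List.not_mem_nil, or_false] at hb hb'
      rw [h0 (by omega)]; omega
    · rw [h0 h]; positivity
    · rw [h1 h]; positivity
    · exact absurd (by rw [h]; simp) hb'
    · exact absurd (by rw [h]; simp) hb'
    · rw [h11 (by rw [h]), h]; norm_num
  have := Finset.sum_nonneg hterm
  omega

end Cfsg.Agent.M24Order
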