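import Mathlib.Algebra.BigOperators.Group.Multiset.Basic
import Mathlib.Tactic

/-!
Exhaustive searches over multisets of degrees and products of lists of values, for the step at eleven
in a group of order 244823040.
-/

namespace Cfsg.Agent.M24Order

/-- `Q` holds for some listing of every multiset of `k` members of a list. -/
def allMs {α : Type*} : ℕ → List α → (List α → Bool) → Bool
  | 0, _, Q => Q []
  | k + 1, opts, Q => opts.tails.all fun tl => match tl with
    | [] => true
    | o :: _ => allMs k tl fun l => Q (o :: l)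

theorem exists_first {α : Type*} {s : Multiset α} : ∀ {opts : List α}, (∀ x ∈ s, x ∈ opts) → s ≠ 0 →
    ∃ tl ∈ opts.tails, ∃ o r, tl = o :: r ∧ o ∈ s ∧ ∀ x ∈ s, x ∈ tl
  | [], h, h0 => by
    obtain ⟨x, hx⟩ := Multiset.exists_mem_of_ne_zero h0
    exact absurd (h x hx) (by simp)
  | a :: l, h, h0 => by
    by_cases ha : a ∈ s
    · exact ⟨a :: l, by simp, a, l, rfl, ha, h⟩
    · obtain ⟨tl, htl, rest⟩ := exists_first (opts := l) (fun x hx => by
        rcases List.mem_cons.1 (h x hx) with rfl | hxl
        · exact absurd hx ha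
        · exact hxl) h0
      exact ⟨tl, by rw [List.tails_cons]; exact List.mem_cons_of_mem _ htl, rest⟩

theorem allMs_sound {α : Type*} : ∀ {k : ℕ} {opts : List α} {Q : List α → Bool}, allMs k opts Q = true →
    ∀ s : Multiset α, s.card = k → (∀ x ∈ s, x ∈ opts) → ∃ l : List α, (l : Multiset α) = s ∧ Q l = true
  | 0, _, Q, h, s, hs, _ => ⟨[], by rw [Multiset.card_eq_zero.1 hs]; rfl, h⟩
  | k + 1, opts, Q, h, s, hs, hsub => by
    obtain ⟨tl, htl, o, r, rfl, ho, hin⟩ := exists_first hsub (fun h0 => by rw [h0] at hs; simp at hs)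
    obtain ⟨s', rfl⟩ := Multiset.exists_cons_of_mem ho
    have h1 := List.all_eq_true.1 h _ htl
    obtain ⟨l, rfl, hl⟩ := allMs_sound h1 s' (by simpa using hs) fun x hx => hin x (Multiset.mem_cons_of_mem hx)
    exact ⟨o :: l, rfl, hl⟩

/-- A listing of the image of a multiset is the image of a listing. -/
theorem exists_listing {α β : Type*} [DecidableEq α] (F : α → β) : ∀ (l : List β) (s : Multiset α),
    (l : Multiset β) = s.map F → ∃ L : List α, (L : Multiset α) = s ∧ L.map F = l
  | [], s, h => ⟨[], by rw [Multiset.coe_nil, eq_comm, Multiset.map_eq_zero] at h; rw [h]; rfl, rfl⟩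
  | b :: l, s, h => by
    rw [← Multiset.cons_coe, eq_comm, ← Multiset.map_eq_cons] at h
    obtain ⟨a, ha, hFa, h'⟩ := h
    obtain ⟨L, hL, hLl⟩ := exists_listing F l (s.erase a) h'.symm
    exact ⟨a :: L, by rw [← Multiset.cons_coe, hL, Multiset.cons_erase ha], by rw [List.map_cons, hFa, hLl]⟩

/-- `Q` holds for every choice of one member from each list. -/
def allProd {α : Type*} : List (List α) → (List α → Bool) → Bool
  | [], Q => Q []
  | L :: Ls, Q => L.all fun a => allProd Ls fun l => Q (a :: l)

theorem allProd_sound {α β : Type*} (val : β → α) (opts : β → List α) : ∀ (L : List β) {Q : List α → Bool},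
    allProd (L.map opts) Q = true → (∀ x ∈ L, val x ∈ opts x) → Q (L.map val) = true
  | [], _, h, _ => h
  | b :: L, _, h, hv =>
    allProd_sound val opts L (List.all_eq_true.1 h _ (hv b (by simp))) fun x hx => hv x (List.mem_cons_of_mem b hx)

end Cfsg.Agent.M24Order
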