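import Cfsg.Agent.Lib.M22Uniq.Setup
import Cfsg.Agent.Lib.M23Order.Tools
import Cfsg.Agent.Lib.M23Uniq.Locals

/-!
A simple group of order 244823040: generalities.
-/

set_option linter.unusedSectionVars false
set_option linter.style.haveILetI false

namespace Cfsg.Agent.M24Order

open Cfsg Cfsg.Agent.Char Cfsg.Agent.Blocks Cfsg.Agent.CCSylow Cfsg.Agent.DefOne

open scoped ComplexConjugate

universe u

variable {G : Type u} [Group G] [Fintype G]

section Order

variable [IsSimpleGroup G] (hG : Nat.card G = 244823040)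

include hG

theorem not_prime : ¬ (Nat.card G).Prime := by rw [hG]; norm_num

theorem perfect (f : G →* ℂˣ) : f = 1 := DefOne.Order7920.hom_eq_one (not_prime hG) f

theorem deg_facts (χ : IrrCharacter G) :
    charDegree (χ : G → ℂ) ≤ 15646 ∧ charDegree (χ : G → ℂ) ∣ 244823040 := by
  classical
  refine ⟨?_, hG ▸ charDegree_dvd_card χ⟩
  have h := Finset.single_le_sum (f := fun χ : IrrCharacter G => charDegree (χ : G → ℂ) ^ 2)
    (fun _ _ => Nat.zero_le _) (Finset.mem_univ χ)
  rw [Cfsg.Agent.CharX.sum_deg_sq, hG] at h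
  nlinarith

theorem eq_principal {χ : IrrCharacter G} (h : charDegree (χ : G → ℂ) = 1) : χ = principal G :=
  DefOne.Order7920.eq_principal_of_deg_one (not_prime hG) h

theorem norm_ne {χ : IrrCharacter G} (hne : χ ≠ principal G) {g : G} (hg : g ≠ 1) :
    ‖(χ : G → ℂ) g‖ ≠ (charDegree (χ : G → ℂ) : ℝ) := DefOne.Order7920.norm_ne (not_prime hG) hne hg

/-- The value of a nontrivial character at an involution. -/
theorem involution_range {χ : IrrCharacter G} (hne : χ ≠ principal G) {t : G} (ht : orderOf t = 2) :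
    ∃ a : ℤ, (χ : G → ℂ) t = a ∧ (4 : ℤ) ∣ (charDegree (χ : G → ℂ) : ℤ) - a ∧
      |a| < (charDegree (χ : G → ℂ) : ℤ) := by
  have htt : t * t = 1 := by rw [← pow_two, ← ht, pow_orderOf_eq_one]
  have ht1 : t ≠ 1 := fun h => by rw [h, orderOf_one] at ht; omega
  obtain ⟨a, ha, h4, hle⟩ := M12Uniq.involution_mod_four (perfect hG) (IsIrrCharacter.isCharacter χ.2)
    (irr_one_eq_charDegree χ) htt
  refine ⟨a, ha, h4, lt_of_le_of_ne hle fun he => ?_⟩
  have h := norm_ne hG hne ht1
  rw [ha, Complex.norm_intCast, ← Int.cast_abs, he, Int.cast_natCast] at h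
  exact h rfl

/-- A Sylow configuration at a prime dividing the order once. -/
theorem exists_config {p : ℕ} [Fact p.Prime] (h1 : p ∣ 244823040) (h2 : ¬ p ^ 2 ∣ 244823040) :
    ∃ (P : Sylow p G) (V : Subgroup G) (e : ℕ),
      Conf p (P : Subgroup G) V (Subgroup.normalizer ((P : Subgroup G) : Set G)) e ∧
      e ∣ p - 1 ∧ ∃ n, 1 < n ∧ n % p = 1 ∧ n * (e * (p * Nat.card V)) = 244823040 := by
  have hp : p.Prime := Fact.out
  obtain ⟨P⟩ : Nonempty (Sylow p G) := inferInstance
  have hfac : (Nat.card G).factorization p = 1 := by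
    rw [hG]
    have a1 := (hp.dvd_iff_one_le_factorization (by norm_num : (244823040 : ℕ) ≠ 0)).1 h1
    have a2 : ¬ 2 ≤ (244823040 : ℕ).factorization p := fun h =>
      h2 ((hp.pow_dvd_iff_le_factorization (by norm_num)).2 h)
    omega
  have hP : Nat.card P = p := by rw [Sylow.card_eq_multiplicity, hfac, pow_one]
  obtain ⟨V, e, K, -⟩ := exists_conf hp P hP
  refine ⟨P, V, e, K, ?_, (Subgroup.normalizer ((P : Subgroup G) : Set G)).index, ?_, ?_, ?_⟩
  · haveI : Fintype ((P : Subgroup G) →* ℂˣ) := Fintype.ofFinite _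
    have := dvd_card_sub_one K.D
    rwa [K.hP] at this
  · have h0 : (Subgroup.normalizer ((P : Subgroup G) : Set G)).index ≠ 0 :=
      Subgroup.index_ne_zero_of_finite
    refine lt_of_le_of_ne (Nat.one_le_iff_ne_zero.2 h0) fun h => ?_
    have hn : (P : Subgroup G).Normal :=
      Subgroup.normalizer_eq_top_iff.1 (Subgroup.index_eq_one.1 h.symm)
    rcases hn.eq_bot_or_eq_top with e' | e'
    · rw [e', Subgroup.card_bot] at hP; exact hp.ne_one hP.symm
    · rw [e', Subgroup.card_top, hG] at hP; subst hP; norm_num at hp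
  · have h := card_sylow_modEq_one p G
    rw [P.card_eq_index_normalizer] at h
    exact Nat.mod_eq_of_modEq h hp.one_lt
  · have h := (Subgroup.normalizer ((P : Subgroup G) : Set G)).index_mul_card
    rwa [K.D.hcard, K.hP, hG] at h

end Order

/-- A subgroup containing a Sylow subgroup: the part outside its normalizer is `1` modulo the prime. -/
theorem index_part {p : ℕ} [Fact p.Prime] (P : Sylow p G) {M : Subgroup G} (hPM : (P : Subgroup G) ≤ M) :
    ∃ a : ℕ, Nat.card M = a * Nat.card (Subgroup.normalizer ((P : Subgroup G) : Set G) ⊓ M : Subgroup G) ∧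
      a % p = 1 := by
  classical
  have e1 : Subgroup.normalizer (((P.subtype hPM : Sylow p M) : Subgroup M) : Set M) =
      (Subgroup.normalizer ((P : Subgroup G) : Set G)).subgroupOf M := by
    rw [Subgroup.subgroupOf_normalizer_eq hPM, Sylow.coe_subtype]
  refine ⟨(Subgroup.normalizer ((P : Subgroup G) : Set G)).relIndex M, ?_, ?_⟩
  · rw [← Subgroup.inf_relIndex_right]
    exact (Subgroup.card_eq_card_quotient_mul_card_subgroup
      ((Subgroup.normalizer ((P : Subgroup G) : Set G) ⊓ M).subgroupOf M)).trans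
      (by rw [Nat.card_congr (Subgroup.subgroupOfEquivOfLe inf_le_right).toEquiv]; rfl)
  · have h := card_sylow_modEq_one p M
    rw [(P.subtype hPM).card_eq_index_normalizer] at h
    change (Subgroup.normalizer (((P.subtype hPM : Sylow p M) : Subgroup M) : Set M)).index ≡ 1 [MOD p] at h
    rw [e1] at h
    exact Nat.mod_eq_of_modEq h (Fact.out : p.Prime).one_lt

/-- An element of prime order whose powers normalize a subgroup of `2`-power order centralizes an
involution of it, if the order is at most `2 ^ m` and `p` divides no `2 ^ j - 1` with `1 ≤ j ≤ m`. -/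
theorem exists_fixed_involution {p m : ℕ} [Fact p.Prime] {T : Subgroup G} {h : G} (hh : orderOf h = p)
    (hN : h ∈ Subgroup.normalizer (T : Set G)) {j : ℕ} (hT : Nat.card T = 2 ^ j) (hj : 1 ≤ j) (hjm : j ≤ m)
    (hp : ∀ i ≤ m, 1 ≤ i → ¬ p ∣ 2 ^ i - 1) :
    ∃ i ∈ T, orderOf i = 2 ∧ h * i = i * h := by
  classical
  have hq : ∀ a g, a ∈ Subgroup.zpowers h → (g ∈ T ∧ g ≠ 1) → (a * g * a⁻¹ ∈ T ∧ a * g * a⁻¹ ≠ 1) :=
    fun a g ha hg => ⟨(Subgroup.mem_normalizer_iff.1 (Subgroup.zpowers_le.2 hN ha) g).1 hg.1,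
      fun e => hg.2 (by rwa [conj_eq_one_iff] at e)⟩
  have hmod := M23Uniq.fixed_modEq hh (fun g => g ∈ T ∧ g ≠ 1) hq
  have hcard : Nat.card {g : G // g ∈ T ∧ g ≠ 1} = 2 ^ j - 1 := by
    rw [← hT, Nat.card_eq_fintype_card, Nat.card_eq_fintype_card,
      Fintype.card_congr (Equiv.subtypeSubtypeEquivSubtypeInter (fun g => g ∈ T) (fun g => g ≠ 1)).symm,
      Fintype.card_congr (Equiv.subtypeEquivRight (q := fun g : T => ¬ g = 1) fun g => by simp),
      Fintype.card_subtype_compl, Fintype.card_subtype_eq]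
  rw [hcard] at hmod
  by_cases h0 : Nat.card {g : G // (g ∈ T ∧ g ≠ 1) ∧ h * g = g * h} = 0
  · rw [h0] at hmod
    exact absurd (Nat.modEq_zero_iff_dvd.1 hmod) (hp j hjm hj)
  · obtain ⟨⟨g, ⟨hgT, hg1⟩, hc⟩⟩ := (Nat.card_ne_zero.1 h0).1
    obtain ⟨l, -, hl⟩ := (Nat.dvd_prime_pow Nat.prime_two).1 (hT ▸ Subgroup.orderOf_dvd_natCard T hgT)
    have hl1 : 1 ≤ l := Nat.one_le_iff_ne_zero.2 fun e => hg1 (orderOf_eq_one_iff.1 (by rw [hl, e, pow_zero]))
    refine ⟨g ^ 2 ^ (l - 1), pow_mem hgT _, ?_, (Commute.pow_right (hc : Commute h g) _).eq⟩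
    rw [orderOf_pow_of_dvd (by positivity) (by rw [hl]; exact pow_dvd_pow 2 (by omega)), hl,
      Nat.pow_div (by omega) (by norm_num), show l - (l - 1) = 1 by omega, pow_one]

end Cfsg.Agent.M24Order
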