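import Cfsg.Agent.Lib.M24Order.ElevenQuotSearch
import Cfsg.Agent.Lib.M24Order.Setup
import Cfsg.Agent.Lib.M23Order.Rows
import Cfsg.Agent.Lib.M11Local.Setup

/-!
In a group of order 147840 an involution centralized by the normalizer of a Sylow 11-subgroup, of order
220, with centralizer of the subgroup of order 22, is central.
-/

set_option linter.unusedSectionVars false
set_option linter.style.haveILetI false

namespace Cfsg.Agent.M24Order

open Cfsg Cfsg.Agent.Char Cfsg.Agent.Blocks Cfsg.Agent.CCSylow Cfsg.Agent.DefOne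
open Cfsg.Agent.M23Order (Rows exists_rows)

open scoped ComplexConjugate

universe u

/-- An involution centralizing a Sylow 11-subgroup with centralizer of order 22 and normalizer of order 220
in a group of order 147840 is central. -/
theorem central_of_quot {Q : Type u} [Group Q] [Fintype Q] (hQ : Nat.card Q = 147840) (P : Sylow 11 Q) {t : Q}
    (ht : orderOf t = 2) (htC : t ∈ Subgroup.centralizer ((P : Subgroup Q) : Set Q))
    (hC : Nat.card (Subgroup.centralizer ((P : Subgroup Q) : Set Q)) = 22)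
    (hN : Nat.card (Subgroup.normalizer ((P : Subgroup Q) : Set Q)) = 220) : t ∈ Subgroup.center Q := by
  classical
  haveI : Fact (Nat.Prime 11) := ⟨by norm_num⟩
  haveI : Fact (Nat.Prime 2) := ⟨Nat.prime_two⟩
  have hfac : (Nat.card Q).factorization 11 = 1 := by
    rw [hQ]
    have a1 := ((Fact.out : Nat.Prime 11).dvd_iff_one_le_factorization
      (by norm_num : (147840 : ℕ) ≠ 0)).1 (by norm_num)
    have a2 : ¬ 2 ≤ (147840 : ℕ).factorization 11 := fun h => absurd
      (((Fact.out : Nat.Prime 11).pow_dvd_iff_le_factorization (by norm_num)).2 h) (by norm_num)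
    omega
  have hP : Nat.card P = 11 := by rw [P.card_eq_multiplicity, hfac, pow_one]
  obtain ⟨V, e, K, -⟩ := exists_conf (by norm_num) P hP
  haveI : Fintype (P : Subgroup Q) := Fintype.ofFinite _
  haveI : Fintype V := Fintype.ofFinite _
  haveI : Fintype (Subgroup.normalizer ((P : Subgroup Q) : Set Q)) := Fintype.ofFinite _
  haveI : Fintype ((P : Subgroup Q) →* ℂˣ) := Fintype.ofFinite _
  set N := Subgroup.normalizer ((P : Subgroup Q) : Set Q) with hNdef
  have hV : Nat.card V = 2 := by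
    have h := card_centralizer K
    rw [hC] at h
    omega
  obtain rfl : e = 10 := by
    have h := hN
    rw [K.D.hcard, K.hP, hV] at h
    omega
  -- `t` generates the complement
  have htt : t * t = 1 := by rw [← pow_two, ← ht, pow_orderOf_eq_one]
  have ht1 : t ≠ 1 := fun h => by rw [h, orderOf_one] at ht; omega
  have htV : t ∈ V := by
    obtain ⟨y, hy, v, hv, hyv⟩ := (K.hC t).1 htC
    have hc : Commute y v := K.D.pv _ hy _ hv
    have hv2 : v ^ 2 = 1 := by
      have h := pow_card_eq_one' (x := (⟨v, hv⟩ : V))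
      rw [hV] at h
      exact congrArg Subtype.val h
    have hy11 : y ^ 11 = 1 := by
      have h := pow_card_eq_one' (x := (⟨y, hy⟩ : (P : Subgroup Q)))
      rw [hP] at h
      exact congrArg Subtype.val h
    have h11 : t = v := by
      calc t = t ^ 11 := by
            rw [show 11 = 2 * 5 + 1 from rfl, pow_succ, pow_mul, pow_two, htt, one_pow, one_mul]
        _ = y ^ 11 * v ^ 11 := by rw [← hyv, hc.mul_pow]
        _ = v := by rw [hy11, one_mul, show 11 = 2 * 5 + 1 from rfl, pow_succ, pow_mul, hv2, one_pow, one_mul]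
    rw [h11]; exact hv
  have hVel : ∀ v ∈ V, v = 1 ∨ v = t := by
    intro v hv
    by_contra h
    push Not at h
    have h3 : ({1, t, v} : Finset Q).card ≤ 2 := by
      rw [← hV, Nat.card_eq_fintype_card, ← Finset.card_univ]
      refine Finset.card_le_card_of_injOn (fun g => if hg : g ∈ V then (⟨g, hg⟩ : V) else 1)
        (fun g _ => Finset.mem_univ _) ?_
      intro a ha b hb hab
      have hmem : ∀ g ∈ (({1, t, v} : Finset Q) : Set Q), g ∈ V := by
        intro g hg
        simp only [Finset.coe_insert, Finset.coe_singleton, Set.mem_insert_iff, Set.mem_singleton_iff] at hg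
        rcases hg with rfl | rfl | rfl <;> first | exact one_mem V | assumption
      simp only [dif_pos (hmem a ha), dif_pos (hmem b hb)] at hab
      exact congrArg Subtype.val hab
    rw [Finset.card_eq_three.2 ⟨1, t, v, ht1.symm, fun e => h.1 e.symm, fun e => h.2 e.symm, rfl⟩] at h3
    omega
  have hNC : N ≤ Subgroup.centralizer ({t} : Set Q) := by
    intro w hw
    rw [Subgroup.mem_centralizer_singleton_iff]
    rcases hVel _ (K.D.hNV w hw t htV) with h | h
    · exact absurd (conj_eq_one_iff.1 h) ht1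
    · exact mul_inv_eq_iff_eq_mul.1 h
  have hPC : (P : Subgroup Q) ≤ Subgroup.centralizer ({t} : Set Q) :=
    le_trans Subgroup.le_normalizer hNC
  obtain ⟨n, hCn, hn11⟩ := index_part P hPC
  rw [inf_eq_left.2 hNC, hN] at hCn
  set C := Nat.card (Subgroup.centralizer ({t} : Set Q)) with hCdef
  have hdvd : n ∣ 672 := by
    have h : n * 220 ∣ 147840 := hCn ▸ hQ ▸ Subgroup.card_subgroup_dvd_card _
    exact Nat.dvd_of_mul_dvd_mul_right (by norm_num : 0 < 220) (by simpa using h)
  by_cases hn672 : n = 672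
  · have htop : Subgroup.centralizer ({t} : Set Q) = ⊤ :=
      Subgroup.eq_top_of_card_eq _ (by rw [← hCdef, hCn, hn672, hQ])
    rw [Subgroup.mem_center_iff]
    intro g
    exact Subgroup.mem_centralizer_singleton_iff.1 (htop ▸ Subgroup.mem_top g)
  obtain ⟨M, hM⟩ := exists_isPModular_witness 11
  haveI := IsPModular.isPrime hM
  obtain ⟨k, S, c, s, R⟩ := exists_rows hM (by norm_num) K
  obtain rfl : k = 1 := by have := R.ek; omega
  have hpt : ¬ 11 ∣ orderOf t := by rw [ht]; norm_num
  have hval : ∀ χ : IrrCharacter Q, ∃ a : ℤ, (χ : Q → ℂ) t = a ∧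
      (2 : ℤ) ∣ a - charDegree (χ : Q → ℂ) ∧ |a| ≤ (charDegree (χ : Q → ℂ) : ℤ) := by
    intro χ
    obtain ⟨a, ha, h2⟩ := M11Local.involution_value (IsIrrCharacter.isCharacter χ.2) ht (irr_one_eq_charDegree χ)
    refine ⟨a, ha, h2, ?_⟩
    obtain ⟨m, ρ, hρ⟩ := IsIrrCharacter.isCharacter χ.2
    have h4 := Cfsg.Agent.Char.norm_char_le ρ t
    have hn' := irr_one_eq_charDegree χ
    have hn'' : (Module.finrank ℂ (Fin m → ℂ) : ℂ) = (charDegree (χ : Q → ℂ) : ℂ) := by
      rw [← hn', ← hρ, Representation.char_one]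
    rw [show Module.finrank ℂ (Fin m → ℂ) = charDegree (χ : Q → ℂ) by exact_mod_cast hn'',
      congrFun hρ t, ha, Complex.norm_intCast] at h4
    exact_mod_cast h4
  choose a ha ha2 hale using hval
  -- the relations
  have hD : 1 + ∑ χ ∈ S, c χ * (charDegree (χ : Q → ℂ) : ℤ) = 0 := by
    have h := R.relation 1 (by norm_num)
    simp only [irr_one_eq_charDegree] at h
    exact_mod_cast h
  have hL : 1 + ∑ χ ∈ S, c χ * a χ = 0 := by
    have h := R.relation t hpt
    rw [Finset.sum_congr rfl fun χ _ => by rw [ha χ]] at h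
    exact_mod_cast h
  have hq := R.norm t hpt a fun χ _ => ha χ
  have hd := R.norm 1 (by norm_num) (fun χ => (charDegree (χ : Q → ℂ) : ℤ))
    (fun χ _ => by rw [irr_one_eq_charDegree]; push_cast; rfl)
  rw [show Nat.card (Subgroup.centralizer ({(1 : Q)} : Set Q)) = 147840 by
    rw [← hQ, Subgroup.centralizer_eq_top_iff_subset.2 (by simp), Subgroup.card_top]] at hd
  simp only [Nat.cast_one, sub_self, zero_mul, add_zero, ← hCdef] at hq hd
  -- the count of pairs
  obtain ⟨y, hy⟩ := exists_ne_one_P K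
  choose m hm using fun w : V => M12Uniq.structure_count t t ((y : Q) * w)
  have hW : ((∑ w : V, m w : ℕ) : ℚ) * ((C : ℚ) * C) = (147840 * 2 : ℚ) *
      (1 + ∑ χ ∈ S, (c χ : ℚ) * ((a χ : ℚ) * a χ) / (charDegree (χ : Q → ℂ) : ℕ)) := by
    have key : ((∑ w : V, m w : ℕ) : ℂ) * ((C : ℂ) * C) = (147840 * 2 : ℂ) *
        (1 + ∑ χ ∈ S, (c χ : ℂ) * ((χ : Q → ℂ) t * (χ : Q → ℂ) t / (χ : Q → ℂ) 1)) := by
      have h1 := R.sum_phi (fun χ => (χ : Q → ℂ) t * (χ : Q → ℂ) t / (χ : Q → ℂ) 1) (fun σ hσ χ => by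
        rw [galT_apply, galT_one, irr_regular_fixed hσ χ hpt]) y hy
      have hp1 : (principal Q : Q → ℂ) t * (principal Q : Q → ℂ) t / (principal Q : Q → ℂ) 1 = 1 := by
        simp [principal]
      rw [hp1] at h1
      rw [← h1, Nat.cast_sum, Finset.sum_mul]
      have hphi : ∀ χ : IrrCharacter Q, (χ : Q → ℂ) t * (χ : Q → ℂ) t / (χ : Q → ℂ) 1 *
          conj (phi (χ : Q → ℂ) (trivB V) y) = (2 : ℂ)⁻¹ * ∑ w : V,
            (χ : Q → ℂ) t * (χ : Q → ℂ) t * conj ((χ : Q → ℂ) ((y : Q) * w)) / (χ : Q → ℂ) 1 := by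
        intro χ
        rw [phi, map_mul, map_inv₀, map_natCast, map_sum, Finset.mul_sum, Finset.mul_sum, Finset.mul_sum, hV]
        refine Finset.sum_congr rfl fun w _ => ?_
        rw [map_mul, Complex.conj_conj, show (trivB V : V → ℂ) w = 1 from rfl]
        push_cast
        ring
      rw [Finset.sum_congr rfl fun χ _ => hphi χ, ← Finset.mul_sum, Finset.sum_comm, mul_assoc,
        mul_inv_cancel_left₀ (two_ne_zero), Finset.mul_sum]
      refine Finset.sum_congr rfl fun w _ => ?_
      have h := hm w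
      rw [hQ, ← hCdef] at h
      exact_mod_cast h
    have h2 : (((((∑ w : V, m w : ℕ) : ℚ) * ((C : ℚ) * C)) : ℚ) : ℂ) = (((147840 * 2 : ℚ) *
        (1 + ∑ χ ∈ S, (c χ : ℚ) * ((a χ : ℚ) * a χ) / (charDegree (χ : Q → ℂ) : ℕ)) : ℚ) : ℂ) := by
      push_cast at key ⊢
      rw [key]
      congr 2
      exact Finset.sum_congr rfl fun χ _ => by rw [ha χ, irr_one_eq_charDegree]; ring
    exact_mod_cast h2
  -- the members
  have hn3 : n = 1 ∨ n = 12 ∨ n = 56 := by
    have hle : n ≤ 672 := Nat.le_of_dvd (by norm_num) hdvd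
    have : ∀ n < 673, n ∣ 672 → n % 11 = 1 → n = 1 ∨ n = 12 ∨ n = 56 ∨ n = 672 := by decide +kernel
    rcases this n (by omega) hdvd hn11 with h | h | h | h <;> omega
  have hdead : qDeadAt n = true := by
    rcases hn3 with rfl | rfl | rfl
    exacts [qdead_one, qdead_twelve, qdead_fiftysix]
  have hidx : (Subgroup.centralizer ({t} : Set Q)).index = 672 / n := by
    have h := (Subgroup.centralizer ({t} : Set Q)).index_mul_card
    rw [← hCdef, hCn, hQ] at h
    rcases hn3 with rfl | rfl | rfl <;> omega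
  have hmem : ∀ χ ∈ S, (⟨charDegree (χ : Q → ℂ), c χ, a χ⟩ : Tm) ∈ qOps n ∧
      (c χ = 1 ∨ c χ = -1) := by
    intro χ hχ
    refine ⟨?_, R.sign χ hχ⟩
    have hmod : (charDegree (χ : Q → ℂ) : ℤ) ≡ c χ [ZMOD 11] := by
      by_cases hs : χ = s
      · subst hs
        refine R.congr_t.trans ?_
        rw [Int.modEq_iff_dvd]
        exact ⟨c χ, by push_cast; ring⟩
      · exact R.congr χ hχ hs
    have hsg : c χ = sgP 11 (charDegree (χ : Q → ℂ)) ∧
        (charDegree (χ : Q → ℂ) % 11 = 1 ∨ charDegree (χ : Q → ℂ) % 11 = 10) := by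
      rw [sgP]
      rcases R.sign χ hχ with h | h <;> rw [h] at hmod ⊢ <;> rw [Int.ModEq] at hmod
      · exact ⟨by rw [if_pos (by omega)], Or.inl (by omega)⟩
      · exact ⟨by rw [if_neg (by omega)], Or.inr (by omega)⟩
    refine mem_order (List.mem_flatMap.2 ⟨_, ?_, List.mem_map.2 ⟨a χ, ?_, by rw [← hsg.1]⟩⟩)
    · have hdv : charDegree (χ : Q → ℂ) ∣ 147840 := hQ ▸ charDegree_dvd_card χ
      have hpos := charDegree_pos χ
      have hlt : charDegree (χ : Q → ℂ) < 385 := by
        have h1 := Finset.single_le_sum (f := fun χ : IrrCharacter Q => (charDegree (χ : Q → ℂ) : ℤ) ^ 2)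
          (fun _ _ => sq_nonneg _) hχ
        by_contra h
        push Not at h
        have : (385 : ℤ) ≤ (charDegree (χ : Q → ℂ) : ℤ) := by exact_mod_cast h
        push_cast at hd
        nlinarith
      refine List.mem_filter.2 ⟨List.mem_range.2 hlt, ?_⟩
      simp only [Bool.and_eq_true, Bool.or_eq_true, Nat.ble_eq, Nat.beq_eq]
      exact ⟨⟨hpos, Nat.mod_eq_zero_of_dvd hdv⟩, hsg.2⟩
    · refine mem_qVals (hale χ) ?_ ?_ ?_
      · have h11 := M23Order.dvd_sub_value K hM (R.block χ hχ) htV (ha χ)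
        have h2 := ha2 χ
        omega
      · rw [← hidx]; exact M12Uniq.dvd_index_mul χ (ha χ)
      · have h1 := Finset.single_le_sum (f := fun χ => a χ ^ 2) (fun _ _ => sq_nonneg _) hχ
        have : (C : ℤ) = ((220 * n : ℕ) : ℤ) := by exact_mod_cast (hCn.trans (mul_comm _ _))
        rw [← this, ← pow_two]
        linarith
  have hC' : C = 220 * n := hCn.trans (mul_comm _ _)
  have hfull : ∀ χ ∈ S, a χ = (charDegree (χ : Q → ℂ) : ℤ) := by
    have h := qdead_sound (st := ⟨1, 1, 1, 1, 1, 1, true⟩) hdead Nat.one_pos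
      (S.val.map fun χ : IrrCharacter Q => (⟨charDegree (χ : Q → ℂ), c χ, a χ⟩ : Tm))
      (by rw [Multiset.card_map, Finset.card_val, R.card])
      (fun x hx => by obtain ⟨χ, hχ, rfl⟩ := Multiset.mem_map.1 hx; exact (hmem χ hχ).1)
      (fun x hx => by obtain ⟨χ, hχ, rfl⟩ := Multiset.mem_map.1 hx; exact (hmem χ hχ).2)
      (fun x hx => by obtain ⟨χ, hχ, rfl⟩ := Multiset.mem_map.1 hx; exact charDegree_pos χ)
      (by rw [Multiset.map_map]; exact hD) (by rw [Multiset.map_map]; exact hL)
      (by rw [Multiset.map_map]; change _ + ∑ χ ∈ S, a χ * a χ ≤ _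
          rw [← hC']; simpa only [← sq, Nat.cast_one] using hq)
      (by rw [Multiset.map_map]
          change _ + ∑ χ ∈ S, (charDegree (χ : Q → ℂ) : ℤ) * charDegree (χ : Q → ℂ) ≤ _
          simpa only [← sq, Nat.cast_one, Nat.cast_ofNat] using hd)
      (∑ w : V, m w) (by
        rw [Multiset.map_map, ← hC', hW]
        simp only [Function.comp_def, Int.cast_one, Nat.cast_one, div_one]
        rfl)
    intro χ hχ
    exact h.2 _ (Multiset.mem_map.2 ⟨χ, hχ, rfl⟩)
  -- the common kernel of the rows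
  choose Kr hKn hKmem hKmul using fun χ : IrrCharacter Q =>
    IsCharacter.exists_kernel (IsIrrCharacter.isCharacter χ.2)
  set R₀ : Subgroup Q := ⨅ χ ∈ S, Kr χ with hR₀
  haveI hR₀n : R₀.Normal := by
    refine Subgroup.normal_iInf_normal fun χ => Subgroup.normal_iInf_normal fun _ => hKn χ
  have htR : t ∈ R₀ := by
    simp only [hR₀, Subgroup.mem_iInf]
    intro χ hχ
    rw [hKmem χ, ha χ, hfull χ hχ, irr_one_eq_charDegree]
    push_cast; rfl
  have h11R : ¬ 11 ∣ Nat.card R₀ := by
    intro hd11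
    obtain ⟨z, hz⟩ := exists_prime_orderOf_dvd_card' 11 hd11
    have hzG : orderOf (z : Q) = 11 := by rw [Subgroup.orderOf_coe, hz]
    obtain ⟨w, hw, hw1, hzw⟩ := M22Uniq.exists_conj_mem P hP hzG
    have hwR : w ∈ R₀ := by
      obtain ⟨g, rfl⟩ := isConj_iff.1 hzw
      exact hR₀n.conj_mem _ z.2 g
    have hwo : orderOf w = 11 := DefOne.orderOf_P K hw hw1
    have hyR : (y : Q) ∈ R₀ := by
      obtain ⟨i, hi⟩ := Subgroup.mem_zpowers_iff.1 (mem_zpowers_of_prime_card hP
        (g := (⟨w, hw⟩ : (P : Subgroup Q))) (g' := y) fun h => hw1 (congrArg Subtype.val h))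
      rw [← hi, Subgroup.coe_zpow]
      exact zpow_mem hwR i
    have hone : ∀ χ ∈ S, charDegree (χ : Q → ℂ) = 1 ∧ c χ = 1 := by
      intro χ hχ
      have hk : ∀ g ∈ R₀, (χ : Q → ℂ) g = (charDegree (χ : Q → ℂ) : ℂ) := by
        intro g hg
        simp only [hR₀, Subgroup.mem_iInf] at hg
        rw [(hKmem χ g).1 (hg χ hχ), irr_one_eq_charDegree]
      have h := R.phi_eq χ hχ (Or.inr rfl) y hy
      rw [phi] at h
      rw [Finset.sum_congr rfl fun w _ => show _ = (charDegree (χ : Q → ℂ) : ℂ) by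
        rw [show (trivB V : V → ℂ) w = 1 from rfl, map_one, mul_one, hk]
        rcases hVel _ w.2 with e | e <;> rw [e]
        · simpa using hyR
        · exact mul_mem hyR htR, Finset.sum_const, Finset.card_univ, ← Nat.card_eq_fintype_card, hV] at h
      have h' : (charDegree (χ : Q → ℂ) : ℂ) = (c χ : ℂ) := by
        rw [← h, nsmul_eq_mul]; push_cast; ring
      have h'' : (charDegree (χ : Q → ℂ) : ℤ) = c χ := by exact_mod_cast h'
      have := charDegree_pos χ
      rcases R.sign χ hχ with e | e <;> rw [e] at h'' <;> refine ⟨?_, ?_⟩ <;> omega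
    have h10 : ∑ χ ∈ S, c χ * (charDegree (χ : Q → ℂ) : ℤ) = 10 := by
      rw [Finset.sum_congr rfl (g := fun _ => (1 : ℤ)) fun χ hχ => by rw [(hone χ hχ).1, (hone χ hχ).2]; rfl]
      simp [R.card]
    omega
  -- the only elements of the kernel commuting with an element of order eleven
  have hsmall : ∀ r : ℕ, r.Prime → (Nat.card R₀).factorization r ≤ if r = 2 then 1 else 0 := by
    intro r hr
    haveI := Fact.mk hr
    obtain ⟨T₀⟩ : Nonempty (Sylow r R₀) := inferInstance
    set T : Subgroup Q := (T₀ : Subgroup R₀).map R₀.subtype with hT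
    have hsup : Subgroup.normalizer (T : Set Q) ⊔ R₀ = ⊤ := Sylow.normalizer_sup_eq_top T₀
    have h11N : 11 ∣ Nat.card (Subgroup.normalizer (T : Set Q)) := by
      have hd' : R₀.index ∣ Nat.card (Subgroup.normalizer (T : Set Q)) := by
        rw [← Subgroup.relIndex_top_right, ← hsup, Subgroup.relIndex_sup_right]
        exact Subgroup.index_dvd_card _
      have h := R₀.index_mul_card
      rw [hQ] at h
      rcases (Nat.Prime.dvd_mul (by norm_num : Nat.Prime 11)).1
        (show 11 ∣ R₀.index * Nat.card R₀ by rw [h]; norm_num) with h' | h'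
      · exact h'.trans hd'
      · exact absurd h' h11R
    obtain ⟨h, hho⟩ := exists_prime_orderOf_dvd_card' 11 h11N
    have hhG : orderOf (h : Q) = 11 := by rw [Subgroup.orderOf_coe, hho]
    have hTR : T ≤ R₀ := Subgroup.map_subtype_le _
    have hTc : Nat.card T = r ^ (Nat.card R₀).factorization r := by
      rw [hT, Subgroup.card_map_of_injective R₀.subtype_injective]
      exact T₀.card_eq_multiplicity
    set j := (Nat.card R₀).factorization r
    obtain ⟨w, hw, hw1, hhw⟩ := M22Uniq.exists_conj_mem P hP hhG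
    obtain ⟨g, hg⟩ := isConj_iff.1 hhw
    -- a nontrivial element of `T` commuting with `h` is conjugate to `t`
    have hfixed : ∀ z ∈ T, z ≠ 1 → (h : Q) * z = z * h → z = g⁻¹ * t * g := by
      intro z hz hz1 hc
      have hz' : g * z * g⁻¹ ∈ Subgroup.centralizer ((P : Subgroup Q) : Set Q) := by
        rw [centralizer_P K hw hw1, Subgroup.mem_centralizer_singleton_iff, ← hg,
          show g * z * g⁻¹ * (g * h * g⁻¹) = g * (z * h) * g⁻¹ by group, ← hc]
        group
      obtain ⟨y', hy', v, hv, hyv⟩ := (K.hC _).1 hz'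
      have hzR : g * z * g⁻¹ ∈ R₀ := hR₀n.conj_mem _ (hTR hz) g
      have hvR : v ∈ R₀ := by rcases hVel v hv with rfl | rfl <;> first | exact one_mem _ | exact htR
      have hy'R : y' ∈ R₀ := by
        have : y' = g * z * g⁻¹ * v⁻¹ := by rw [← hyv, mul_inv_cancel_right]
        rw [this]; exact mul_mem hzR (inv_mem hvR)
      have hy'1 : y' = 1 := by
        by_contra hne
        exact h11R (DefOne.orderOf_P K hy' hne ▸ Subgroup.orderOf_dvd_natCard R₀ hy'R)
      rw [hy'1, one_mul] at hyv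
      rcases hVel v hv with e | e
      · exfalso; rw [e] at hyv; exact hz1 (conj_eq_one_iff.1 hyv.symm)
      · rw [← e, hyv]; group
    have hmod := M23Uniq.fixed_modEq hhG (fun z => z ∈ T ∧ z ≠ 1) fun b z hb hz =>
      ⟨(Subgroup.mem_normalizer_iff.1 (Subgroup.zpowers_le.2 h.2 hb) z).1 hz.1,
        fun e => hz.2 (by rwa [conj_eq_one_iff] at e)⟩
    have hcard : Nat.card {z : Q // z ∈ T ∧ z ≠ 1} = r ^ j - 1 := by
      rw [← hTc, Nat.card_eq_fintype_card, Nat.card_eq_fintype_card,
        Fintype.card_congr (Equiv.subtypeSubtypeEquivSubtypeInter (fun z => z ∈ T) (fun z => z ≠ 1)).symm,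
        Fintype.card_congr (Equiv.subtypeEquivRight (q := fun z : T => ¬ z = 1) fun z => by simp),
        Fintype.card_subtype_compl, Fintype.card_subtype_eq]
    have hfix1 : Nat.card {z : Q // (z ∈ T ∧ z ≠ 1) ∧ (h : Q) * z = z * h} ≤ 1 := by
      haveI : Subsingleton {z : Q // (z ∈ T ∧ z ≠ 1) ∧ (h : Q) * z = z * h} := ⟨fun u v => Subtype.ext
        ((hfixed _ u.2.1.1 u.2.1.2 u.2.2).trans (hfixed _ v.2.1.1 v.2.1.2 v.2.2).symm)⟩
      exact Finite.card_le_one_iff_subsingleton.2 inferInstance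
    have hfix2 : r ≠ 2 → Nat.card {z : Q // (z ∈ T ∧ z ≠ 1) ∧ (h : Q) * z = z * h} = 0 := fun hr2 => by
      refine Nat.card_eq_zero.2 (Or.inl ⟨fun u => ?_⟩)
      have hzo := Subgroup.orderOf_dvd_natCard T u.2.1.1
      rw [hTc, hfixed _ u.2.1.1 u.2.1.2 u.2.2, show g⁻¹ * t * g = MulAut.conj g⁻¹ t by simp,
        MulEquiv.orderOf_eq, ht] at hzo
      exact hr2 ((Nat.prime_dvd_prime_iff_eq Nat.prime_two hr).1 (Nat.prime_two.dvd_of_dvd_pow hzo)).symm
    rw [hcard] at hmod
    have hrj : r ^ j ∣ 147840 := by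
      rw [← hQ]
      exact dvd_trans (hTc ▸ dvd_refl _) (Subgroup.card_subgroup_dvd_card T)
    have hj : j ≤ 7 ∧ (r ≠ 2 → j ≤ 1) ∧ (1 ≤ j → r ≤ 11) := by
      have hle := (hr.pow_dvd_iff_le_factorization (by norm_num : (147840 : ℕ) ≠ 0)).1 hrj
      have hb : ∀ i, r ^ i ∣ 147840 → (i ≤ 7 ∧ (r ≠ 2 → i ≤ 1)) := by
        intro i hi
        by_cases hr2 : r = 2
        · subst hr2
          refine ⟨?_, fun h => absurd rfl h⟩
          by_contra hlt
          exact absurd ((pow_dvd_pow 2 (show 8 ≤ i by omega)).trans hi) (by norm_num)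
        · have hi1 : i ≤ 1 := by
            by_contra hlt
            have h2 : r ^ 2 ∣ 147840 := (pow_dvd_pow r (show 2 ≤ i by omega)).trans hi
            have hr' : r * r ≤ 147840 := by
              have := Nat.le_of_dvd (by norm_num) h2; rwa [pow_two] at this
            have hrle : r ≤ 384 := by nlinarith
            have : ∀ r < 385, r ^ 2 ∣ 147840 → r.Prime → r = 2 := by decide +kernel
            exact hr2 (this r (by omega) h2 hr)
          exact ⟨by omega, fun _ => hi1⟩
      refine ⟨(hb j hrj).1, (hb j hrj).2, fun h1 => ?_⟩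
      have hd : r ∣ 147840 := (dvd_pow_self r (by omega)).trans hrj
      rw [show (147840 : ℕ) = 2 ^ 7 * (3 * (5 * (7 * 11))) by norm_num] at hd
      rcases (Nat.Prime.dvd_mul hr).1 hd with h | h
      · have := Nat.le_of_dvd (by norm_num) (hr.dvd_of_dvd_pow h); omega
      rcases (Nat.Prime.dvd_mul hr).1 h with h | h
      · have := Nat.le_of_dvd (by norm_num) h; omega
      rcases (Nat.Prime.dvd_mul hr).1 h with h | h
      · have := Nat.le_of_dvd (by norm_num) h; omega
      rcases (Nat.Prime.dvd_mul hr).1 h with h | h <;> have := Nat.le_of_dvd (by norm_num) h <;> omega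
    by_cases hr2 : r = 2
    · subst hr2
      rw [if_pos rfl]
      set F := Nat.card {z : Q // (z ∈ T ∧ z ≠ 1) ∧ (h : Q) * z = z * h}
      have : ∀ i ≤ 7, ∀ F ≤ 1, (2 ^ i - 1) % 11 = F % 11 → i ≤ 1 := by decide
      exact this j hj.1 F hfix1 hmod
    · rw [if_neg hr2]
      rw [hfix2 hr2] at hmod
      by_contra hne
      have hj1 : j = 1 := by have := hj.2.1 hr2; omega
      rw [hj1, pow_one, Nat.ModEq, Nat.zero_mod] at hmod
      have h11 := hj.2.2 (by omega)
      have := hr.two_le
      omega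
  have hR2 : Nat.card R₀ = 2 := by
    have hpos : 0 < Nat.card R₀ := Nat.card_pos
    have hdiv : Nat.card R₀ ∣ 2 := by
      rw [← Nat.factorization_le_iff_dvd hpos.ne' (by norm_num)]
      intro r
      by_cases hr : r.Prime
      · refine (hsmall r hr).trans ?_
        split_ifs with h
        · subst h; rw [Nat.prime_two.factorization_self]
        · exact Nat.zero_le _
      · rw [Nat.factorization_eq_zero_of_not_prime _ hr]; exact Nat.zero_le _
    rcases (Nat.dvd_prime Nat.prime_two).1 hdiv with h | h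
    · rw [Subgroup.card_eq_one.1 h, Subgroup.mem_bot] at htR; exact absurd htR ht1
    · exact h
  rw [Subgroup.mem_center_iff]
  intro g
  haveI : Fintype R₀ := Fintype.ofFinite _
  have hconj : g * t * g⁻¹ ∈ R₀ := hR₀n.conj_mem _ htR g
  have hne : g * t * g⁻¹ ≠ 1 := fun h => ht1 (conj_eq_one_iff.1 h)
  have hu : (⟨_, hconj⟩ : R₀) = ⟨t, htR⟩ := by
    by_contra h
    have h3 : ({1, ⟨_, hconj⟩, ⟨t, htR⟩} : Finset R₀).card ≤ 2 := by
      rw [← hR2, Nat.card_eq_fintype_card]; exact Finset.card_le_univ _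
    rw [Finset.card_eq_three.2 ⟨1, _, _, fun e => hne (congrArg Subtype.val e).symm,
      fun e => ht1 (congrArg Subtype.val e).symm, h, rfl⟩] at h3
    omega
  exact mul_inv_eq_iff_eq_mul.1 (congrArg Subtype.val hu)

end Cfsg.Agent.M24Order
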