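import Cfsg.Agent.Lib.M24Order.Lists

/-!
The column of a central involution of a Sylow normalizer at eleven in a group of order 147840.
-/

namespace Cfsg.Agent.M24Order

/-- The state of the search on the quotient: sums, the fraction, and whether all values are degrees. -/
structure QSt where
  D : ℤ
  L : ℤ
  q : ℕ
  d2 : ℕ
  num : ℤ
  den : ℕ
  full : Bool

/-- Adding a member. -/
def QSt.add (st : QSt) (o : Tm) : QSt :=
  ⟨st.D + o.c * o.f, st.L + o.c * o.a, st.q + o.a.natAbs * o.a.natAbs, st.d2 + o.f * o.f,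
    st.num * o.f + o.c * (o.a * o.a) * st.den, st.den * o.f, st.full && decide (o.a = o.f)⟩

/-- Complete sums are impossible unless all values are degrees. -/
def QSt.bad (st : QSt) (C : ℕ) : Bool :=
  !(decide (st.D = 0)) || !(decide (st.L = 0)) || st.full ||
    !(decide (0 ≤ st.num) && Nat.beq ((147840 * 2 * st.num.natAbs) % (C * C * st.den)) 0)

/-- All completions are impossible unless all values are degrees. -/
def qdead (C : ℕ) : ℕ → List Tm → QSt → Bool
  | 0, _, st => st.bad C
  | r + 1, l, st => Nat.blt ((r + 1) * (C - st.q)) (st.L.natAbs * st.L.natAbs) || l.tails.all fun tl =>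
      match tl with
      | [] => true
      | o :: _ => !(Nat.ble (st.q + o.a.natAbs * o.a.natAbs) C && Nat.ble (st.d2 + o.f * o.f) 147840) ||
          qdead C r tl (st.add o)

/-- A positive answer of the search leaves only the values equal to the degrees. -/
theorem qdead_sound {C : ℕ} : ∀ {r : ℕ} {l : List Tm} {st : QSt}, qdead C r l st = true → 0 < st.den →
    ∀ s : Multiset Tm, s.card = r → (∀ x ∈ s, x ∈ l) → (∀ x ∈ s, x.c = 1 ∨ x.c = -1) → (∀ x ∈ s, 0 < x.f) →
    st.D + (s.map fun x => x.c * (x.f : ℤ)).sum = 0 → st.L + (s.map fun x => x.c * x.a).sum = 0 →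
    (st.q : ℤ) + (s.map fun x => x.a * x.a).sum ≤ C →
    (st.d2 : ℤ) + (s.map fun x => (x.f : ℤ) * x.f).sum ≤ 147840 →
    ∀ m : ℕ, (m : ℚ) * ((C : ℚ) * C) = (147840 * 2 : ℚ) *
      ((st.num : ℚ) / st.den + (s.map fun x => (x.c : ℚ) * ((x.a : ℚ) * x.a) / x.f).sum) →
    st.full = true ∧ ∀ x ∈ s, x.a = x.f := by
  intro r
  induction r with
  | zero =>
    intro l st h hden s hs _ _ _ hD hL _ _ m hm
    rw [Multiset.card_eq_zero.1 hs] at hD hL hm ⊢
    simp only [Multiset.map_zero, Multiset.sum_zero, add_zero] at hD hL hm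
    refine ⟨?_, by simp⟩
    have h3 : (m : ℤ) * ((C : ℤ) * C * st.den) = (147840 * 2 : ℤ) * st.num := by
      have h2 : (m : ℚ) * ((C : ℚ) * C * st.den) = (147840 * 2 : ℚ) * st.num := by
        rw [← mul_assoc, hm]; field_simp
      exact_mod_cast h2
    have hnn : 0 ≤ st.num := by
      by_contra hlt
      have h4 : (147840 * 2 : ℤ) * st.num < 0 := mul_neg_of_pos_of_neg (by norm_num) (not_le.1 hlt)
      rw [← h3] at h4
      exact absurd h4 (not_lt.2 (by positivity))
    have hdiv : (147840 * 2 * st.num.natAbs) % (C * C * st.den) = 0 := by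
      refine Nat.mod_eq_zero_of_dvd ⟨m, ?_⟩
      have : ((147840 * 2 * st.num.natAbs : ℕ) : ℤ) = ((C * C * st.den * m : ℕ) : ℤ) := by
        rw [Nat.cast_mul (147840 * 2), Int.natCast_natAbs, abs_of_nonneg hnn]
        push_cast at h3 ⊢
        linear_combination -h3
      exact_mod_cast this
    simpa [qdead, QSt.bad, hD, hL, hnn, hdiv] using h
  | succ r ih =>
    intro l st h hden s hs hsub hc hpos hD hL hq hd m hm
    have hpr : Nat.blt ((r + 1) * (C - st.q)) (st.L.natAbs * st.L.natAbs) = false := by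
      rw [← Bool.not_eq_true, Nat.blt_eq]
      intro hp
      have hQ : 0 ≤ (s.map fun x : Tm => x.a * x.a).sum := Multiset.sum_nonneg fun y hy => by
        obtain ⟨z, -, rfl⟩ := Multiset.mem_map.1 hy; exact mul_self_nonneg _
      have h1 := sq_sum_le s hc
      rw [hs, show (s.map fun x => x.c * x.a).sum = -st.L by linarith, neg_sq] at h1
      have h2 : (((r + 1) * (C - st.q) : ℕ) : ℤ) < ((st.L.natAbs * st.L.natAbs : ℕ) : ℤ) := by exact_mod_cast hp
      rw [Int.natAbs_mul_self, Nat.cast_mul, Nat.cast_sub (by omega)] at h2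
      push_cast at h2 h1
      have h3 : ((r : ℤ) + 1) * (s.map fun x => x.a * x.a).sum ≤ ((r : ℤ) + 1) * ((C : ℤ) - st.q) :=
        mul_le_mul_of_nonneg_left (by linarith) (by positivity)
      nlinarith
    rw [qdead, hpr, Bool.false_or] at h
    obtain ⟨tl, htl, o, tr, rfl, ho, hin⟩ : ∃ tl ∈ l.tails, ∃ o tr, tl = o :: tr ∧ o ∈ s ∧
        ∀ x ∈ s, x ∈ tl := by
      clear h
      induction l with
      | nil =>
        obtain ⟨x, hx⟩ := Multiset.exists_mem_of_ne_zero (fun h0 => by rw [h0] at hs; simp at hs : s ≠ 0)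
        exact absurd (hsub x hx) (by simp)
      | cons a l iht =>
        by_cases ha : a ∈ s
        · exact ⟨a :: l, by simp, a, l, rfl, ha, hsub⟩
        · obtain ⟨tl, htl, rest⟩ := iht fun x hx => by
            rcases List.mem_cons.1 (hsub x hx) with rfl | hxl
            · exact absurd hx ha
            · exact hxl
          exact ⟨tl, by rw [List.tails_cons]; exact List.mem_cons_of_mem _ htl, rest⟩
    obtain ⟨s', rfl⟩ := Multiset.exists_cons_of_mem ho
    have h1 := List.all_eq_true.1 h _ htl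
    simp only [Bool.or_eq_true, Bool.not_eq_true', ← Bool.not_eq_true, Bool.and_eq_true, Nat.ble_eq] at h1
    simp only [Multiset.map_cons, Multiset.sum_cons] at hD hL hq hd hm
    have nn1 : (0 : ℤ) ≤ (s'.map fun x : Tm => x.a * x.a).sum := Multiset.sum_nonneg fun y hy => by
      obtain ⟨z, -, rfl⟩ := Multiset.mem_map.1 hy; exact mul_self_nonneg _
    have nn2 : (0 : ℤ) ≤ (s'.map fun x : Tm => (x.f : ℤ) * x.f).sum := Multiset.sum_nonneg fun y hy => by
      obtain ⟨z, -, rfl⟩ := Multiset.mem_map.1 hy; positivity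
    have eq1 : ((o.a.natAbs * o.a.natAbs : ℕ) : ℤ) = o.a * o.a := Int.natAbs_mul_self
    have eq2 : ((o.f * o.f : ℕ) : ℤ) = (o.f : ℤ) * o.f := by push_cast; ring
    have hof : 0 < o.f := hpos o (Multiset.mem_cons_self _ _)
    rcases h1 with h1 | h1
    · exact absurd ⟨by omega, by omega⟩ h1
    · obtain ⟨hfull, hall⟩ := ih (st := st.add o) h1 (Nat.mul_pos hden hof) s' (by simpa using hs)
        (fun x hx => hin x (Multiset.mem_cons_of_mem hx)) (fun x hx => hc x (Multiset.mem_cons_of_mem hx))
        (fun x hx => hpos x (Multiset.mem_cons_of_mem hx))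
        (by simp only [QSt.add]; linear_combination hD) (by simp only [QSt.add]; linear_combination hL)
        (by simp only [QSt.add]; omega) (by simp only [QSt.add]; omega) m (by
          rw [hm]
          simp only [QSt.add]
          push_cast
          have : (st.den : ℚ) ≠ 0 := Nat.cast_ne_zero.2 hden.ne'
          have : (o.f : ℚ) ≠ 0 := Nat.cast_ne_zero.2 hof.ne'
          field_simp
          ring)
      simp only [QSt.add, Bool.and_eq_true, decide_eq_true_eq] at hfull
      refine ⟨hfull.1, fun x hx => ?_⟩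
      rcases Multiset.mem_cons.1 hx with rfl | hx
      · exact hfull.2
      · exact hall x hx

/-- The degrees at eleven of the quotient. -/
def qDegs : List ℕ :=
  (List.range 385).filter fun d => Nat.ble 1 d && Nat.beq (147840 % d) 0 &&
    (Nat.beq (d % 11) 1 || Nat.beq (d % 11) 10)

/-- The possible values at the involution. -/
def qVals (K C f : ℕ) : List ℤ :=
  ((List.range (2 * f / 22 + 1)).map fun j : ℕ => (f : ℤ) - 22 * (j : ℤ)).filter fun a =>
    Nat.ble a.natAbs f && Nat.ble (a.natAbs * a.natAbs) C && Nat.beq (K * a.natAbs % f) 0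

theorem mem_qVals {K C f : ℕ} {a : ℤ} (h1 : |a| ≤ f) (hm : (22 : ℤ) ∣ (f : ℤ) - a)
    (hd : (f : ℤ) ∣ (K : ℤ) * a) (hC : a * a ≤ C) : a ∈ qVals K C f := by
  obtain ⟨j, hj⟩ := hm
  rw [abs_le] at h1
  refine List.mem_filter.2 ⟨List.mem_map.2 ⟨j.toNat, List.mem_range.2 ?_, ?_⟩, ?_⟩
  · have h2 : j.toNat * 22 ≤ 2 * f := by omega
    have h4 : j.toNat ≤ 2 * f / 22 := (Nat.le_div_iff_mul_le (by norm_num)).2 h2
    omega
  · rw [Int.toNat_of_nonneg (by omega)]; linarith
  · simp only [Bool.and_eq_true, Nat.ble_eq, Nat.beq_eq]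
    refine ⟨⟨by omega, ?_⟩, Nat.mod_eq_zero_of_dvd ?_⟩
    · have : ((a.natAbs * a.natAbs : ℕ) : ℤ) ≤ (C : ℤ) := by
        rw [Int.natAbs_mul_self]; exact hC
      exact_mod_cast this
    · have := Int.natAbs_dvd_natAbs.2 hd
      rwa [Int.natAbs_natCast, Int.natAbs_mul, Int.natAbs_natCast] at this

/-- The members for the part `n` outside the normalizer. -/
def qOps (n : ℕ) : List Tm :=
  order (qDegs.flatMap fun f => (qVals (672 / n) (220 * n) f).map fun a => ⟨f, sgP 11 f, a⟩)

/-- The search at one part. -/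
def qDeadAt (n : ℕ) : Bool := qdead (220 * n) 10 (qOps n) ⟨1, 1, 1, 1, 1, 1, true⟩

set_option maxRecDepth 20000 in
theorem qdead_one : qDeadAt 1 = true := by decide +kernel

set_option maxRecDepth 20000 in
theorem qdead_twelve : qDeadAt 12 = true := by decide +kernel

set_option maxRecDepth 20000 in
theorem qdead_fiftysix : qDeadAt 56 = true := by decide +kernel

end Cfsg.Agent.M24Order
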