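import Cfsg.Agent.Lib.M24Order.Lists
import Cfsg.Agent.Lib.M22Uniq.Search

/-!
A search for a column in two stages: the degrees first, then the values.
-/

namespace Cfsg.Agent.M24Order

/-- A degree with its coefficient, its possible values and the least square among them. -/
structure DOpt where
  f : ℕ
  c : ℤ
  vals : List ℤ
  m : ℕ

/-- The values of the chosen degrees. -/
def deadV (C : ℕ) : List DOpt → ℤ → ℕ → Bool
  | [], L, _ => !(decide (L = 0))
  | o :: l, L, q => Nat.blt ((l.length + 1) * (C - q)) (L.natAbs * L.natAbs) ||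
      o.vals.all fun a => !(Nat.ble (q + a.natAbs * a.natAbs) C) ||
        deadV C l (L + o.c * a) (q + a.natAbs * a.natAbs)

/-- The largest degree of a list. -/
def maxF : List DOpt → ℕ
  | [] => 0
  | o :: l => Nat.max o.f (maxF l)

/-- Whether an odd degree occurs. -/
def anyOdd : List DOpt → Bool
  | [] => false
  | o :: l => Nat.beq (o.f % 2) 1 || anyOdd l

/-- The degrees. -/
def deadD (C : ℕ) : ℕ → List DOpt → ℤ → ℕ → ℕ → List DOpt → Bool
  | 0, _, D, _, _, acc => !(decide (D = 0)) || deadV C acc.reverse 1 1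
  | r + 1, l, D, q, d, acc => l.tails.all fun tl =>
      match tl with
      | [] => true
      | o :: _ => Nat.blt ((r + 1) * maxF tl) D.natAbs || (!anyOdd tl && Nat.beq (D.natAbs % 2) 1) ||
          !(Nat.ble (q + o.m) C && Nat.ble (d + o.f * o.f) 244823040) ||
          deadD C r tl (D + o.c * o.f) (q + o.m) (d + o.f * o.f) (o :: acc)

theorem le_maxF : ∀ {l : List DOpt} {o : DOpt}, o ∈ l → o.f ≤ maxF l := by
  intro l
  induction l with
  | nil => simp
  | cons x l ih =>
    intro o ho
    rcases List.mem_cons.1 ho with rfl | ho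
    · exact Nat.le_max_left _ _
    · exact (ih ho).trans (Nat.le_max_right _ _)

theorem even_of_anyOdd : ∀ {l : List DOpt}, anyOdd l = false → ∀ o ∈ l, o.f % 2 = 0 := by
  intro l
  induction l with
  | nil => simp
  | cons x l ih =>
    intro h o ho
    simp only [anyOdd, Bool.or_eq_false_iff] at h
    rcases List.mem_cons.1 ho with rfl | ho
    · have h' : ¬ o.f % 2 = 1 := fun e => by simp [e] at h
      omega
    · exact ih h.2 o ho

/-- The condition on one chosen pair. -/
def GoodPair (x : DOpt × ℤ) : Prop :=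
  x.2 ∈ x.1.vals ∧ (x.1.m : ℤ) ≤ x.2 * x.2 ∧ (x.1.c = 1 ∨ x.1.c = -1)

theorem sq_sum_list_le : ∀ (l : List (DOpt × ℤ)), (∀ x ∈ l, GoodPair x) →
    (l.map fun x => x.1.c * x.2).sum ^ 2 ≤ (l.length : ℤ) * (l.map fun x => x.2 * x.2).sum := by
  intro l
  induction l with
  | nil => simp
  | cons x l ih =>
    intro h
    have ih := ih fun y hy => h y (List.mem_cons_of_mem _ hy)
    simp only [List.map_cons, List.sum_cons, List.length_cons, Nat.cast_succ]
    set A := (l.map fun x : DOpt × ℤ => x.1.c * x.2).sum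
    set Q := (l.map fun x : DOpt × ℤ => x.2 * x.2).sum
    have hQ : 0 ≤ Q := List.sum_nonneg fun y hy => by
      obtain ⟨z, -, rfl⟩ := List.mem_map.1 hy; exact mul_self_nonneg _
    rcases Nat.eq_zero_or_pos l.length with h0 | h0
    · have hs := List.length_eq_zero_iff.1 h0
      simp only [A, Q, hs, List.map_nil, List.sum_nil, List.length_nil, Nat.cast_zero, zero_add, add_zero]
      rcases (h x List.mem_cons_self).2.2 with e | e <;> rw [e] <;> ring_nf <;> rfl
    · have hn : (0 : ℤ) < (l.length : ℤ) := by exact_mod_cast h0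
      rcases (h x List.mem_cons_self).2.2 with e | e <;> rw [e] <;>
        nlinarith [sq_nonneg ((l.length : ℤ) * x.2 - A), sq_nonneg ((l.length : ℤ) * x.2 + A)]

theorem deadV_sound {C : ℕ} : ∀ (acc : List (DOpt × ℤ)) {L : ℤ} {q : ℕ},
    deadV C (acc.map Prod.fst) L q = true → (∀ x ∈ acc, GoodPair x) →
    L + (acc.map fun x => x.1.c * x.2).sum = 0 →
    (q : ℤ) + (acc.map fun x => x.2 * x.2).sum ≤ C → False := by
  intro acc
  induction acc with
  | nil =>
    intro L q h _ hL _
    simp only [List.map_nil, List.sum_nil, add_zero] at hL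
    simp [deadV, hL] at h
  | cons x acc ih =>
    intro L q h hg hL hq
    simp only [List.map_cons, deadV, Bool.or_eq_true, Nat.blt_eq] at h
    have hsq := sq_sum_list_le (x :: acc) hg
    have hQ : 0 ≤ (acc.map fun x : DOpt × ℤ => x.2 * x.2).sum := List.sum_nonneg fun y hy => by
      obtain ⟨z, -, rfl⟩ := List.mem_map.1 hy; exact mul_self_nonneg _
    rcases h with h | h
    · rw [show ((x :: acc).map fun x => x.1.c * x.2).sum = -L by linarith, neg_sq] at hsq
      have hqC : (q : ℤ) ≤ C := by
        simp only [List.map_cons, List.sum_cons] at hq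
        nlinarith [mul_self_nonneg x.2]
      have h2 : ((((acc.map Prod.fst).length + 1) * (C - q) : ℕ) : ℤ) < ((L.natAbs * L.natAbs : ℕ) : ℤ) := by
        exact_mod_cast h
      rw [List.length_map, Int.natAbs_mul_self, Nat.cast_mul, Nat.cast_sub (by exact_mod_cast hqC)] at h2
      push_cast at h2
      simp only [List.length_cons, Nat.cast_succ] at hsq
      have h3 : ((acc.length : ℤ) + 1) * ((x :: acc).map fun x => x.2 * x.2).sum ≤
          ((acc.length : ℤ) + 1) * ((C : ℤ) - q) := mul_le_mul_of_nonneg_left (by linarith) (by positivity)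
      nlinarith
    · simp only [List.map_cons, List.sum_cons] at hL hq
      have h1 := List.all_eq_true.1 h x.2 (hg x List.mem_cons_self).1
      simp only [Bool.or_eq_true, Bool.not_eq_true', ← Bool.not_eq_true, Nat.ble_eq] at h1
      have eq1 : ((x.2.natAbs * x.2.natAbs : ℕ) : ℤ) = x.2 * x.2 := Int.natAbs_mul_self
      rcases h1 with h1 | h1
      · exact h1 (by omega)
      · refine ih h1 (fun y hy => hg y (List.mem_cons_of_mem _ hy)) (by linarith) ?_
        omega

/-- A positive answer of the search excludes solutions. -/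
theorem deadD_sound {C : ℕ} : ∀ {r : ℕ} {l : List DOpt} {D : ℤ} {q d : ℕ} (acc : List (DOpt × ℤ)),
    deadD C r l D q d (acc.map Prod.fst) = true →
    ∀ s : Multiset (DOpt × ℤ), s.card = r → (∀ x ∈ s, x.1 ∈ l) → (∀ x ∈ s, GoodPair x) →
    (∀ x ∈ acc, GoodPair x) →
    D + (s.map fun x => x.1.c * (x.1.f : ℤ)).sum = 0 →
    (1 : ℤ) + (acc.map fun x => x.1.c * x.2).sum + (s.map fun x => x.1.c * x.2).sum = 0 →
    (1 : ℤ) + (acc.map fun x => x.2 * x.2).sum + (s.map fun x => x.2 * x.2).sum ≤ C →
    (q : ℤ) + (s.map fun x => (x.1.m : ℤ)).sum ≤ C →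
    (d : ℤ) + (s.map fun x => (x.1.f : ℤ) * x.1.f).sum ≤ 244823040 → False := by
  intro r
  induction r with
  | zero =>
    intro l D q d acc h s hs _ _ hga hD hL hQ _ _
    rw [Multiset.card_eq_zero.1 hs] at hD hL hQ
    simp only [Multiset.map_zero, Multiset.sum_zero, add_zero] at hD hL hQ
    simp only [deadD, hD, decide_true, Bool.not_true, Bool.false_or] at h
    rw [← List.map_reverse] at h
    exact deadV_sound acc.reverse h (fun x hx => hga x (List.mem_reverse.1 hx))
      (by rw [List.map_reverse, List.sum_reverse]; exact hL)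
      (by rw [List.map_reverse, List.sum_reverse]; push_cast; linarith)
  | succ r ih =>
    intro l D q d acc h s hs hsub hg hga hD hL hQ hq hd
    obtain ⟨tl, htl, o, tr, rfl, ho, hin⟩ := M22Uniq.exists_first (s := s.map Prod.fst) (opts := l)
      (fun x hx => by obtain ⟨y, hy, rfl⟩ := Multiset.mem_map.1 hx; exact hsub y hy)
      (fun h0 => by rw [Multiset.map_eq_zero] at h0; rw [h0] at hs; simp at hs)
    obtain ⟨x, hx, rfl⟩ := Multiset.mem_map.1 ho
    obtain ⟨s', rfl⟩ := Multiset.exists_cons_of_mem hx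
    have h1 := List.all_eq_true.1 h _ htl
    simp only [Bool.or_eq_true, Nat.blt_eq, Bool.and_eq_true, Bool.not_eq_true', Nat.beq_eq,
      ← Bool.not_eq_true, Nat.ble_eq] at h1
    have hin' : ∀ y ∈ x ::ₘ s', y.1 ∈ x.1 :: tr := fun y hy => hin y.1 (Multiset.mem_map_of_mem _ hy)
    rcases h1 with ((h1 | ⟨h1, h2⟩) | h1) | h1
    · have key : ∀ t : Multiset (DOpt × ℤ), (∀ y ∈ t, y.1 ∈ x.1 :: tr ∧ GoodPair y) →
          |(t.map fun y => y.1.c * (y.1.f : ℤ)).sum| ≤ (t.card : ℤ) * maxF (x.1 :: tr) := by
        intro t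
        induction t using Multiset.induction_on with
        | empty => simp
        | cons y t iht =>
          intro ht
          simp only [Multiset.map_cons, Multiset.sum_cons, Multiset.card_cons, Nat.cast_succ]
          have h3 := iht fun z hz => ht z (Multiset.mem_cons_of_mem hz)
          obtain ⟨hy1, hy2⟩ := ht y (Multiset.mem_cons_self _ _)
          have h4 : (y.1.f : ℤ) ≤ maxF (x.1 :: tr) := by exact_mod_cast le_maxF hy1
          have h5 : |y.1.c * (y.1.f : ℤ)| ≤ maxF (x.1 :: tr) := by
            rcases hy2.2.2 with e | e <;> rw [e] <;> simpa using h4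
          calc _ ≤ |y.1.c * (y.1.f : ℤ)| + |(t.map fun y => y.1.c * (y.1.f : ℤ)).sum| := abs_add_le _ _
            _ ≤ _ := by rw [add_mul, one_mul]; linarith
      have h3 := key (x ::ₘ s') fun y hy => ⟨hin' y hy, hg y hy⟩
      rw [hs, show ((x ::ₘ s').map fun y => y.1.c * (y.1.f : ℤ)).sum = -D by linarith, abs_neg] at h3
      have h4 : (((r + 1) * maxF (x.1 :: tr) : ℕ) : ℤ) < (D.natAbs : ℤ) := by exact_mod_cast h1
      rw [Int.natCast_natAbs] at h4
      push_cast at h4 h3
      linarith
    · have h3 : (2 : ℤ) ∣ ((x ::ₘ s').map fun y => y.1.c * (y.1.f : ℤ)).sum :=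
        Multiset.dvd_sum fun z hz => by
          obtain ⟨y, hy, rfl⟩ := Multiset.mem_map.1 hz
          refine Dvd.dvd.mul_left ?_ _
          exact_mod_cast Nat.dvd_of_mod_eq_zero
            (even_of_anyOdd (Bool.eq_false_iff.2 h1) _ (hin' y hy))
      omega
    all_goals
      simp only [Multiset.map_cons, Multiset.sum_cons] at hD hL hQ hq hd
      have nn1 : (0 : ℤ) ≤ (s'.map fun y : DOpt × ℤ => (y.1.m : ℤ)).sum := Multiset.sum_nonneg fun z hz => by
        obtain ⟨y, -, rfl⟩ := Multiset.mem_map.1 hz; positivity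
      have nn2 : (0 : ℤ) ≤ (s'.map fun y : DOpt × ℤ => (y.1.f : ℤ) * y.1.f).sum :=
        Multiset.sum_nonneg fun z hz => by obtain ⟨y, -, rfl⟩ := Multiset.mem_map.1 hz; positivity
      have eq2 : ((x.1.f * x.1.f : ℕ) : ℤ) = (x.1.f : ℤ) * x.1.f := by push_cast; ring
    · exact h1 ⟨by omega, by omega⟩
    · refine ih (x :: acc) h1 s' (by simpa using hs) (fun y hy => hin' y (Multiset.mem_cons_of_mem hy))
        (fun y hy => hg y (Multiset.mem_cons_of_mem hy))
        (fun y hy => (List.mem_cons.1 hy).elim (fun e => e ▸ hg x (Multiset.mem_cons_self _ _)) (hga y))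
        (by linarith) ?_ ?_ ?_ ?_
      · rw [List.map_cons, List.sum_cons]; linarith
      · rw [List.map_cons, List.sum_cons]; linarith
      · omega
      · omega

/-- The options for a list of degrees: those with some value. -/
def dOpts (C : ℕ) (ds : List ℕ) : List DOpt :=
  ds.filterMap fun f =>
    match valsI C f 44 with
    | [] => none
    | a :: l => some ⟨f, sgP 11 f, a :: l,
        l.foldr (fun b n => Nat.min (b.natAbs * b.natAbs) n) (a.natAbs * a.natAbs)⟩

theorem foldr_min_le (a : ℤ) : ∀ l : List ℤ, ∀ b ∈ a :: l,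
    l.foldr (fun b n => Nat.min (b.natAbs * b.natAbs) n) (a.natAbs * a.natAbs) ≤ b.natAbs * b.natAbs := by
  intro l
  induction l with
  | nil => intro b hb; simp only [List.mem_singleton] at hb; subst hb; exact le_rfl
  | cons x l ih =>
    intro b hb
    rw [List.foldr_cons]
    rcases List.mem_cons.1 hb with rfl | hb
    · exact (Nat.min_le_right _ _).trans (ih b List.mem_cons_self)
    rcases List.mem_cons.1 hb with rfl | hb
    · exact Nat.min_le_left _ _
    · exact (Nat.min_le_right _ _).trans (ih b (List.mem_cons_of_mem _ hb))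

theorem mem_dOpts {C : ℕ} {ds : List ℕ} {f : ℕ} {a : ℤ} (hf : f ∈ ds) (ha : a ∈ valsI C f 44) :
    ∃ o ∈ dOpts C ds, o.f = f ∧ o.c = sgP 11 f ∧ GoodPair (o, a) := by
  have hc : sgP 11 f = 1 ∨ sgP 11 f = -1 := by rw [sgP]; split_ifs <;> simp
  match hv : valsI C f 44 with
  | [] => rw [hv] at ha; simp at ha
  | b :: l =>
    refine ⟨⟨f, sgP 11 f, b :: l, l.foldr (fun b n => Nat.min (b.natAbs * b.natAbs) n) (b.natAbs * b.natAbs)⟩,
      List.mem_filterMap.2 ⟨f, hf, by simp only [hv]⟩, rfl, rfl, hv ▸ ha, ?_, hc⟩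
    have h := foldr_min_le b l a (hv ▸ ha)
    have e : ((a.natAbs * a.natAbs : ℕ) : ℤ) = a * a := Int.natAbs_mul_self
    have h' : ((l.foldr (fun b n => Nat.min (b.natAbs * b.natAbs) n) (b.natAbs * b.natAbs) : ℕ) : ℤ) ≤ a * a := by
      rw [← e]; exact_mod_cast h
    exact h'

/-- The possible degrees of the rows for a complement of order twelve, in falling order. -/
def degsTwelve : List ℕ :=
  [15456, 12880, 8832, 7360, 5796, 4830, 3840, 3312, 2760, 1288, 1035, 736, 483, 276, 252, 230, 45, 23]

/-- The centralizer orders of the form `b * n` with `n` congruent to one. -/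
def centList (b : ℕ) : List ℕ :=
  allDivs.filter fun C => Nat.beq (C % b) 0 && Nat.beq (C / b % 11) 1 && Nat.blt C 244823040

/-- The column is dead. -/
def deadTwelve (C : ℕ) : Bool := deadD C 10 (dOpts C degsTwelve) 1 1 1 []

end Cfsg.Agent.M24Order
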