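import Cfsg.Agent.Lib.M24Order.ElevenSearch

/-!
The searches for the centralizer of an involution of a complement of order twelve.
-/

namespace Cfsg.Agent.M24Order

set_option maxRecDepth 20000 in
set_option maxHeartbeats 4000000 in
/-- The column at an involution fixed by the normalizer. -/
theorem dead_central : (centList 1320).all (fun C => Nat.beq C 887040 || deadTwelve C) = true := by
  decide +kernel

set_option maxRecDepth 20000 in
set_option maxHeartbeats 4000000 in
/-- The column at an involution with three conjugates. -/
theorem dead_four : (centList 440).all (fun C => Nat.beq C 887040 || Nat.beq C 295680 || deadTwelve C) = true := by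
  decide +kernel

end Cfsg.Agent.M24Order
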