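import Cfsg.Agent.Lib.M24Order.ElevenFacts
import Cfsg.Agent.Lib.M24Order.ElevenSquare

/-!
Complements at eleven with an element of order seven: killed by the principal block at seven.
-/

set_option linter.unusedSectionVars false
set_option linter.style.haveILetI false

namespace Cfsg.Agent.M24Order

open Cfsg Cfsg.Agent.Char Cfsg.Agent.Blocks Cfsg.Agent.CCSylow Cfsg.Agent.DefOne
open Cfsg.Agent.M23Order (Rows exists_rows)

universe u

/-- The pairs `(e, v)` treated here. -/
def sevenCases : List (ℕ × ℕ) := [(10, 56), (5, 112), (5, 189)]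

/-- The orders of the intersection of the two normalizers. -/
def sevenJ (e v : ℕ) : List ℕ :=
  ordDivs.filter fun J => Nat.beq (11 * e * v % J) 0 && Nat.beq (J % 11) 0 && Nat.beq (11 * e * v / J % 7) 1 &&
    [1, 2, 3, 4, 7, 8, 9, 14, 15, 16, 21, 27, 28, 56, 63, 112, 189].any fun d =>
      Nat.beq (v % d) 0 && Nat.beq (d % 7) 1 && Nat.beq (J % (v / d)) 0

/-- The orders of the normalizer at seven. -/
def sevenN (J : ℕ) : List ℕ :=
  ordDivs.filter fun m => Nat.beq (m % J) 0 && Nat.beq (m / J % 11) 1 &&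
    Nat.beq (244823040 / m % 7) 1 && !(Nat.beq m 244823040)

set_option maxRecDepth 20000 in
theorem seven_check : sevenCases.all (fun ev => (sevenJ ev.1 ev.2).all fun J => (sevenN J).all fun m =>
    ([3, 6].all fun e' => !(Nat.beq (m % (7 * e')) 0) ||
      (ordDivs.filter fun x => Nat.beq (J % x) 0 && Nat.beq (x % 77) 0).all fun x =>
        !(Nat.beq (m / e' % x) 0 && Nat.beq (m / e' / x % 11) 1 && Nat.beq (e' % (J / x)) 0)) &&
    (!(Nat.beq (m % 14) 0) || !(Nat.beq (Nat.sqrt (7 * (m / 14) * 244823040 * 506) *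
      Nat.sqrt (7 * (m / 14) * 244823040 * 506)) (7 * (m / 14) * 244823040 * 506)))) = true := by
  decide +kernel

set_option maxRecDepth 20000 in
theorem seven_pairs : ((ordDivs.filter baseDeg).filter fun f => Nat.beq (f % 7) 1 || Nat.beq (f % 7) 6).all
    (fun f => ((ordDivs.filter baseDeg).filter fun g => Nat.beq (g % 7) 2 || Nat.beq (g % 7) 5).all fun g =>
      !(Nat.beq g (f + 1) && Nat.beq (f % 7) 1 || Nat.beq f (g + 1) && Nat.beq (g % 7) 5) ||
        (Nat.beq f 22 && Nat.beq g 23)) = true := by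
  decide +kernel

variable {G : Type u} [Group G] [Fintype G] [IsSimpleGroup G] (hG : Nat.card G = 244823040)

include hG

set_option maxHeartbeats 1000000 in
/-- An action of order two at seven gives the degrees twenty-two and twenty-three and a square. -/
theorem seven_two {P V N : Subgroup G} (K : Conf 7 P V N 2) :
    IsSquare (7 * Nat.card V * 244823040 * 506) := by
  classical
  haveI : Fact (Nat.Prime 7) := ⟨by norm_num⟩
  haveI : Fintype P := Fintype.ofFinite _
  haveI : Fintype V := Fintype.ofFinite _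
  haveI : Fintype N := Fintype.ofFinite _
  haveI : Fintype (P →* ℂˣ) := Fintype.ofFinite _
  obtain ⟨M, hM⟩ := exists_isPModular_witness 7
  haveI := IsPModular.isPrime hM
  obtain ⟨k, S, c, t, R⟩ := exists_rows hM (by norm_num) K
  obtain ⟨χ, hχ⟩ := Finset.card_eq_one.1
    (by rw [Finset.card_erase_of_mem R.mem_t, R.card] : (S.erase t).card = 1)
  have hχe : χ ∈ S.erase t := by rw [hχ]; exact Finset.mem_singleton_self _
  obtain ⟨hne, hχS⟩ := Finset.mem_erase.1 hχe
  have hrel : 1 + ∑ χ ∈ S, c χ * (charDegree (χ : G → ℂ) : ℤ) = 0 := by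
    have h := R.relation 1 (by simp)
    simp only [irr_one_eq_charDegree] at h
    exact_mod_cast h
  rw [← Finset.add_sum_erase _ _ R.mem_t, hχ, Finset.sum_singleton] at hrel
  obtain ⟨hc1, hr1⟩ := coef_ord K R (by norm_num) hχS hne
  obtain ⟨hct, hr2⟩ := coef_exc K R (by norm_num)
  have h := List.all_eq_true.1 seven_pairs (charDegree (χ : G → ℂ))
    (List.mem_filter.2 ⟨base_mem hG (fun e : χ = principal G => R.ne_one (e ▸ hχS)), by
      simp only [Bool.or_eq_true, Nat.beq_eq]; omega⟩)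
  have h := List.all_eq_true.1 h (charDegree (t : G → ℂ))
    (List.mem_filter.2 ⟨base_mem hG (fun e : t = principal G => R.ne_one (e ▸ R.mem_t)), by
      simp only [Bool.or_eq_true, Nat.beq_eq]; omega⟩)
  simp only [Bool.or_eq_true, Bool.not_eq_true', ← Bool.not_eq_true, Bool.and_eq_true, Nat.beq_eq] at h
  rw [sgP] at hc1
  rw [excP] at hct
  have hf0 := charDegree_pos χ
  have hg0 := charDegree_pos t
  have hfg : charDegree (χ : G → ℂ) = 22 ∧ charDegree (t : G → ℂ) = 23 := by
    refine h.resolve_left fun h' => h' ?_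
    split_ifs at hc1 hct <;> rw [hc1, hct] at hrel <;> omega
  obtain ⟨hf, hg⟩ := hfg
  rw [hf] at hc1
  rw [hg] at hct
  norm_num at hc1 hct
  have hsq := square_two hG K R (by norm_num) hχ hc1 hct (by rw [hf, hg])
  rwa [hf, hg, show 22 * 23 = 506 from rfl] at hsq

set_option maxHeartbeats 1000000 in
/-- No complement of these orders. -/
theorem no_seven [Fact (Nat.Prime 11)] {P : Sylow 11 G} {V : Subgroup G} {e : ℕ}
    (K : Conf 11 (P : Subgroup G) V (Subgroup.normalizer ((P : Subgroup G) : Set G)) e)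
    (hev : (e, Nat.card V) ∈ sevenCases) : False := by
  classical
  haveI : Fact (Nat.Prime 7) := ⟨by norm_num⟩
  have h7V : 7 ∣ Nat.card V := by
    simp only [sevenCases, List.mem_cons, Prod.mk.injEq, List.not_mem_nil, or_false] at hev
    omega
  obtain ⟨u, hu⟩ := exists_prime_orderOf_dvd_card' 7 h7V
  have huo : orderOf (u : G) = 7 := by rw [Subgroup.orderOf_coe, hu]
  let Q : Sylow 7 G := Sylow.ofCard (Subgroup.zpowers (u : G))
    (by rw [Nat.card_zpowers, huo, hG, fact7, pow_one])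
  have hQ : (Q : Subgroup G) = Subgroup.zpowers (u : G) := Sylow.coe_ofCard _ _
  have hQc : Nat.card (Q : Subgroup G) = 7 := by rw [hQ, Nat.card_zpowers, huo]
  have hQV : (Q : Subgroup G) ≤ V := by rw [hQ]; exact Subgroup.zpowers_le.2 u.2
  obtain ⟨V', e', K', -⟩ := exists_conf (by norm_num : Nat.Prime 7) Q hQc
  haveI : Fintype (Q : Subgroup G) := Fintype.ofFinite _
  haveI : Fintype V' := Fintype.ofFinite _
  haveI : Fintype (Subgroup.normalizer ((Q : Subgroup G) : Set G)) := Fintype.ofFinite _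
  haveI : Fintype ((Q : Subgroup G) →* ℂˣ) := Fintype.ofFinite _
  set N := Subgroup.normalizer ((P : Subgroup G) : Set G) with hN
  set N' := Subgroup.normalizer ((Q : Subgroup G) : Set G) with hN'
  set C' := Subgroup.centralizer ((Q : Subgroup G) : Set G) with hC'
  have he1 : e' ≠ 1 := e_ne_one hG (by norm_num) K'
  have he6 : e' ∣ 6 := by
    have := dvd_card_sub_one K'.D
    rwa [hQc] at this
  have hVN : V ≤ N := fun v hv => Subgroup.centralizer_le_normalizer _
    (Subgroup.mem_centralizer_iff.2 fun y hy => K.D.pv y hy v hv)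
  have hPC' : (P : Subgroup G) ≤ C' := fun y hy =>
    Subgroup.mem_centralizer_iff.2 fun q hq => (K.D.pv y hy q (hQV hq)).symm
  have hC'N' : C' ≤ N' := Subgroup.centralizer_le_normalizer _
  have hPN' : (P : Subgroup G) ≤ N' := hPC'.trans hC'N'
  set J : Subgroup G := N' ⊓ N with hJ
  set m := Nat.card N' with hm
  -- the orders
  obtain ⟨d, hd, hd7⟩ := index_part Q hQV
  obtain ⟨d', hd', hd'7⟩ := index_part Q (hQV.trans hVN)
  obtain ⟨a, ha, ha11⟩ := index_part P hPN'
  obtain ⟨a', ha', ha'11⟩ := index_part P hPC'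
  rw [show N ⊓ N' = J from inf_comm N N'] at ha
  have hcardN : Nat.card N = 11 * e * Nat.card V := by rw [K.D.hcard, K.hP]; ring
  have hmN : m = e' * (7 * Nat.card V') := by rw [hm, K'.D.hcard, hQc]
  have hC'c : Nat.card C' = 7 * Nat.card V' := card_centralizer K'
  set x := Nat.card (N ⊓ C' : Subgroup G) with hx
  have hxJ : (N ⊓ C' : Subgroup G) ≤ J := fun g hg => ⟨hC'N' hg.2, hg.1⟩
  have hx7 : 7 ∣ x := hQc ▸ Subgroup.card_dvd_of_le (show (Q : Subgroup G) ≤ N ⊓ C' from fun g hg =>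
    ⟨hVN (hQV hg), Subgroup.mem_centralizer_iff.2 fun q hq => K'.D.comm q hq g hg⟩)
  have hx11 : 11 ∣ x := K.hP ▸ Subgroup.card_dvd_of_le
    (show (P : Subgroup G) ≤ N ⊓ C' from le_inf Subgroup.le_normalizer hPC')
  have hJ11 : 11 ∣ Nat.card J := hx11.trans (Subgroup.card_dvd_of_le hxJ)
  have hJx : Nat.card J / x ∣ e' := by
    haveI : (C'.subgroupOf N').Normal := ⟨fun c hc g => by
      rw [Subgroup.mem_subgroupOf, Subgroup.mem_centralizer_iff] at hc ⊢
      intro q hq
      have hb : (g : G)⁻¹ * q * g ∈ (Q : Subgroup G) := by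
        have := K'.D.hNP _ (inv_mem g.2) q hq
        simpa using this
      have := hc _ hb
      simp only [Subgroup.coe_mul, Subgroup.coe_inv]
      calc q * ((g : G) * c * (g : G)⁻¹) = g * ((g : G)⁻¹ * q * g * c) * (g : G)⁻¹ := by group
        _ = g * (c * ((g : G)⁻¹ * q * g)) * (g : G)⁻¹ := by rw [this]
        _ = g * c * (g : G)⁻¹ * q := by group⟩
    have h1 := Subgroup.relIndex_dvd_index_of_normal (C'.subgroupOf N') (J.subgroupOf N')
    rw [Subgroup.relIndex_subgroupOf (show J ≤ N' from inf_le_left)] at h1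
    have h2 : C'.relIndex J = Nat.card J / x := by
      have e2 := (C'.subgroupOf J).index_mul_card
      have e3 : Nat.card (C'.subgroupOf J) = x := by
        rw [← Subgroup.inf_subgroupOf_right, hx]
        rw [show C' ⊓ J = N ⊓ C' from le_antisymm (fun g hg => ⟨hg.2.2, hg.1⟩)
          (fun g hg => ⟨hg.2, hxJ hg⟩)]
        exact Nat.card_congr (Subgroup.subgroupOfEquivOfLe hxJ).toEquiv
      rw [e3] at e2
      exact (Nat.div_eq_of_eq_mul_left (hx ▸ Nat.card_pos) e2.symm).symm
    rw [h2, show (C'.subgroupOf N').index = e' from K'.D.he] at h1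
    exact h1
  have hb : N'.index % 7 = 1 ∧ N'.index ≠ 1 ∧ N'.index * m = 244823040 := by
    refine ⟨?_, fun h => ?_, by rw [hm, Subgroup.index_mul_card, hG]⟩
    · have h := card_sylow_modEq_one 7 G
      rw [Q.card_eq_index_normalizer] at h
      exact Nat.mod_eq_of_modEq h (by norm_num)
    · rcases (Subgroup.normalizer_eq_top_iff.1 (Subgroup.index_eq_one.1 h)).eq_bot_or_eq_top with e'' | e''
      · rw [e'', Subgroup.card_bot] at hQc; norm_num at hQc
      · rw [e'', Subgroup.card_top, hG] at hQc; norm_num at hQc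
  obtain ⟨hb7, hb1, hbm⟩ := hb
  -- the lists
  have hmem : Nat.card J ∈ sevenJ e (Nat.card V) := by
    refine List.mem_filter.2 ⟨mem_ordDivs (hG ▸ Subgroup.card_subgroup_dvd_card J), ?_⟩
    have hJ0 : 0 < Nat.card J := Nat.card_pos
    rw [show N' ⊓ N = J from rfl] at hd'
    simp only [Bool.and_eq_true, Nat.beq_eq, List.any_eq_true]
    refine ⟨⟨⟨?_, Nat.mod_eq_zero_of_dvd hJ11⟩, ?_⟩, d, ?_, ?_⟩
    · exact Nat.mod_eq_zero_of_dvd (hcardN ▸ Dvd.intro_left d' hd'.symm)
    · rw [← hcardN, hd', Nat.mul_div_cancel _ hJ0, hd'7]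
    · have hv : Nat.card V ∈ ([56, 112, 189] : List ℕ) := by
        simp only [sevenCases, List.mem_cons, Prod.mk.injEq, List.not_mem_nil, or_false] at hev
        rcases hev with ⟨-, h⟩ | ⟨-, h⟩ | ⟨-, h⟩ <;> rw [h] <;> decide
      have hdv : d ∣ Nat.card V := Dvd.intro _ hd.symm
      simp only [List.mem_cons, List.not_mem_nil, or_false] at hv
      rcases hv with hv | hv | hv <;> rw [hv] at hdv
      · exact (by decide +kernel : ∀ d ∈ List.range 57, d ∣ 56 →
          d ∈ ([1, 2, 3, 4, 7, 8, 9, 14, 15, 16, 21, 27, 28, 56, 63, 112, 189] : List ℕ)) d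
          (List.mem_range.2 (Nat.lt_succ_of_le (Nat.le_of_dvd (by norm_num) hdv))) hdv
      · exact (by decide +kernel : ∀ d ∈ List.range 113, d ∣ 112 → d % 7 = 1 →
          d ∈ ([1, 2, 3, 4, 7, 8, 9, 14, 15, 16, 21, 27, 28, 56, 63, 112, 189] : List ℕ)) d
          (List.mem_range.2 (Nat.lt_succ_of_le (Nat.le_of_dvd (by norm_num) hdv))) hdv hd7
      · exact (by decide +kernel : ∀ d ∈ List.range 190, d ∣ 189 → d % 7 = 1 →
          d ∈ ([1, 2, 3, 4, 7, 8, 9, 14, 15, 16, 21, 27, 28, 56, 63, 112, 189] : List ℕ)) d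
          (List.mem_range.2 (Nat.lt_succ_of_le (Nat.le_of_dvd (by norm_num) hdv))) hdv hd7
    · refine ⟨⟨Nat.mod_eq_zero_of_dvd (Dvd.intro _ hd.symm), hd7⟩, Nat.mod_eq_zero_of_dvd ?_⟩
      have hd0 : 0 < d := Nat.pos_of_ne_zero fun h => by rw [h] at hd7; omega
      rw [hd, Nat.mul_div_cancel_left _ hd0]
      exact Subgroup.card_dvd_of_le (le_inf inf_le_left (inf_le_right.trans hVN))
  have hmm : m ∈ sevenN (Nat.card J) := by
    refine List.mem_filter.2 ⟨mem_ordDivs (hG ▸ Subgroup.card_subgroup_dvd_card N'), ?_⟩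
    simp only [Bool.and_eq_true, Bool.not_eq_true', ← Bool.not_eq_true, Nat.beq_eq]
    refine ⟨⟨⟨Nat.mod_eq_zero_of_dvd (Dvd.intro_left a ha.symm), ?_⟩, ?_⟩, fun h => hb1 ?_⟩
    · rw [hm, ha, Nat.mul_div_cancel _ Nat.card_pos, ha11]
    · rw [← hbm, Nat.mul_div_cancel _ (hm ▸ Nat.card_pos), hb7]
    · rw [h] at hbm; omega
  have hchk := List.all_eq_true.1 (List.all_eq_true.1 (List.all_eq_true.1 seven_check _ hev) _ hmem) _ hmm
  rw [Bool.and_eq_true] at hchk
  obtain ⟨hc36, hc2⟩ := hchk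
  have he' : e' = 2 ∨ e' = 3 ∨ e' = 6 := by
    have := Nat.le_of_dvd (by norm_num) he6
    interval_cases e' <;> first | omega | norm_num at he6
  rcases he' with rfl | he'
  · simp only [Bool.or_eq_true, Bool.not_eq_true', ← Bool.not_eq_true, Nat.beq_eq] at hc2
    obtain ⟨r, hr⟩ := seven_two hG K'
    rcases hc2 with h | h
    · exact h (by rw [hmN]; omega)
    · refine h ?_
      rw [show m / 14 = Nat.card V' by omega]
      exact (Nat.exists_mul_self _).1 ⟨r, hr.symm⟩
  · have hc := List.all_eq_true.1 hc36 e' (by simp; omega)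
    simp only [Bool.or_eq_true, Bool.not_eq_true', ← Bool.not_eq_true, Bool.and_eq_true, Nat.beq_eq,
      List.all_eq_true] at hc
    rcases hc with hc | hc
    · exact hc (Nat.mod_eq_zero_of_dvd ⟨Nat.card V', by rw [hmN]; ring⟩)
    have hme : m / e' = Nat.card C' := by
      rw [hmN, hC'c, Nat.mul_div_cancel_left _ (by omega)]
    refine hc x ?_ ⟨⟨?_, ?_⟩, Nat.mod_eq_zero_of_dvd hJx⟩
    · refine List.mem_filter.2 ⟨mem_ordDivs (hx ▸ hG ▸ Subgroup.card_subgroup_dvd_card _), ?_⟩
      simp only [Bool.and_eq_true, Nat.beq_eq]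
      exact ⟨Nat.mod_eq_zero_of_dvd (Subgroup.card_dvd_of_le hxJ),
        Nat.mod_eq_zero_of_dvd ((show Nat.Coprime 7 11 by norm_num).mul_dvd_of_dvd_of_dvd hx7 hx11)⟩
    · rw [hme, ha']
      exact Nat.mul_mod_left _ _
    · rw [hme, ha', Nat.mul_div_cancel _ (hx ▸ Nat.card_pos), ha'11]

end Cfsg.Agent.M24Order
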