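import Cfsg.Agent.Lib.M24Order.ElevenTwelveKill
import Cfsg.Agent.Lib.M24Order.ElevenCount
import Cfsg.Agent.Lib.M23Order.Tools

/-!
A group of order 244823040 with a full action at eleven: the complement is trivial or of order 56.
-/

set_option linter.unusedSectionVars false
set_option linter.style.haveILetI false

namespace Cfsg.Agent.M24Order

open Cfsg Cfsg.Agent.Char Cfsg.Agent.Blocks Cfsg.Agent.CCSylow Cfsg.Agent.DefOne
open Cfsg.Agent.M23Order (Rows exists_rows)

universe u

/-- The possible orders of the complement. -/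
theorem vals_ten : allDivs.all (fun v => !(Nat.beq (2225664 % v) 0 && Nat.beq (v % 11) 1 &&
    !(Nat.beq (v % 23) 0)) || [1, 12, 56, 144, 672, 1728, 8064, 96768].contains v) = true := by
  decide +kernel

/-- The residues of the possible degrees at twenty-three. -/
theorem res_twelve : degsTwelve.all (fun f => Nat.beq (f % 23) 0 ||
    ([45, 252, 3840].contains f && Nat.beq (f % 23) 22)) = true := by decide +kernel

/-- The numbers of rows of degrees 45, 252 and 3840 passing the count at twenty-three. -/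
theorem triples_ten : ([144, 672, 1728, 8064, 96768] : List ℕ).all (fun v =>
    (List.range 11).all fun a => (List.range 11).all fun b => (List.range 11).all fun c =>
      !(Nat.ble (a + b + c) 10 && (!(Nat.beq (v % 7) 0) || Nat.beq b 0)) ||
      !(decide ((244823040 * (80640 - 1792 * (a : ℤ) - 320 * b - 21 * c)) % (121 * (v : ℤ) * 80640) = 0)) ||
      (Nat.beq v 144 && ((Nat.beq a 0 && Nat.beq b 3 && Nat.beq c 4) || (Nat.beq a 1 && Nat.beq b 4 && Nat.beq c 4))) ||
      (Nat.beq v 672 && Nat.beq a 1)) = true := by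
  decide +kernel

/-- The degrees other than 45, 252 and 3840. -/
def restDegs : List ℕ :=
  [15456, 12880, 8832, 7360, 5796, 4830, 3312, 2760, 1288, 1035, 736, 483, 276, 230, 23]

/-- One further row is impossible. -/
theorem rest_one : restDegs.all (fun f =>
    !(decide (1 + (45 : ℤ) - 4 * 252 + 4 * 3840 + sgP 11 f * f = 0))) = true := by
  decide +kernel

/-- Three further rows are impossible. -/
theorem rest_three : restDegs.all (fun f => restDegs.all fun g => restDegs.all fun h =>
    !(decide (1 - 3 * (252 : ℤ) + 4 * 3840 + (sgP 11 f * f + sgP 11 g * g + sgP 11 h * h) = 0)) ||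
    !(decide (244823040 * (6647 * ((f : ℤ) * g * h) + 6720 * (sgP 11 f * g * h + sgP 11 g * f * h + sgP 11 h * f * g)) %
      (121 * 144 * (6720 * ((f : ℤ) * g * h))) = 0))) = true := by
  decide +kernel

theorem fact_seven : (244823040 : ℕ).factorization 7 = 1 := by
  rw [show (244823040 : ℕ) = 7 ^ 1 * 34974720 from rfl, Nat.factorization_mul (by norm_num) (by norm_num),
    Finsupp.add_apply, Nat.Prime.factorization_pow (by norm_num : Nat.Prime 7), Finsupp.single_eq_same,
    Nat.factorization_eq_zero_of_not_dvd (by norm_num)]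

variable {G : Type u} [Group G] [Fintype G] [IsSimpleGroup G] (hG : Nat.card G = 244823040)

include hG

/-- An element of order 23 with the values of the characters of degree congruent to `0` or `-1`. -/
theorem value23 : ∃ x : G, ∀ χ : IrrCharacter G,
    (charDegree (χ : G → ℂ) % 23 = 0 → (χ : G → ℂ) x = 0) ∧
      (charDegree (χ : G → ℂ) % 23 = 22 → (χ : G → ℂ) x = -1) := by
  classical
  haveI : Fact (Nat.Prime 23) := ⟨by norm_num⟩
  obtain ⟨P, V, K, hV⟩ := twentyThree hG
  haveI : Fintype (P : Subgroup G) := Fintype.ofFinite _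
  haveI : Fintype V := Fintype.ofFinite _
  haveI : Fintype (Subgroup.normalizer ((P : Subgroup G) : Set G)) := Fintype.ofFinite _
  haveI : Fintype ((P : Subgroup G) →* ℂˣ) := Fintype.ofFinite _
  obtain ⟨M, hM⟩ := exists_isPModular_witness 23
  haveI := IsPModular.isPrime hM
  obtain ⟨y, hy⟩ := exists_ne_one_P K
  have hphi : ∀ ψ : IrrCharacter G, phi (ψ : G → ℂ) (trivB V) y = (ψ : G → ℂ) y := by
    intro ψ
    obtain ⟨hs⟩ : Nonempty (Subsingleton V) := ⟨(Nat.card_eq_one_iff_unique.1 hV).1⟩
    simp only [phi, hV, Nat.cast_one, inv_one, one_mul]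
    rw [Fintype.sum_subsingleton _ (1 : V)]
    simp [trivB]
  refine ⟨y, fun χ => ⟨fun h => ?_, fun h => ?_⟩⟩
  · rw [← hphi, phi_zero hG K hM (Nat.dvd_of_mod_eq_zero h) hy]
  · rw [← hphi, phi_unit hG K hV hM (Or.inr h) hy, sgP, if_neg (by omega)]
    norm_num

variable {P : Sylow 11 G} {V : Subgroup G}
  (K : Conf 11 (P : Subgroup G) V (Subgroup.normalizer ((P : Subgroup G) : Set G)) 10)

include K

/-- The complement is of order one of eight numbers. -/
theorem card_ten : Nat.card V ∈ ([1, 12, 56, 144, 672, 1728, 8064, 96768] : List ℕ) := by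
  haveI : Fact (Nat.Prime 11) := ⟨by norm_num⟩
  set N := Subgroup.normalizer ((P : Subgroup G) : Set G)
  have hn : N.index * (10 * (11 * Nat.card V)) = 244823040 := by
    have h := N.index_mul_card
    rwa [K.D.hcard, K.hP, hG] at h
  have hn11 : N.index % 11 = 1 := by
    have h := card_sylow_modEq_one 11 G
    rw [P.card_eq_index_normalizer] at h
    exact h
  have hv : N.index * Nat.card V = 2225664 := by linarith
  have h23 : ¬ 23 ∣ Nat.card V := M23Order.not_dvd_other K (by norm_num) fun x hx => c23 hG hx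
  have hv11 : Nat.card V % 11 = 1 := by
    have h1 : (N.index * Nat.card V) % 11 = 1 := by rw [hv]
    rw [Nat.mul_mod, hn11, one_mul, Nat.mod_mod] at h1
    exact h1
  have h := List.all_eq_true.1 vals_ten (Nat.card V)
    (mem_allDivs (hG ▸ Subgroup.card_subgroup_dvd_card V))
  simp only [Bool.or_eq_true, Bool.not_eq_true', ← Bool.not_eq_true, Bool.and_eq_true, Nat.beq_eq,
    List.contains_eq_mem, decide_eq_true_eq] at h
  refine h.resolve_left fun h' => h' ⟨⟨?_, hv11⟩, fun e => h23 (Nat.dvd_of_mod_eq_zero e)⟩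
  rw [← hv]
  exact Nat.mul_mod_left _ _

/-- The complement is not of one of the large orders. -/
theorem large_false (hv : Nat.card V ∈ ([144, 672, 1728, 8064, 96768] : List ℕ)) : False := by
  classical
  haveI : Fact (Nat.Prime 11) := ⟨by norm_num⟩
  haveI : Fact (Nat.Prime 2) := ⟨Nat.prime_two⟩
  haveI : Fintype (P : Subgroup G) := Fintype.ofFinite _
  haveI : Fintype V := Fintype.ofFinite _
  haveI : Fintype (Subgroup.normalizer ((P : Subgroup G) : Set G)) := Fintype.ofFinite _
  haveI : Fintype ((P : Subgroup G) →* ℂˣ) := Fintype.ofFinite _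
  obtain ⟨M, hM⟩ := exists_isPModular_witness 11
  haveI := IsPModular.isPrime hM
  obtain ⟨k, S, c, t, R⟩ := exists_rows hM (by norm_num) K
  obtain rfl : k = 1 := by have := R.ek; omega
  have hv23 : 2 ∣ Nat.card V ∧ 3 ∣ Nat.card V := by
    simp only [List.mem_cons, List.not_mem_nil, or_false] at hv
    rcases hv with e | e | e | e | e <;> rw [e] <;> norm_num
  obtain ⟨i, hi⟩ := exists_prime_orderOf_dvd_card' 2 hv23.1
  have hio : orderOf (i : G) = 2 := by rw [Subgroup.orderOf_coe, hi]
  obtain ⟨_, -, hres⟩ := sums23 hG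
  have hfull : ∀ χ ∈ S, ∀ q : ℕ, q.Prime → q ∣ Nat.card V →
      ¬ q ^ (244823040 : ℕ).factorization q ∣ charDegree (χ : G → ℂ) := by
    intro χ hχ q hq hqV h
    refine M23Order.not_dvd_V K hM (R.block χ hχ) hq ?_ hqV
    rw [hG]
    exact le_antisymm
      ((Nat.factorization_le_iff_dvd (charDegree_pos χ).ne' (by norm_num)).2 (deg_facts hG χ).2 q)
      ((hq.pow_dvd_iff_le_factorization (charDegree_pos χ).ne').1 h)
  have hmod : ∀ χ ∈ S, c χ = sgP 11 (charDegree (χ : G → ℂ)) ∧
      (charDegree (χ : G → ℂ) % 11 = 1 ∨ charDegree (χ : G → ℂ) % 11 = 10) := by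
    intro χ hχ
    by_cases hne : χ = t
    · subst hne
      obtain ⟨h1, h2⟩ := coef_exc K R (by norm_num)
      refine ⟨h1.trans ?_, by omega⟩
      rw [excP, sgP]
      split_ifs <;> omega
    · exact coef_ord K R (by norm_num) hχ hne
  have hdeg : ∀ χ ∈ S, charDegree (χ : G → ℂ) ∈ degsTwelve := by
    intro χ hχ
    obtain ⟨a, -, hadvd, halt⟩ := value_at hG K hM R hχ i.2 hio (by norm_num)
    have hf22 : 22 < charDegree (χ : G → ℂ) := by
      rw [abs_lt] at halt
      obtain ⟨z, hz⟩ := hadvd
      omega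
    obtain ⟨hf, hdvd⟩ := deg_facts hG χ
    haveI : Fintype (↥‹Subgroup G›) := Fintype.ofFinite _
    obtain ⟨A, -, hr, -⟩ := hres χ
    have h2 : ¬ charDegree (χ : G → ℂ) % 1024 = 0 := fun e => by
      have h := hfull χ hχ 2 Nat.prime_two hv23.1
      rw [fact_order.1] at h
      exact h (Nat.dvd_of_mod_eq_zero e)
    have h3 : ¬ charDegree (χ : G → ℂ) % 27 = 0 := fun e => by
      have h := hfull χ hχ 3 Nat.prime_three hv23.2
      rw [fact_order.2] at h
      exact h (Nat.dvd_of_mod_eq_zero e)
    have h := List.all_eq_true.1 degs_twelve _ (mem_allDivs hdvd)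
    simp only [Bool.or_eq_true, Bool.not_eq_true', ← Bool.not_eq_true, Bool.and_eq_true, Nat.ble_eq,
      Nat.blt_eq, Nat.beq_eq, List.contains_eq_mem, decide_eq_true_eq, hf22, hf, (hmod χ hχ).2, hr, h2, h3,
      not_true_eq_false, and_self, not_false_eq_true, false_or] at h
    exact h
  -- the count at twenty-three
  obtain ⟨y, hy⟩ := exists_ne_one_P K
  obtain ⟨x, hx⟩ := value23 hG
  set T : ℕ → Finset (IrrCharacter G) := fun d => S.filter fun χ => charDegree (χ : G → ℂ) = d with hT
  have hTcard : ∀ {β : Type} [AddCommMonoid β] (F : ℕ → β) (d : ℕ),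
      ∑ χ ∈ T d, F (charDegree (χ : G → ℂ)) = (T d).card • F d := by
    intro β _ F d
    rw [Finset.sum_congr rfl fun χ hχ => by rw [(Finset.mem_filter.1 hχ).2], Finset.sum_const]
  set Q : Finset (IrrCharacter G) := S.filter fun χ : IrrCharacter G => charDegree (χ : G → ℂ) ∉ ([45, 252, 3840] : List ℕ) with hQ
  have hsplit : ∀ {β : Type} [AddCommMonoid β] (F : IrrCharacter G → β), ∑ χ ∈ S, F χ =
      ∑ χ ∈ T 45, F χ + (∑ χ ∈ T 252, F χ + (∑ χ ∈ T 3840, F χ + ∑ χ ∈ Q, F χ)) := by
    intro β _ F
    simp only [hT, hQ, Finset.sum_filter, ← Finset.sum_add_distrib]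
    refine Finset.sum_congr rfl fun χ _ => ?_
    simp only [List.mem_cons, List.not_mem_nil, or_false]
    split_ifs <;> first | (exfalso; omega) | simp
  have hcard : (T 45).card + ((T 252).card + ((T 3840).card + Q.card)) = 10 := by
    have h := hsplit fun _ => 1
    simp only [Finset.sum_const, smul_eq_mul, mul_one] at h
    rw [← h, R.card]
  have hres' : ∀ χ ∈ S, charDegree (χ : G → ℂ) % 23 = 0 ∨
      (charDegree (χ : G → ℂ) ∈ ([45, 252, 3840] : List ℕ) ∧ charDegree (χ : G → ℂ) % 23 = 22) := by
    intro χ hχ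
    have h := List.all_eq_true.1 res_twelve _ (hdeg χ hχ)
    simpa only [Bool.or_eq_true, Bool.and_eq_true, Nat.beq_eq, List.contains_eq_mem, decide_eq_true_eq] using h
  set s : IrrCharacter G → ℤ := fun χ =>
    if charDegree (χ : G → ℂ) ∈ ([45, 252, 3840] : List ℕ) then -1 else 0 with hs
  obtain ⟨n, hn⟩ := section_count hG K hM R hy (z := x) (s := s) (by
    intro χ hχ
    simp only [hs]
    by_cases hm : charDegree (χ : G → ℂ) ∈ ([45, 252, 3840] : List ℕ)
    · rw [if_pos hm, (hx χ).2 (by
        rcases hres' χ hχ with h | ⟨-, h⟩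
        · exfalso
          simp only [List.mem_cons, List.not_mem_nil, or_false] at hm
          omega
        · exact h)]
      simp
    · rw [if_neg hm, (hx χ).1 ((hres' χ hχ).resolve_right fun h => hm h.1)]
      simp)
  set v := Nat.card V with hvdef
  have hnum : (n : ℤ) * (121 * v * 80640) = 244823040 *
      (80640 - 1792 * ((T 45).card : ℤ) - 320 * (T 252).card - 21 * (T 3840).card) := by
    rw [hsplit] at hn
    have e : ∀ d ∈ ([45, 252, 3840] : List ℕ), ∑ χ ∈ T d, (s χ : ℚ) / (charDegree (χ : G → ℂ) : ℕ) =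
        -((T d).card : ℚ) / d := by
      intro d hd
      rw [Finset.sum_congr rfl fun χ hχ => show (s χ : ℚ) / (charDegree (χ : G → ℂ) : ℕ) = -1 / (d : ℚ) by
        simp only [hs, (Finset.mem_filter.1 hχ).2]
        rw [if_pos hd]; norm_num, Finset.sum_const, nsmul_eq_mul]
      ring
    have e0 : ∑ χ ∈ Q, (s χ : ℚ) / (charDegree (χ : G → ℂ) : ℕ) = 0 := Finset.sum_eq_zero fun χ hχ => by
      simp only [hs]
      rw [if_neg (Finset.mem_filter.1 hχ).2]
      simp
    rw [e 45 (by simp), e 252 (by simp), e 3840 (by simp), e0] at hn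
    have h : (((n : ℤ) * (121 * v * 80640) : ℤ) : ℚ) = ((244823040 *
        (80640 - 1792 * ((T 45).card : ℤ) - 320 * (T 252).card - 21 * (T 3840).card) : ℤ) : ℚ) := by
      push_cast at hn ⊢
      linear_combination (80640 : ℚ) * hn
    exact_mod_cast h
  have h7 : v % 7 = 0 → (T 252).card = 0 := fun h => by
    rw [Finset.card_eq_zero, Finset.eq_empty_iff_forall_notMem]
    intro χ hχ
    obtain ⟨hχS, hf⟩ := Finset.mem_filter.1 hχ
    refine hfull χ hχS 7 (by norm_num) (Nat.dvd_of_mod_eq_zero h) ?_
    rw [fact_seven, hf]; norm_num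
  have h := List.all_eq_true.1 (List.all_eq_true.1 (List.all_eq_true.1 (List.all_eq_true.1 triples_ten v hv)
    (T 45).card (List.mem_range.2 (by omega))) (T 252).card (List.mem_range.2 (by omega)))
    (T 3840).card (List.mem_range.2 (by omega))
  simp only [Bool.or_eq_true, Bool.not_eq_true', ← Bool.not_eq_true, Bool.and_eq_true, Nat.ble_eq,
    Nat.beq_eq, decide_eq_true_eq] at h
  rcases h with ((h | h) | h) | h
  · refine h ⟨by omega, ?_⟩
    by_cases h' : v % 7 = 0
    · exact Or.inr (h7 h')
    · exact Or.inl h'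
  · exact h (Int.emod_eq_zero_of_dvd ⟨n, by rw [← hnum]; ring⟩)
  · -- two configurations
    obtain ⟨hv144, h⟩ := h
    have hD : 1 + ∑ χ ∈ S, c χ * (charDegree (χ : G → ℂ) : ℤ) = 0 := by
      have h := R.relation 1 (by simp)
      simp only [irr_one_eq_charDegree] at h
      exact_mod_cast h
    rw [Finset.sum_congr rfl fun χ hχ => show c χ * (charDegree (χ : G → ℂ) : ℤ) =
      sgP 11 (charDegree (χ : G → ℂ)) * (charDegree (χ : G → ℂ) : ℤ) by rw [(hmod χ hχ).1], hsplit,
      hTcard (fun d => sgP 11 d * (d : ℤ)), hTcard (fun d => sgP 11 d * (d : ℤ)),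
      hTcard (fun d => sgP 11 d * (d : ℤ))] at hD
    have hQmem : ∀ χ ∈ Q, charDegree (χ : G → ℂ) ∈ restDegs := by
      intro χ hχ
      obtain ⟨hχS, hne⟩ := Finset.mem_filter.1 hχ
      have h := hdeg χ hχS
      simp only [degsTwelve, restDegs, List.mem_cons, List.not_mem_nil, or_false] at h hne ⊢
      omega
    rcases h with ⟨⟨h45, h252⟩, h3840⟩ | ⟨⟨h45, h252⟩, h3840⟩
    · -- three further rows
      rw [h45, h252, h3840] at hD hcard
      obtain ⟨a, b, d, hab, had, hbd, hQe⟩ := Finset.card_eq_three.1 (show Q.card = 3 by omega)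
      have hsum : ∀ {β : Type} [AddCommMonoid β] (F : IrrCharacter G → β),
          ∑ χ ∈ Q, F χ = F a + (F b + F d) := by
        intro β _ F
        rw [hQe, Finset.sum_insert (by simp [hab, had]), Finset.sum_insert (by simp [hbd]), Finset.sum_singleton]
      rw [hsum] at hD
      obtain ⟨q, hq⟩ := section_count hG K hM R hy (z := (y : G)) (s := c) (by
        intro χ hχ
        rw [← phi_principal K hM (R.block χ hχ) hy, R.phi_eq χ hχ (Or.inr rfl) y hy, map_intCast])
      rw [hsplit] at hq
      have e : ∀ d ∈ ([45, 252, 3840] : List ℕ), ∑ χ ∈ T d, (c χ : ℚ) / (charDegree (χ : G → ℂ) : ℕ) =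
          ((T d).card : ℚ) * (sgP 11 d : ℚ) / d := by
        intro d _
        rw [Finset.sum_congr rfl fun χ hχ => show (c χ : ℚ) / (charDegree (χ : G → ℂ) : ℕ) = (sgP 11 d : ℚ) / d by
          rw [(hmod χ (Finset.mem_filter.1 hχ).1).1, (Finset.mem_filter.1 hχ).2], Finset.sum_const, nsmul_eq_mul]
        ring
      rw [e 45 (by simp), e 252 (by simp), e 3840 (by simp), h45, h252, h3840, hsum,
        show Nat.card V = 144 from hv144] at hq
      have hin : ∀ χ, χ = a ∨ χ = b ∨ χ = d → χ ∈ Q := fun χ h => by rw [hQe]; simpa using h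
      have hc : ∀ χ, χ = a ∨ χ = b ∨ χ = d → c χ = sgP 11 (charDegree (χ : G → ℂ)) := fun χ h =>
        (hmod χ (Finset.mem_filter.1 (hin χ h)).1).1
      have h := List.all_eq_true.1 (List.all_eq_true.1 (List.all_eq_true.1 rest_three
        _ (hQmem a (hin a (Or.inl rfl)))) _ (hQmem b (hin b (Or.inr (Or.inl rfl)))))
        _ (hQmem d (hin d (Or.inr (Or.inr rfl))))
      simp only [Bool.or_eq_true, Bool.not_eq_true', ← Bool.not_eq_true, decide_eq_true_eq] at h
      rcases h with h | h
      · simp only [show sgP 11 45 = 1 from rfl, show sgP 11 252 = -1 from rfl, show sgP 11 3840 = 1 from rfl,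
          nsmul_eq_mul] at hD
        push_cast at hD
        exact h (by linarith)
      · refine h (Int.emod_eq_zero_of_dvd ⟨q, ?_⟩)
        rw [hc a (Or.inl rfl), hc b (Or.inr (Or.inl rfl)), hc d (Or.inr (Or.inr rfl)),
          show sgP 11 45 = 1 from rfl, show sgP 11 252 = -1 from rfl, show sgP 11 3840 = 1 from rfl] at hq
        have hfa : ((charDegree (a : G → ℂ) : ℕ) : ℚ) ≠ 0 := Nat.cast_ne_zero.2 (charDegree_pos a).ne'
        have hfb : ((charDegree (b : G → ℂ) : ℕ) : ℚ) ≠ 0 := Nat.cast_ne_zero.2 (charDegree_pos b).ne'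
        have hfd : ((charDegree (d : G → ℂ) : ℕ) : ℚ) ≠ 0 := Nat.cast_ne_zero.2 (charDegree_pos d).ne'
        refine Int.cast_injective (α := ℚ) ?_
        push_cast at hq ⊢
        rw [show (17424 : ℚ) * (6720 * ((charDegree (a : G → ℂ) : ℚ) * charDegree (b : G → ℂ) * charDegree (d : G → ℂ))) * q =
          (q : ℚ) * (121 * 144) * (6720 * ((charDegree (a : G → ℂ) : ℚ) * charDegree (b : G → ℂ) * charDegree (d : G → ℂ))) by ring, hq]
        field_simp
        ring
    · -- one further row
      rw [h45, h252, h3840] at hD hcard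
      obtain ⟨a, hQe⟩ := Finset.card_eq_one.1 (show Q.card = 1 by omega)
      rw [hQe, Finset.sum_singleton] at hD
      have h := List.all_eq_true.1 rest_one _ (hQmem a (by rw [hQe]; exact Finset.mem_singleton_self _))
      simp only [Bool.not_eq_true', decide_eq_false_iff_not] at h
      simp only [show sgP 11 45 = 1 from rfl, show sgP 11 252 = -1 from rfl, show sgP 11 3840 = 1 from rfl,
        nsmul_eq_mul] at hD
      push_cast at hD
      exact h (by linarith)
  · -- a single row of degree 45
    obtain ⟨hv672, h45⟩ := h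
    obtain ⟨χ, hχ⟩ := Finset.card_eq_one.1 h45
    obtain ⟨hχS, hf⟩ := Finset.mem_filter.1 (show χ ∈ T 45 by rw [hχ]; exact Finset.mem_singleton_self _)
    have hd1 : charDegree (principal G : G → ℂ) = 1 := Cfsg.Agent.CharX.charDegree_one
    have := M23Order.small_deg_prime K hM (R.block χ hχS) (fun ψ hψ hd => by
        rcases R.single rfl ψ hψ with h1 | h1
        · rw [h1, hd1, hf] at hd; omega
        · have hmem : ψ ∈ T 45 := Finset.mem_filter.2 ⟨h1, hd.trans hf⟩
          rwa [hχ, Finset.mem_singleton] at hmem)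
      (fun g hg => norm_ne hG (fun e : χ = principal G => R.ne_one (e ▸ hχS)) hg) (q := 7) (by norm_num)
      (by rw [show Nat.card V = 672 from hv672]; norm_num)
    omega

/-- The complement is trivial or of order 56. -/
theorem eleven_ten_cases : Nat.card V = 1 ∨ Nat.card V = 56 := by
  have h := card_ten hG K
  simp only [List.mem_cons, List.not_mem_nil, or_false] at h
  rcases h with h | h | h | h | h | h | h | h
  · exact Or.inl h
  · exact (twelve_false hG K h).elim
  · exact Or.inr h
  all_goals exact (large_false hG K (by rw [h]; simp)).elim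

end Cfsg.Agent.M24Order
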