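import Cfsg.Agent.Lib.M24Order.Column
import Cfsg.Agent.Lib.M24Order.ElevenFourBad
import Cfsg.Agent.Lib.M24Order.ElevenTwelve
import Cfsg.Agent.Lib.M24Order.ElevenSearchData
import Cfsg.Agent.Lib.M24Order.ElevenQuot

/-!
In a group of order 244823040 the centralizer of a group of order eleven, acted on fully, has no
complement of order twelve.
-/

set_option linter.unusedSectionVars false
set_option linter.style.haveILetI false

namespace Cfsg.Agent.M24Order

open Cfsg Cfsg.Agent.Char Cfsg.Agent.Blocks Cfsg.Agent.CCSylow Cfsg.Agent.DefOne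
open Cfsg.Agent.M23Order (Rows exists_rows)

universe u

/-- The degrees left by the residues and the primes of the complement. -/
theorem degs_twelve : allDivs.all (fun f => !(Nat.blt 22 f && Nat.ble f 15646 &&
    (Nat.beq (f % 11) 1 || Nat.beq (f % 11) 10) && [0, 1, 22, 11, 12].contains (f % 23) &&
    !(Nat.beq (f % 1024) 0) && !(Nat.beq (f % 27) 0)) || degsTwelve.contains f) = true := by
  decide +kernel

theorem fact_order : (244823040 : ℕ).factorization 2 = 10 ∧ (244823040 : ℕ).factorization 3 = 3 := by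
  constructor
  · rw [show (244823040 : ℕ) = 2 ^ 10 * 239085 from rfl, Nat.factorization_mul (by norm_num) (by norm_num),
      Finsupp.add_apply, Nat.Prime.factorization_pow Nat.prime_two, Finsupp.single_eq_same,
      Nat.factorization_eq_zero_of_not_dvd (by norm_num)]
  · rw [show (244823040 : ℕ) = 3 ^ 3 * 9067520 from rfl, Nat.factorization_mul (by norm_num) (by norm_num),
      Finsupp.add_apply, Nat.Prime.factorization_pow Nat.prime_three, Finsupp.single_eq_same,
      Nat.factorization_eq_zero_of_not_dvd (by norm_num)]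

variable {G : Type u} [Group G] [Fintype G] [IsSimpleGroup G] (hG : Nat.card G = 244823040)
variable {P : Sylow 11 G} {V : Subgroup G}
  (K : Conf 11 (P : Subgroup G) V (Subgroup.normalizer ((P : Subgroup G) : Set G)) 10)
  (hV : Nat.card V = 12)

include hG K hV

/-- The search excludes the order of the centralizer of an involution of the complement. -/
theorem dead_column {i : G} (hiV : i ∈ V) (hio : orderOf i = 2)
    (hdead : deadTwelve (Nat.card (Subgroup.centralizer ({i} : Set G))) = true) : False := by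
  classical
  haveI : Fact (Nat.Prime 11) := ⟨by norm_num⟩
  haveI : Fintype (P : Subgroup G) := Fintype.ofFinite _
  haveI : Fintype V := Fintype.ofFinite _
  haveI : Fintype (Subgroup.normalizer ((P : Subgroup G) : Set G)) := Fintype.ofFinite _
  haveI : Fintype ((P : Subgroup G) →* ℂˣ) := Fintype.ofFinite _
  obtain ⟨M, hM⟩ := exists_isPModular_witness 11
  haveI := IsPModular.isPrime hM
  obtain ⟨k, S, c, t, R⟩ := exists_rows hM (by norm_num) K
  obtain rfl : k = 1 := by have := R.ek; omega
  have hval := fun χ (h : χ ∈ S) => value_at hG K hM R h hiV hio (by norm_num)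
  choose! a ha hadvd halt using hval
  have hpi : ¬ 11 ∣ orderOf i := by rw [hio]; norm_num
  obtain ⟨hD, hL, hq, hd, ha2⟩ := column hG K R (by norm_num) hpi ha
  obtain ⟨_, -, hres⟩ := sums23 hG
  set C := Nat.card (Subgroup.centralizer ({i} : Set G)) with hC
  have hidx : 244823040 / C = (Subgroup.centralizer ({i} : Set G)).index :=
    Nat.div_eq_of_eq_mul_left Nat.card_pos (by rw [Subgroup.index_mul_card, hG])
  -- one option for each row
  have hopt : ∀ χ ∈ S, ∃ o ∈ dOpts C degsTwelve, o.f = charDegree (χ : G → ℂ) ∧ o.c = c χ ∧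
      GoodPair (o, a χ) := by
    intro χ hχ
    have hf22 : 22 < charDegree (χ : G → ℂ) := by
      have h1 := halt χ hχ
      rw [abs_lt] at h1
      obtain ⟨z, hz⟩ := hadvd χ hχ
      omega
    obtain ⟨hf, hdvd⟩ := deg_facts hG χ
    have hmod : c χ = sgP 11 (charDegree (χ : G → ℂ)) ∧
        (charDegree (χ : G → ℂ) % 11 = 1 ∨ charDegree (χ : G → ℂ) % 11 = 10) := by
      by_cases hne : χ = t
      · subst hne
        obtain ⟨h1, h2⟩ := coef_exc K R (by norm_num)
        refine ⟨h1.trans ?_, by omega⟩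
        rw [excP, sgP]
        split_ifs <;> omega
      · exact coef_ord K R (by norm_num) hχ hne
    haveI : Fintype (↥‹Subgroup G›) := Fintype.ofFinite _
    obtain ⟨A, -, hr, -⟩ := hres χ
    have hfull : ∀ q : ℕ, q.Prime → q ∣ Nat.card V →
        ¬ q ^ (244823040 : ℕ).factorization q ∣ charDegree (χ : G → ℂ) := by
      intro q hq hqV h
      refine M23Order.not_dvd_V K hM (R.block χ hχ) hq ?_ hqV
      rw [hG]
      exact le_antisymm ((Nat.factorization_le_iff_dvd (charDegree_pos χ).ne' (by norm_num)).2 hdvd q)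
        ((hq.pow_dvd_iff_le_factorization (charDegree_pos χ).ne').1 h)
    have h2 : ¬ 1024 ∣ charDegree (χ : G → ℂ) := by
      have := hfull 2 Nat.prime_two (by rw [hV]; norm_num)
      rwa [fact_order.1] at this
    have h3 : ¬ 27 ∣ charDegree (χ : G → ℂ) := by
      have := hfull 3 Nat.prime_three (by rw [hV]; norm_num)
      rwa [fact_order.2] at this
    have h2' : ¬ charDegree (χ : G → ℂ) % 1024 = 0 := fun e => h2 (Nat.dvd_of_mod_eq_zero e)
    have h3' : ¬ charDegree (χ : G → ℂ) % 27 = 0 := fun e => h3 (Nat.dvd_of_mod_eq_zero e)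
    have h := List.all_eq_true.1 degs_twelve _ (mem_allDivs hdvd)
    simp only [Bool.or_eq_true, Bool.not_eq_true', ← Bool.not_eq_true, Bool.and_eq_true, Nat.ble_eq,
      Nat.blt_eq, Nat.beq_eq, List.contains_eq_mem, decide_eq_true_eq, hf22, hf, hmod.2, hr,
      h2', h3', not_true_eq_false, and_self,
      not_false_eq_true, false_or] at h
    obtain ⟨o, ho, hof, hoc, hgood⟩ := mem_dOpts (C := C) h (mem_valsI (by norm_num) (halt χ hχ) (hadvd χ hχ)
      (by rw [hidx]; exact M12Uniq.dvd_index_mul χ (ha χ hχ)) (ha2 χ hχ))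
    exact ⟨o, ho, hof, hoc.trans hmod.1.symm, hgood⟩
  haveI : Nonempty DOpt := ⟨⟨0, 0, [], 0⟩⟩
  choose! o ho hof hoc hgood using hopt
  have hsum : ∀ {β : Type} [AddCommMonoid β] (F : DOpt × ℤ → β),
      ((S.val.map fun χ => (o χ, a χ)).map F).sum = ∑ χ ∈ S, F (o χ, a χ) := by
    intro β _ F
    rw [Multiset.map_map]; rfl
  refine deadD_sound (r := 10) [] hdead (S.val.map fun χ => (o χ, a χ))
    (by rw [Multiset.card_map, Finset.card_val, R.card])
    (fun x hx => by obtain ⟨χ, hχ, rfl⟩ := Multiset.mem_map.1 hx; exact ho χ hχ)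
    (fun x hx => by obtain ⟨χ, hχ, rfl⟩ := Multiset.mem_map.1 hx; exact hgood χ hχ) (by simp) ?_ ?_ ?_ ?_ ?_
  · rw [hsum, Finset.sum_congr rfl fun χ h => show (o χ).c * ((o χ).f : ℤ) =
      c χ * (charDegree (χ : G → ℂ) : ℤ) by rw [hof χ h, hoc χ h]]
    exact hD
  · simp only [List.map_nil, List.sum_nil, add_zero]
    rw [hsum, Finset.sum_congr rfl fun χ h => show (o χ).c * a χ = c χ * a χ by rw [hoc χ h]]
    exact hL
  · simp only [List.map_nil, List.sum_nil, add_zero]
    rw [hsum]
    simp only [← sq]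
    simpa using hq
  · rw [hsum]
    refine le_trans ?_ hq
    simp only [Nat.cast_one, sub_self, zero_mul, add_zero, add_le_add_iff_left]
    exact Finset.sum_le_sum fun χ h => by have := (hgood χ h).2.1; rw [← sq] at this; exact this
  · rw [hsum, Finset.sum_congr rfl fun χ h => show ((o χ).f : ℤ) * (o χ).f =
      (charDegree (χ : G → ℂ) : ℤ) ^ 2 by rw [hof χ h, sq]]
    simpa using hd

/-- The order of the centralizer of an involution of the complement. -/
theorem cent_mem {i : G} (hio : orderOf i = 2) (hiV : i ∈ V) {b : ℕ}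
    (hb : Nat.card (Subgroup.normalizer ((P : Subgroup G) : Set G) ⊓ Subgroup.centralizer ({i} : Set G) :
      Subgroup G) = b) (hb0 : 0 < b) : Nat.card (Subgroup.centralizer ({i} : Set G)) ∈ centList b := by
  haveI : Fact (Nat.Prime 11) := ⟨by norm_num⟩
  have hPi : (P : Subgroup G) ≤ Subgroup.centralizer ({i} : Set G) := fun y hy =>
    Subgroup.mem_centralizer_singleton_iff.2 (K.D.pv y hy i hiV)
  obtain ⟨a, ha, ha1⟩ := index_part P hPi
  rw [hb] at ha
  refine List.mem_filter.2 ⟨mem_allDivs (hG ▸ Subgroup.card_subgroup_dvd_card _), ?_⟩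
  simp only [Bool.and_eq_true, Nat.beq_eq, Nat.blt_eq]
  refine ⟨⟨by rw [ha, Nat.mul_mod_left], by rw [ha, Nat.mul_div_cancel _ hb0]; exact ha1⟩, ?_⟩
  refine lt_of_le_of_ne (hG ▸ Subgroup.card_le_card_group _) fun h => ?_
  have htop : Subgroup.centralizer ({i} : Set G) = ⊤ := Subgroup.eq_top_of_card_eq _ (by rw [h, hG])
  have hmem : i ∈ Subgroup.center G := Subgroup.mem_center_iff.2 fun g =>
    (Subgroup.mem_centralizer_singleton_iff.1 (htop ▸ Subgroup.mem_top g : g ∈ Subgroup.centralizer ({i} : Set G)))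
  rcases (inferInstance : (Subgroup.center G).Normal).eq_bot_or_eq_top with e | e
  · rw [e, Subgroup.mem_bot] at hmem
    rw [hmem, orderOf_one] at hio
    omega
  · have hne : ((P : Subgroup G)) ≠ ⊤ := fun e' => by
      have := K.hP
      rw [e', Subgroup.card_top, hG] at this
      norm_num at this
    have hn : (P : Subgroup G).Normal := ⟨fun y hy g => by
      rw [Subgroup.mem_center_iff.1 (e ▸ Subgroup.mem_top y : y ∈ Subgroup.center G) g, mul_inv_cancel_right]
      exact hy⟩
    rcases hn.eq_bot_or_eq_top with e' | e'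
    · have := K.hP
      rw [e', Subgroup.card_bot] at this
      norm_num at this
    · exact hne e'

/-- An involution fixed by the normalizer. -/
theorem central_false {i : G} (hiV : i ∈ V) (hio : orderOf i = 2)
    (hfix : ∀ w ∈ Subgroup.normalizer ((P : Subgroup G) : Set G), w * i * w⁻¹ = i) : False := by
  classical
  haveI : Fact (Nat.Prime 11) := ⟨by norm_num⟩
  set N := Subgroup.normalizer ((P : Subgroup G) : Set G) with hNdef
  have hNC : N ≤ Subgroup.centralizer ({i} : Set G) := fun w hw =>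
    Subgroup.mem_centralizer_singleton_iff.2 (mul_inv_eq_iff_eq_mul.1 (hfix w hw))
  have hN : Nat.card N = 1320 := by rw [K.D.hcard, K.hP, hV]
  have hmem := cent_mem hG K hV hio hiV (b := 1320) (by rw [inf_eq_left.2 hNC, hN]) (by norm_num)
  have h := List.all_eq_true.1 dead_central _ hmem
  simp only [Bool.or_eq_true, Nat.beq_eq] at h
  rcases h with h | h
  · have hidx : (Subgroup.centralizer ({i} : Set G)).index = 276 := by
      have h' := (Subgroup.centralizer ({i} : Set G)).index_mul_card
      rw [h, hG] at h'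
      omega
    have hiff : ∀ g, g ∈ ({i} : Finset G) ↔ IsConj i g ∧ ∀ y ∈ (P : Subgroup G), y * g = g * y := by
      intro g
      rw [Finset.mem_singleton]
      constructor
      · rintro rfl; exact ⟨IsConj.refl _, fun y hy => K.D.pv y hy g hiV⟩
      · rintro ⟨hc, hg⟩
        obtain ⟨a, rfl⟩ := isConj_iff.1 hc
        -- both conjugate Sylow subgroups centralize `i`
        set C := Subgroup.centralizer ({i} : Set G)
        have h1 : (P : Subgroup G) ≤ C := fun y hy => hNC (Subgroup.le_normalizer hy)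
        have h2 : ((a⁻¹ • P : Sylow 11 G) : Subgroup G) ≤ C := by
          intro x hx
          rw [Sylow.coe_subgroup_smul, Subgroup.mem_pointwise_smul_iff_inv_smul_mem] at hx
          have h := hg _ hx
          rw [Subgroup.mem_centralizer_singleton_iff]
          simp only [MulAut.smul_def] at h
          have h' : a * (x * i) * a⁻¹ = a * (i * x) * a⁻¹ := by
            calc a * (x * i) * a⁻¹ = a * x * a⁻¹ * (a * i * a⁻¹) := by group
              _ = a * i * a⁻¹ * (a * x * a⁻¹) := by simpa [mul_assoc] using h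
              _ = _ := by group
          exact mul_left_cancel (mul_right_cancel h')
        obtain ⟨c, hc'⟩ := MulAction.exists_smul_eq C ((a⁻¹ • P : Sylow 11 G).subtype h2) (P.subtype h1)
        have hcN : (c : G) * a⁻¹ ∈ N := by
          obtain ⟨z, hz⟩ := Subgroup.ne_bot_iff_exists_ne_one.1 (fun e : (P : Subgroup G) = ⊥ => by
            have := K.hP
            rw [e, Subgroup.card_bot] at this
            norm_num at this)
          have hz' : a⁻¹ * (z : G) * a ∈ ((a⁻¹ • P : Sylow 11 G) : Subgroup G) := by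
            rw [Sylow.coe_subgroup_smul, Subgroup.mem_pointwise_smul_iff_inv_smul_mem]
            simp [MulAut.smul_def, mul_assoc]
          have hmemQ : (⟨_, h2 hz'⟩ : C) ∈ (((a⁻¹ • P : Sylow 11 G).subtype h2 : Sylow 11 C) : Subgroup C) := by
            rw [Sylow.coe_subtype, Subgroup.mem_subgroupOf]
            exact hz'
          have h' := Subgroup.smul_mem_pointwise_smul _ (MulAut.conj c) _ hmemQ
          rw [← Sylow.coe_subgroup_smul, hc', Sylow.coe_subtype, Subgroup.mem_subgroupOf] at h'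
          refine K.D.hTI z z.2 (fun e => hz (Subtype.ext e)) _ ?_
          rw [show (c : G) * a⁻¹ * z * ((c : G) * a⁻¹)⁻¹ = (c : G) * (a⁻¹ * (z : G) * a) * (c : G)⁻¹ by group]
          simpa [MulAut.smul_def] using h'
        have hf := hfix _ hcN
        have hci : (c : G) * i * (c : G)⁻¹ = i :=
          mul_inv_eq_iff_eq_mul.2 (Subgroup.mem_centralizer_singleton_iff.1 c.2)
        -- `a⁻¹` fixes `i`
        have : a⁻¹ * i * a = i := by
          calc a⁻¹ * i * a = (c : G)⁻¹ * ((c : G) * a⁻¹ * i * ((c : G) * a⁻¹)⁻¹) * (c : G) := by group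
            _ = (c : G)⁻¹ * i * (c : G) := by rw [hf]
            _ = (c : G)⁻¹ * ((c : G) * i * (c : G)⁻¹) * (c : G) := by rw [hci]
            _ = i := by group
        calc a * i * a⁻¹ = a * (a⁻¹ * i * a) * a⁻¹ := by rw [this]
          _ = i := by group
    refine no_index_276_central hG ?_ hidx
    intro χ hχ hbad
    obtain ⟨v, -, hv⟩ := value_mem hG (IsPGroup.of_card (n := 1) (by rw [K.hP, pow_one])) hio hiff
      (fun u hu w hw hne => absurd ((Finset.mem_singleton.1 hu).trans (Finset.mem_singleton.1 hw).symm) hne) hχ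
    rw [hidx, Finset.card_singleton] at hv
    have := List.all_eq_true.1 no_badVals _ hbad
    rw [List.isEmpty_iff] at this
    rw [this] at hv
    simp at hv
  · exact dead_column hG K hV hiV hio h

/-- A four group. -/
theorem four_false {U : Subgroup G} {i : G} (hU : Nat.card U = 4) (hiU : i ∈ U) (hio : orderOf i = 2)
    (hUV : U ≤ V) (hUN : ∀ w ∈ Subgroup.normalizer ((P : Subgroup G) : Set G), ∀ u ∈ U, w * u * w⁻¹ ∈ U)
    (hU2 : ∀ u ∈ U, u * u = 1)
    (hy : ∀ y ∈ (P : Subgroup G), ∀ z ∈ (P : Subgroup G), y ≠ 1 → z ≠ 1 →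
      ∃ g : G, g * i * g⁻¹ = i ∧ g * y * g⁻¹ = z)
    (hu : ∀ v ∈ U, v ≠ 1 → ∃ g : G, g * i * g⁻¹ = v ∧ ∀ y ∈ (P : Subgroup G), g * y = y * g)
    (hall : ∀ g, IsConj i g → (∀ y ∈ (P : Subgroup G), y * g = g * y) → g ∈ U)
    (h440 : Nat.card (Subgroup.normalizer ((P : Subgroup G) : Set G) ⊓ Subgroup.centralizer ({i} : Set G) :
      Subgroup G) = 440) : False := by
  classical
  haveI : Fact (Nat.Prime 11) := ⟨by norm_num⟩
  set N := Subgroup.normalizer ((P : Subgroup G) : Set G) with hNdef
  set H := Subgroup.centralizer ({i} : Set G) with hHdef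
  have hiV := hUV hiU
  have hmem := cent_mem hG K hV hio hiV h440 (by norm_num)
  have h := List.all_eq_true.1 dead_four _ hmem
  simp only [Bool.or_eq_true, Nat.beq_eq] at h
  have hH : Nat.card H = 295680 := by
    rcases h with (h | h) | h
    · exfalso
      obtain ⟨-, hm⟩ := List.mem_filter.1 hmem
      simp only [Bool.and_eq_true, Nat.beq_eq] at hm
      rw [h] at hm
      omega
    · exact h
    · exact (dead_column hG K hV hiV hio h).elim
  have hPH : (P : Subgroup G) ≤ H := fun y hy' =>
    Subgroup.mem_centralizer_singleton_iff.2 (K.D.pv y hy' i hiV)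
  have hiH : i ∈ H := Subgroup.mem_centralizer_singleton_iff.2 rfl
  -- the quotient by the involution
  set Z : Subgroup H := Subgroup.zpowers ⟨i, hiH⟩
  have hZc : ∀ z ∈ Z, ∀ g : H, g * z = z * g := by
    intro z hz g
    obtain ⟨k, rfl⟩ := Subgroup.mem_zpowers_iff.1 hz
    exact ((show Commute g (⟨i, hiH⟩ : H) from
      Subtype.ext (Subgroup.mem_centralizer_singleton_iff.1 g.2)).zpow_right k).eq
  haveI : Z.Normal := ⟨fun z hz g => by rwa [hZc z hz g, mul_inv_cancel_right]⟩
  have hZ : Nat.card Z = 2 := by rw [Nat.card_zpowers, Subgroup.orderOf_mk, hio]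
  have hQ : Nat.card (H ⧸ Z) = 147840 := by
    have h := Subgroup.card_eq_card_quotient_mul_card_subgroup Z
    rw [hH, hZ] at h
    omega
  haveI : Fintype (H ⧸ Z) := Fintype.ofFinite _
  set f := QuotientGroup.mk' Z
  have hker : ∀ z : H, f z = 1 ↔ (z : G) = 1 ∨ (z : G) = i := by
    intro z
    rw [QuotientGroup.mk'_apply, QuotientGroup.eq_one_iff]
    constructor
    · intro hz
      obtain ⟨k, rfl⟩ := Subgroup.mem_zpowers_iff.1 hz
      rw [Subgroup.coe_zpow]
      rcases Int.even_or_odd k with ⟨m, rfl⟩ | ⟨m, rfl⟩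
      · left
        show i ^ (m + m) = 1
        rw [← two_mul, zpow_mul, zpow_two, hU2 i hiU, one_zpow]
      · right
        show i ^ (2 * m + 1) = i
        rw [zpow_add_one, zpow_mul, zpow_two, hU2 i hiU, one_zpow, one_mul]
    · rintro (e | e)
      · rw [show z = 1 from Subtype.ext e]; exact one_mem _
      · rw [show z = ⟨i, hiH⟩ from Subtype.ext e]; exact Subgroup.mem_zpowers _
  set PH := (P : Subgroup G).subgroupOf H
  have hPbar : Nat.card (PH.map f) = 11 := by
    have hcard : Nat.card PH = 11 := by rw [Nat.card_congr (Subgroup.subgroupOfEquivOfLe hPH).toEquiv]; exact K.hP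
    have hd : Nat.card (PH.map f) ∣ 11 := hcard ▸ Subgroup.card_map_dvd PH f
    refine ((Nat.dvd_prime (by norm_num)).1 hd).resolve_left fun h1 => ?_
    obtain ⟨y, hy', hy1⟩ : ∃ y ∈ (P : Subgroup G), y ≠ 1 := by
      obtain ⟨y, hy⟩ := Subgroup.ne_bot_iff_exists_ne_one.1 (fun e : (P : Subgroup G) = ⊥ => by
        have := K.hP
        rw [e, Subgroup.card_bot] at this
        norm_num at this)
      exact ⟨y, y.2, fun e => hy (Subtype.ext e)⟩
    have : f ⟨y, hPH hy'⟩ = 1 := by
      have hb : PH.map f = ⊥ := Subgroup.eq_bot_of_card_eq _ h1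
      exact Subgroup.mem_bot.1 (hb ▸ Subgroup.mem_map_of_mem f (show (⟨y, hPH hy'⟩ : H) ∈ PH from hy'))
    rcases (hker _).1 this with e | e
    · exact hy1 e
    · have h2 := Subgroup.orderOf_dvd_natCard _ hy'
      rw [K.hP, show y = i from e, hio] at h2
      norm_num at h2
  have hfac : (147840 : ℕ).factorization 11 = 1 := by
    rw [show (147840 : ℕ) = 11 ^ 1 * 13440 from rfl, Nat.factorization_mul (by norm_num) (by norm_num),
      Finsupp.add_apply, Nat.Prime.factorization_pow (by norm_num : Nat.Prime 11), Finsupp.single_eq_same,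
      Nat.factorization_eq_zero_of_not_dvd (by norm_num)]
  obtain ⟨PQ, hPQ⟩ : ∃ PQ : Sylow 11 (H ⧸ Z), (PQ : Subgroup (H ⧸ Z)) = PH.map f :=
    ⟨Sylow.ofCard (PH.map f) (by rw [hPbar, hQ, hfac, pow_one]), rfl⟩
  -- lifting the action on the image
  have hlift : ∀ (g : H) (y : G) (hy : y ∈ (P : Subgroup G)), g.1 * y * g.1⁻¹ ∈ H := fun g y hy' =>
    mul_mem (mul_mem g.2 (hPH hy')) (inv_mem g.2)
  have hord : ∀ y ∈ (P : Subgroup G), y ^ 11 = 1 := fun y hy' => by
    have h := pow_card_eq_one' (x := (⟨y, hy'⟩ : (P : Subgroup G)))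
    rw [show Nat.card (P : Subgroup G) = 11 from K.hP] at h
    exact congrArg Subtype.val h
  have hkey : ∀ (x : G) (hx : x ∈ H) (z : G), z ∈ (P : Subgroup G) → ∀ hz : z ∈ H, x ^ 11 = 1 →
      f ⟨x, hx⟩ = f ⟨z, hz⟩ → x = z := by
    intro x hx z hzP hz hx11 he
    have h1 : f ((⟨z, hz⟩ : H)⁻¹ * ⟨x, hx⟩) = 1 := by rw [map_mul, map_inv, he, inv_mul_cancel]
    rcases (hker _).1 h1 with e | e
    · exact (inv_mul_eq_one.1 e).symm
    · exfalso
      have hxe : x = z * i := inv_mul_eq_iff_eq_mul.1 e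
      have hc : Commute z i := K.D.pv z hzP i hiV
      rw [hxe, hc.mul_pow, hord z hzP, one_mul, show 11 = 2 * 5 + 1 from rfl, pow_succ, pow_mul, pow_two,
        hU2 i hiU, one_pow, one_mul] at hx11
      rw [hx11, orderOf_one] at hio
      omega
  have hnorm : ∀ g : H, f g ∈ Subgroup.normalizer ((PQ : Subgroup (H ⧸ Z)) : Set (H ⧸ Z)) ↔
      (g : G) ∈ N := by
    intro g
    rw [hPQ]
    constructor
    · intro hg
      rw [hNdef, Subgroup.mem_normalizer_iff]
      have key : ∀ g : H, f g ∈ Subgroup.normalizer ((PH.map f : Subgroup (H ⧸ Z)) : Set (H ⧸ Z)) →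
          ∀ y ∈ (P : Subgroup G), (g : G) * y * (g : G)⁻¹ ∈ (P : Subgroup G) := by
        intro g hg y hy'
        obtain ⟨z, hz, he⟩ := Subgroup.mem_map.1 ((Subgroup.mem_normalizer_iff.1 hg _).1
          (Subgroup.mem_map_of_mem f (show (⟨y, hPH hy'⟩ : H) ∈ PH from hy')))
        have he' : f ⟨(g : G) * y * (g : G)⁻¹, hlift g y hy'⟩ = f ⟨(z : G), z.2⟩ := by
          rw [show (⟨(g : G) * y * (g : G)⁻¹, hlift g y hy'⟩ : H) = g * ⟨y, hPH hy'⟩ * g⁻¹ from rfl,
            map_mul, map_mul, map_inv, ← he]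
        rw [hkey _ _ _ hz z.2 (by rw [conj_pow, hord y hy', mul_one, mul_inv_cancel]) he']
        exact hz
      intro y
      refine ⟨key g hg y, fun hy' => ?_⟩
      have h := key g⁻¹ (by rw [map_inv]; exact inv_mem hg) _ hy'
      simpa [mul_assoc] using h
    · intro hg
      rw [Subgroup.mem_normalizer_iff]
      intro q
      rw [hNdef, Subgroup.mem_normalizer_iff] at hg
      constructor
      · intro hq
        obtain ⟨z, hz, rfl⟩ := Subgroup.mem_map.1 hq
        refine Subgroup.mem_map.2 ⟨g * z * g⁻¹, ?_, by rw [map_mul, map_mul, map_inv]⟩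
        exact (hg (z : G)).1 hz
      · intro hq
        obtain ⟨z, hz, he⟩ := Subgroup.mem_map.1 hq
        refine Subgroup.mem_map.2 ⟨g⁻¹ * z * g, ?_, by rw [map_mul, map_mul, map_inv, he]; group⟩
        show (g : G)⁻¹ * (z : G) * (g : G) ∈ (P : Subgroup G)
        refine (hg _).2 ?_
        rwa [show (g : G) * ((g : G)⁻¹ * (z : G) * (g : G)) * (g : G)⁻¹ = (z : G) by group]
  have hcent : ∀ g : H, f g ∈ Subgroup.centralizer ((PQ : Subgroup (H ⧸ Z)) : Set (H ⧸ Z)) ↔
      (g : G) ∈ Subgroup.centralizer ((P : Subgroup G) : Set G) := by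
    intro g
    rw [hPQ, Subgroup.mem_centralizer_iff, Subgroup.mem_centralizer_iff]
    constructor
    · intro hg y hy'
      have he := hg _ (Subgroup.mem_map_of_mem f (show (⟨y, hPH hy'⟩ : H) ∈ PH from hy'))
      have he' : f ⟨(g : G) * y * (g : G)⁻¹, hlift g y hy'⟩ = f ⟨y, hPH hy'⟩ := by
        rw [show (⟨(g : G) * y * (g : G)⁻¹, hlift g y hy'⟩ : H) = g * ⟨y, hPH hy'⟩ * g⁻¹ from rfl,
          map_mul, map_mul, map_inv, ← he, mul_inv_cancel_right]
      exact (mul_inv_eq_iff_eq_mul.1
        (hkey _ _ _ hy' _ (by rw [conj_pow, hord y hy', mul_one, mul_inv_cancel]) he')).symm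
    · rintro hg q hq
      obtain ⟨z, hz, rfl⟩ := Subgroup.mem_map.1 hq
      rw [← map_mul, ← map_mul]
      exact congrArg f (Subtype.ext (hg (z : G) hz))
  have hdouble : ∀ (A : Subgroup G) (B : Subgroup (H ⧸ Z)), (∀ g : H, f g ∈ B ↔ (g : G) ∈ A) →
      2 * Nat.card B = Nat.card (A ⊓ H : Subgroup G) := by
    intro A B hAB
    have h1 : Nat.card (B.comap f) = Nat.card B * Nat.card Z := by
      have e1 := (B.comap f).card_mul_index
      rw [Subgroup.index_comap_of_surjective B (QuotientGroup.mk'_surjective Z)] at e1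
      refine Nat.eq_of_mul_eq_mul_right (Nat.pos_of_ne_zero (Subgroup.index_ne_zero_of_finite (H := B))) ?_
      rw [e1, mul_right_comm, B.card_mul_index, hH, hQ, hZ]
      norm_num
    rw [← Nat.card_congr (Subgroup.subgroupOfEquivOfLe (inf_le_right : A ⊓ H ≤ H)).toEquiv,
      show (A ⊓ H).subgroupOf H = B.comap f by
        ext g
        rw [Subgroup.mem_subgroupOf, Subgroup.mem_inf, Subgroup.mem_comap, hAB]
        exact and_iff_left g.2, h1, hZ, mul_comm]
  have hNQ : Nat.card (Subgroup.normalizer ((PQ : Subgroup (H ⧸ Z)) : Set (H ⧸ Z))) = 220 := by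
    have := hdouble N _ hnorm
    rw [h440] at this
    omega
  -- the centralizer in `H`
  have hVH : Nat.card (V ⊓ H : Subgroup G) = 4 := by
    have h := card_conjugates_mul V i
    have horb : Nat.card {g : G // ∃ w ∈ V, w * i * w⁻¹ = g} = 3 := by
      haveI : Fintype U := Fintype.ofFinite _
      have hi1 : i ≠ 1 := fun e => by rw [e, orderOf_one] at hio; omega
      have hVN := V_le_N K
      rw [Nat.card_congr (show {g : G // ∃ w ∈ V, w * i * w⁻¹ = g} ≃ {u : U // u ≠ 1} from
        { toFun := fun g => ⟨⟨g.1, by obtain ⟨w, hw, e⟩ := g.2; rw [← e]; exact hUN w (hVN hw) i hiU⟩, fun h => by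
            obtain ⟨w, hw, e⟩ := g.2
            have h' : g.1 = 1 := congrArg Subtype.val h
            rw [h'] at e
            exact hi1 ((conj_eq_one_iff (a := w)).1 e)⟩
          invFun := fun u => ⟨u.1.1, by
            obtain ⟨g, hg, hgP⟩ := hu u.1.1 u.1.2 (fun h => u.2 (Subtype.ext h))
            obtain ⟨y, hy', v, hv, hyv⟩ := (K.hC g).1
              (Subgroup.mem_centralizer_iff.2 fun y hy' => (hgP y hy').symm)
            refine ⟨v, hv, ?_⟩
            have hym : y * (v * i * v⁻¹) = v * i * v⁻¹ * y :=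
              K.D.pv y hy' _ (mul_mem (mul_mem hv hiV) (inv_mem hv))
            rw [← hg, ← hyv, show y * v * i * (y * v)⁻¹ = y * (v * i * v⁻¹) * y⁻¹ by group, hym,
              mul_inv_cancel_right]⟩
          left_inv := fun g => rfl
          right_inv := fun u => rfl }), Nat.card_eq_fintype_card, Fintype.card_subtype_compl,
        Fintype.card_subtype_eq, ← Nat.card_eq_fintype_card, hU]
    rw [horb, hV] at h
    change 3 * Nat.card (V ⊓ H : Subgroup G) = 12 at h
    omega
  have hCQ : Nat.card (Subgroup.centralizer ((PQ : Subgroup (H ⧸ Z)) : Set (H ⧸ Z))) = 22 := by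
    have h := hdouble _ _ hcent
    have hCH : Nat.card (Subgroup.centralizer ((P : Subgroup G) : Set G) ⊓ H : Subgroup G) = 44 := by
      rw [show (44 : ℕ) = Nat.card (P : Subgroup G) * Nat.card (V ⊓ H : Subgroup G) by rw [hVH]; rw [show
        Nat.card (P : Subgroup G) = 11 from K.hP], ← Nat.card_prod]
      symm
      refine Nat.card_eq_of_bijective (fun p => ⟨(p.1 : G) * (p.2 : G), (K.hC _).2
        ⟨p.1, p.1.2, p.2, p.2.2.1, rfl⟩, mul_mem (hPH p.1.2) p.2.2.2⟩) ⟨?_, ?_⟩
      · intro p q e
        have e' : (p.1 : G) * (p.2 : G) = (q.1 : G) * (q.2 : G) := congrArg Subtype.val e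
        have hd : (q.1 : G)⁻¹ * p.1 = (q.2 : G) * (p.2 : G)⁻¹ := by
          calc (q.1 : G)⁻¹ * p.1 = (q.1 : G)⁻¹ * ((p.1 : G) * p.2) * (p.2 : G)⁻¹ := by group
            _ = (q.1 : G)⁻¹ * ((q.1 : G) * q.2) * (p.2 : G)⁻¹ := by rw [e']
            _ = _ := by group
        have hm1 : (q.1 : G)⁻¹ * p.1 ∈ (P : Subgroup G) := mul_mem (inv_mem q.1.2) p.1.2
        have hm2 : (q.1 : G)⁻¹ * p.1 ∈ V := hd ▸ mul_mem q.2.2.1 (inv_mem p.2.2.1)
        have h1 : (q.1 : G)⁻¹ * p.1 = 1 := by
          rw [← orderOf_eq_one_iff]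
          exact Nat.Coprime.eq_one_of_dvd (Nat.Coprime.coprime_dvd_left (Subgroup.orderOf_dvd_natCard _ hm1) K.D.cop)
            (Subgroup.orderOf_dvd_natCard _ hm2)
        have h2 : p.1 = q.1 := Subtype.ext (inv_mul_eq_one.1 h1).symm
        refine Prod.ext h2 (Subtype.ext ?_)
        rw [h2] at e'
        exact mul_left_cancel e'
      · rintro ⟨g, hg1, hg2⟩
        obtain ⟨y, hy', v, hv, rfl⟩ := (K.hC g).1 hg1
        exact ⟨(⟨y, hy'⟩, ⟨v, hv, by simpa using mul_mem (inv_mem (hPH hy')) hg2⟩), rfl⟩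
    rw [hCH] at h
    omega
  -- a second involution
  have hUH : U ≤ H := fun u hu' => by
    rw [Subgroup.mem_centralizer_singleton_iff]
    have e := hU2 _ (mul_mem hu' hiU)
    have e1 := inv_eq_of_mul_eq_one_left (hU2 u hu')
    have e2 := inv_eq_of_mul_eq_one_left (hU2 i hiU)
    rw [eq_inv_of_mul_eq_one_left e, mul_inv_rev, e1, e2]
  obtain ⟨j, hjU, hj1, hji⟩ : ∃ j ∈ U, j ≠ 1 ∧ j ≠ i := by
    by_contra h
    push Not at h
    haveI : Fintype U := Fintype.ofFinite _
    have hsub : (Finset.univ.filter fun g : G => g ∈ U) ⊆ ({1, i} : Finset G) := fun g hg => by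
      rw [Finset.mem_insert, Finset.mem_singleton]
      by_cases hg1 : g = 1
      · exact Or.inl hg1
      · exact Or.inr (h g (Finset.mem_filter.1 hg).2 hg1)
    have h4 := Finset.card_le_card hsub
    rw [← Fintype.card_subtype, ← Nat.card_eq_fintype_card] at h4
    have : Nat.card U ≤ 2 := h4.trans Finset.card_le_two
    omega
  have hUel : ∀ u ∈ U, u = 1 ∨ u = i ∨ u = j ∨ u = i * j := by
    intro u hu'
    haveI : Fintype U := Fintype.ofFinite _
    have hi1 : i ≠ 1 := fun e => by rw [e, orderOf_one] at hio; omega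
    have hsub : ({1, i, j, i * j} : Finset G) ⊆ (Finset.univ.filter fun g : G => g ∈ U) := fun g hg => by
      simp only [Finset.mem_insert, Finset.mem_singleton] at hg
      refine Finset.mem_filter.2 ⟨Finset.mem_univ _, ?_⟩
      rcases hg with rfl | rfl | rfl | rfl
      exacts [one_mem U, hiU, hjU, mul_mem hiU hjU]
    have hc4 : ({1, i, j, i * j} : Finset G).card = 4 := by
      have h1 : i * j ≠ 1 := fun e => hji (by
        rw [← inv_eq_of_mul_eq_one_right e, inv_eq_of_mul_eq_one_left (hU2 i hiU)])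
      have h2 : i * j ≠ i := fun e => hj1 (mul_eq_left.1 e)
      have h3 : i * j ≠ j := fun e => hi1 (mul_eq_right.1 e)
      rw [Finset.card_insert_of_notMem, Finset.card_insert_of_notMem, Finset.card_insert_of_notMem,
        Finset.card_singleton]
      · simpa using Ne.symm h3
      · simp [Ne.symm hji, Ne.symm h2]
      · simp [Ne.symm hi1, Ne.symm hj1, Ne.symm h1]
    have heq := Finset.eq_of_subset_of_card_le hsub (by
      rw [hc4, ← Fintype.card_subtype, ← Nat.card_eq_fintype_card]
      exact hU.le)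
    have hu'' : u ∈ ({1, i, j, i * j} : Finset G) := heq ▸ Finset.mem_filter.2 ⟨Finset.mem_univ _, hu'⟩
    simpa only [Finset.mem_insert, Finset.mem_singleton] using hu''
  have htne : f ⟨j, hUH hjU⟩ ≠ 1 := fun e => by
    rcases (hker _).1 e with e | e
    · exact hj1 e
    · exact hji e
  have ht : orderOf (f ⟨j, hUH hjU⟩) = 2 := orderOf_eq_prime (by
    rw [pow_two, ← map_mul, show (⟨j, hUH hjU⟩ : H) * ⟨j, hUH hjU⟩ = 1 from Subtype.ext (hU2 j hjU),
      map_one]) htne
  have hcenter := central_of_quot hQ PQ ht ((hcent _).2 (Subgroup.mem_centralizer_iff.2 fun y hy' =>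
    K.D.pv y hy' j (hUV hjU))) hCQ hNQ
  -- the normalizer of the four group
  set NU := Subgroup.normalizer (U : Set G)
  have hHNU : H ≤ NU := by
    have key : ∀ g ∈ H, ∀ u ∈ U, g * u * g⁻¹ ∈ U := by
      intro g hg u hu'
      have hgi : g * i * g⁻¹ = i := mul_inv_eq_iff_eq_mul.2 (Subgroup.mem_centralizer_singleton_iff.1 hg)
      have hgj : g * j * g⁻¹ ∈ U := by
        have hc := Subgroup.mem_center_iff.1 hcenter (f ⟨g, hg⟩)
        have he : f ((⟨j, hUH hjU⟩ : H)⁻¹ * (⟨g, hg⟩ * ⟨j, hUH hjU⟩ * ⟨g, hg⟩⁻¹)) = 1 := by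
          rw [map_mul, map_inv, map_mul, map_mul, map_inv, hc, mul_inv_cancel_right, inv_mul_cancel]
        rcases (hker _).1 he with e | e
        · rw [show g * j * g⁻¹ = j from (inv_mul_eq_one.1 e).symm]; exact hjU
        · rw [show g * j * g⁻¹ = j * i from inv_mul_eq_iff_eq_mul.1 e]; exact mul_mem hjU hiU
      rcases hUel u hu' with rfl | rfl | rfl | rfl
      · simp
      · rw [hgi]; exact hiU
      · exact hgj
      · rw [show g * (i * j) * g⁻¹ = g * i * g⁻¹ * (g * j * g⁻¹) by group, hgi]; exact mul_mem hiU hgj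
    intro g hg
    rw [Subgroup.mem_normalizer_iff]
    refine fun u => ⟨key g hg u, fun h' => ?_⟩
    have := key g⁻¹ (inv_mem hg) _ h'
    simpa [mul_assoc] using this
  have hNNU : N ≤ NU := fun w hw => by
    rw [Subgroup.mem_normalizer_iff]
    refine fun u => ⟨hUN w hw u, fun h' => ?_⟩
    have := hUN w⁻¹ (inv_mem hw) _ h'
    simpa [mul_assoc] using this
  have hcardNU : Nat.card NU = 887040 := by
    have h := card_conjugates_mul NU i
    rw [show NU ⊓ Subgroup.centralizer ({i} : Set G) = H from inf_eq_right.2 hHNU, hH] at h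
    have h3 : Nat.card {g : G // ∃ w ∈ NU, w * i * w⁻¹ = g} = 3 := by
      haveI : Fintype U := Fintype.ofFinite _
      have hi1 : i ≠ 1 := fun e => by rw [e, orderOf_one] at hio; omega
      rw [Nat.card_congr (show {g : G // ∃ w ∈ NU, w * i * w⁻¹ = g} ≃ {u : U // u ≠ 1} from
        { toFun := fun g => ⟨⟨g.1, by
              obtain ⟨w, hw, e⟩ := g.2; rw [← e]; exact (Subgroup.mem_normalizer_iff.1 hw i).1 hiU⟩, fun h => by
            obtain ⟨w, hw, e⟩ := g.2
            have h' : g.1 = 1 := congrArg Subtype.val h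
            rw [h'] at e
            exact hi1 ((conj_eq_one_iff (a := w)).1 e)⟩
          invFun := fun u => ⟨u.1.1, by
            obtain ⟨g, hg, hgP⟩ := hu u.1.1 u.1.2 (fun h => u.2 (Subtype.ext h))
            exact ⟨g, hNNU (Subgroup.centralizer_le_normalizer _
              (Subgroup.mem_centralizer_iff.2 fun y hy' => (hgP y hy').symm)), hg⟩⟩
          left_inv := fun g => rfl
          right_inv := fun u => rfl }), Nat.card_eq_fintype_card, Fintype.card_subtype_compl,
        Fintype.card_subtype_eq, ← Nat.card_eq_fintype_card, hU]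
    rw [h3] at h
    omega
  have hidx : NU.index = 276 := by
    have h := NU.index_mul_card
    rw [hcardNU, hG] at h
    omega
  refine no_index_276 hG (four_bad hG K.hP hU (fun y hy' v hv => K.D.pv y hy' v (hUV hv)) hiU hio hy hu hall
    ?_ ?_) hidx
  · have h := H.index_mul_card
    rw [hH, hG] at h
    change H.index = 828
    omega
  · intro y hy' hy1
    have ho : orderOf y = 11 := ((Nat.dvd_prime (by norm_num)).1
      ((show Nat.card (P : Subgroup G) = 11 from K.hP) ▸ Subgroup.orderOf_dvd_natCard _ hy')).resolve_left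
      (fun e => hy1 (orderOf_eq_one_iff.1 e))
    rw [M22Uniq.cent_card K ho, hV]

/-- A complement of order twelve is impossible. -/
theorem twelve_false : False := by
  rcases twelve_cases K hV with ⟨i, hiV, hio, hfix⟩ | ⟨U, i, hU, hiU, hio, hUV, hUN, hU2, hy, hu, hall, h440⟩
  · exact central_false hG K hV hiV hio hfix
  · exact four_false hG K hV hU hiU hio hUV hUN hU2 hy hu hall h440

end Cfsg.Agent.M24Order
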