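import Cfsg.Agent.Lib.M24Order.AbelianKill

/-!
A simple group of order 244823040: the local data at seven from the rows at seven.
-/

set_option linter.unusedSectionVars false
set_option linter.style.haveILetI false

namespace Cfsg.Agent.M24Order

open Cfsg Cfsg.Agent.Char Cfsg.Agent.Blocks Cfsg.Agent.CCSylow Cfsg.Agent.DefOne
open Cfsg.Agent.M23Order (Rows)
open Cfsg.Agent.M24Uniq (Locals)

universe u

variable {G : Type u} [Group G] [Fintype G]

/-- The local data at five and at seven from the rows at seven. -/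
theorem locals_of_rows (L : Locals G) [Fact (Nat.Prime 7)] {P' : Sylow 7 G} {V' : Subgroup G}
    (K' : Conf 7 (P' : Subgroup G) V' (Subgroup.normalizer ((P' : Subgroup G) : Set G)) 3)
    [Fintype (P' : Subgroup G)] [Fintype V'] [Fintype (Subgroup.normalizer ((P' : Subgroup G) : Set G))]
    [Fintype ((P' : Subgroup G) →* ℂˣ)] {M' : Ideal AlgInt} [M'.IsPrime] (hM' : IsPModular 7 M')
    {S' : Finset (IrrCharacter G)} {c' : IrrCharacter G → ℤ} {t' : IrrCharacter G}
    (R' : Rows 7 3 2 (P' : Subgroup G) V' M' S' c' t') {χu χb : IrrCharacter G}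
    (hu : charDegree (χu : G → ℂ) = 1035) (hb : charDegree (χb : G → ℂ) = 2024)
    (hw : charDegree (t' : G → ℂ) = 990)
    (hS' : ∀ h : IrrCharacter G → ℂ, ∑ χ ∈ S', (c' χ : ℂ) * h χ = -h χu + h χb - h t') :
    ((∀ x : G, orderOf x = 5 → Nat.card (Subgroup.centralizer ({x} : Set G)) = 60) ∧
      (∀ P : Sylow 5 G, Nat.card (Subgroup.normalizer ((P : Subgroup G) : Set G)) = 240) ∧
      (∀ x : G, orderOf x = 5 →
        Nat.card {g : G // g ∈ Subgroup.centralizer ({x} : Set G) ∧ orderOf g = 2} = 3 ∧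
        Nat.card {g : G // g ∈ Subgroup.centralizer ({x} : Set G) ∧ orderOf g = 3} = 8)) ∧
    ((∀ x : G, orderOf x = 7 → Nat.card (Subgroup.centralizer ({x} : Set G)) = 42) ∧
      (∀ P : Sylow 7 G, Nat.card (Subgroup.normalizer ((P : Subgroup G) : Set G)) = 126) ∧
      (∀ x : G, orderOf x = 7 → ∃ a ∈ Subgroup.centralizer ({x} : Set G),
        ∃ b ∈ Subgroup.centralizer ({x} : Set G), ¬ Commute a b)) := by
  classical
  refine ⟨five_locals_of_seven L K' hM' R' hu hb hw hS', ?_⟩
  haveI : Fact (Nat.Prime 5) := ⟨by norm_num⟩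
  obtain ⟨P, V, _, K, -⟩ := five_conf L
  haveI : Fintype (P : Subgroup G) := Fintype.ofFinite _
  haveI : Fintype V := Fintype.ofFinite _
  haveI : Fintype (Subgroup.normalizer ((P : Subgroup G) : Set G)) := Fintype.ofFinite _
  haveI : Fintype ((P : Subgroup G) →* ℂˣ) := Fintype.ofFinite _
  obtain ⟨M, hM⟩ := exists_isPModular_witness 5
  haveI := IsPModular.isPrime hM
  obtain ⟨k, S, c, t, R⟩ := M23Order.exists_rows hM (by norm_num) K
  obtain rfl : k = 1 := by have := R.ek; omega
  have hV := seven_comp L K hM R K' hM' R' hu hb hw hS'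
  have hna := not_comm L K hM R K' hM' R' hu hb hw hS'
  refine ⟨fun x hx => by rw [M22Uniq.cent_card K' hx, hV], fun Q => ?_, fun x hx => ?_⟩
  · have h1 : (Subgroup.normalizer ((P' : Subgroup G) : Set G)).index =
        (Subgroup.normalizer ((Q : Subgroup G) : Set G)).index :=
      P'.card_eq_index_normalizer.symm.trans Q.card_eq_index_normalizer
    have h2 := (Subgroup.normalizer ((P' : Subgroup G) : Set G)).index_mul_card
    have h3 := (Subgroup.normalizer ((Q : Subgroup G) : Set G)).index_mul_card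
    rw [K'.D.hcard, K'.hP, hV] at h2
    rw [← h1, ← h2] at h3
    exact Nat.eq_of_mul_eq_mul_left (Nat.pos_of_ne_zero Subgroup.index_ne_zero_of_finite) h3
  obtain ⟨y, hy, hy1, hxy⟩ := M22Uniq.exists_conj_mem P' K'.hP hx
  obtain ⟨g, hg⟩ := isConj_iff.1 hxy
  have move : ∀ v ∈ V', g⁻¹ * v * g ∈ Subgroup.centralizer ({x} : Set G) := fun v hv => by
    refine Subgroup.mem_centralizer_singleton_iff.2 ?_
    have h : v * (g * x * g⁻¹) = g * x * g⁻¹ * v := by rw [hg]; exact (K'.D.pv y hy v hv).symm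
    calc g⁻¹ * v * g * x = g⁻¹ * (v * (g * x * g⁻¹)) * g := by group
      _ = g⁻¹ * (g * x * g⁻¹ * v) * g := by rw [h]
      _ = x * (g⁻¹ * v * g) := by group
  by_contra hno
  push Not at hno
  refine hna ⟨⟨fun a b => Subtype.ext ?_⟩⟩
  have h : Commute (g⁻¹ * (a : G) * g) (g⁻¹ * (b : G) * g) := hno _ (move a a.2) _ (move b b.2)
  have h' := h.map (MulAut.conj g)
  simpa [mul_assoc] using h'.eq

end Cfsg.Agent.M24Order
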