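import Cfsg.Agent.Lib.M24Order.Assembly
import Cfsg.Agent.Lib.M24Order.Eleven
import Cfsg.Agent.Lib.M24Order.SevenLocals

/-!
The recognition of the largest Mathieu group by its order, given the rows at seven.
-/

set_option autoImplicit false
set_option linter.unusedSectionVars false
set_option linter.style.haveILetI false

namespace Cfsg.Agent.M24Order

open Cfsg Cfsg.Agent.Char Cfsg.Agent.Blocks Cfsg.Agent.CCSylow Cfsg.Agent.DefOne
open Cfsg.Agent.M23Order (Rows)
open Cfsg.Agent.M24Uniq (Locals)

/-- The recognition from the rows at seven. -/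
theorem equiv_of_seven_rows {G : Type*} [Group G] [Fintype G] [IsSimpleGroup G] (hcard : Nat.card G = 244823040)
    (h7 : Locals G → ∃ (_ : Fact (Nat.Prime 7)) (P' : Sylow 7 G) (V' : Subgroup G)
      (_ : Conf 7 (P' : Subgroup G) V' (Subgroup.normalizer ((P' : Subgroup G) : Set G)) 3)
      (_ : Fintype V') (M' : Ideal AlgInt) (_ : M'.IsPrime) (_ : IsPModular 7 M')
      (S' : Finset (IrrCharacter G)) (c' : IrrCharacter G → ℤ) (t' χu χb : IrrCharacter G),
      Rows 7 3 2 (P' : Subgroup G) V' M' S' c' t' ∧ charDegree (χu : G → ℂ) = 1035 ∧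
      charDegree (χb : G → ℂ) = 2024 ∧ charDegree (t' : G → ℂ) = 990 ∧
      ∀ h : IrrCharacter G → ℂ, ∑ χ ∈ S', (c' χ : ℂ) * h χ = -h χu + h χb - h t') :
    Nonempty (G ≃* ↥Cfsg.M24) := by
  classical
  have key : Locals G → _ ∧ _ := fun L => by
    obtain ⟨_, P', V', K', _, M', _, hM', S', c', t', χu, χb, R', hu, hb, hw, hS'⟩ := h7 L
    haveI : Fintype (P' : Subgroup G) := Fintype.ofFinite _
    haveI : Fintype (Subgroup.normalizer ((P' : Subgroup G) : Set G)) := Fintype.ofFinite _
    haveI : Fintype ((P' : Subgroup G) →* ℂˣ) := Fintype.ofFinite _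
    exact locals_of_rows L K' hM' R' hu hb hw hS'
  exact equiv_of_local_data hcard (eleven hcard) (fun L => (key L).1) (fun L => (key L).2)

end Cfsg.Agent.M24Order
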