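import Cfsg.Agent.Lib.M24Order.FiveCount

/-!
The searches at five: the orders of the complement and the column of an involution of the complement.
-/

namespace Cfsg.Agent.M24Order

/-- The pairs of the generator with the sections allow the order of the complement. -/
def compOk (v : ℕ) (P : List ℕ) : Bool :=
  Nat.beq (12241152 % v) 0 && Nat.beq (v % 2) 0 && !(Nat.beq (v % 7) 0) && !(Nat.beq (v % 11) 0) &&
    !(Nat.beq (v % 23) 0) && Nat.beq (12241152 / v % 5) 1 &&
    !(Nat.beq (v % 3) 0 && P.any fun f => Nat.beq (f % 27) 0) &&
    decide ((244823040 * rowNum (P.map fun f => (f, sgP 5 f))) % ((25 * v * P.prod : ℕ) : ℤ) = 0)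

/-- The orders of the complement for the patterns. -/
def compList : List (List ℕ × List ℕ) :=
  [([506, 759, 5544, 5796], [2, 12, 32, 192]), ([736, 1771, 3036, 5544], [2, 12, 32]),
    ([736, 2024, 5544, 6831], [2, 32]), ([1771, 2024, 5544, 5796], [2, 12, 32, 192]),
    ([5544, 5796, 6831, 7084], [2, 32])]

set_option maxRecDepth 20000 in
theorem comp_check : compList.all (fun x => allDivs.all fun v => !(compOk v x.1) || x.2.elem v) = true := by
  decide +kernel

theorem comp_patterns : fivePats.all (fun P => compList.any fun x => x.1 == P) = true := by decide +kernel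

/-- The orders of centralizers of involutions commuting with an element of order five. -/
def cents10 : List ℕ :=
  allDivs.filter fun C => Nat.beq (C % 10) 0 && !(Nat.beq (C % 11) 0) && !(Nat.beq (C % 23) 0)

/-- The number of inverters squared is a square. -/
def squareOk (v C : ℕ) (l : List (ℕ × ℤ)) : Bool :=
  let num := rowNum l
  let X := 5 * v * 244823040 * num.natAbs
  let B := C * C * (l.map Prod.fst).prod
  decide (0 ≤ num) && Nat.beq (X % B) 0 && Nat.ble (X / B) (25 * v * v) &&
    Nat.beq (Nat.sqrt (X / B) * Nat.sqrt (X / B)) (X / B)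

/-- The last value of the column. -/
def lastVal (f g h j : ℕ) (a b x : ℤ) : ℤ := -(sgP 5 j) * (1 + (sgP 5 f * a + (sgP 5 g * b + sgP 5 h * x)))

/-- What is asked from a column. -/
def colOk (vs : List ℕ) (C : ℕ) (f g h j : ℕ) (a b x d : ℤ) : Bool :=
  Nat.blt d.natAbs j && decide (((j : ℤ) - d) % 20 = 0) && Nat.beq (244823040 / C * d.natAbs % j) 0 &&
    decide (1 + (a * a + (b * b + (x * x + d * d))) ≤ (C : ℤ)) &&
    vs.any fun v => squareOk v C [(f, sgP 5 f * a * a), (g, sgP 5 g * b * b), (h, sgP 5 h * x * x),
      (j, sgP 5 j * d * d)]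

/-- No column exists. -/
def noColumn (vs : List ℕ) (f g h j : ℕ) : Bool :=
  cents10.all fun C => (valsI C f 20).all fun a => (valsI C g 20).all fun b => (valsI C h 20).all fun x =>
    !(colOk vs C f g h j a b x (lastVal f g h j a b x))

set_option maxRecDepth 20000 in
theorem noColumn_one : noColumn [2, 12, 32] 736 1771 3036 5544 = true := by decide +kernel

set_option maxRecDepth 20000 in
theorem noColumn_two : noColumn [2, 32] 736 2024 5544 6831 = true := by decide +kernel

set_option maxRecDepth 20000 in
theorem noColumn_four : noColumn [2, 32] 5544 5796 6831 7084 = true := by decide +kernel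

end Cfsg.Agent.M24Order
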