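import Cfsg.Agent.Lib.M24Order.SectionCount
import Cfsg.Agent.Lib.M22Uniq.Invert

/-!
Pairs from a class and a section with a given product, and the divisibility coming from the action of
the centralizer of the product on them.
-/

set_option linter.unusedSectionVars false
set_option linter.style.haveILetI false

namespace Cfsg.Agent.M24Order

open Cfsg Cfsg.Agent.Char Cfsg.Agent.Blocks Cfsg.Agent.CCSylow Cfsg.Agent.DefOne
open Cfsg.Agent.M22Uniq (pairCount structure_count')
open Cfsg.Agent.M23Order (Rows)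

open scoped ComplexConjugate

universe u

variable {G : Type u} [Group G] [Fintype G]

/-- If the stabilisers of the action of the centralizer of the product on the pairs have orders
dividing `d`, the order of that centralizer divides `d` times the number of pairs. -/
theorem pairCount_dvd {a b g : G} {d : ℕ}
    (hd : ∀ a' b' : G, IsConj a a' → IsConj b b' → a' * b' = g →
      Nat.card (Subgroup.centralizer ({g} : Set G) ⊓ Subgroup.centralizer ({a'} : Set G) ⊓
        Subgroup.centralizer ({b'} : Set G) : Subgroup G) ∣ d) :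
    Nat.card (Subgroup.centralizer ({g} : Set G)) ∣ d * pairCount a b g := by
  classical
  set H := Subgroup.centralizer ({g} : Set G) with hH
  let Ω := {q : G × G // IsConj a q.1 ∧ IsConj b q.2 ∧ q.1 * q.2 = g}
  letI : MulAction H Ω :=
    { smul := fun h q => ⟨((h : G) * q.1.1 * (h : G)⁻¹, (h : G) * q.1.2 * (h : G)⁻¹),
        q.2.1.trans (isConj_iff.2 ⟨h, rfl⟩), q.2.2.1.trans (isConj_iff.2 ⟨h, rfl⟩), by
          show (h : G) * q.1.1 * (h : G)⁻¹ * ((h : G) * q.1.2 * (h : G)⁻¹) = g
          rw [show (h : G) * q.1.1 * (h : G)⁻¹ * ((h : G) * q.1.2 * (h : G)⁻¹) =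
            (h : G) * (q.1.1 * q.1.2) * (h : G)⁻¹ by group, q.2.2.2]
          exact mul_inv_eq_iff_eq_mul.2 (Subgroup.mem_centralizer_singleton_iff.1 h.2)⟩
      one_smul := fun q => by
        refine Subtype.ext ?_
        show (((1 : H) : G) * q.1.1 * ((1 : H) : G)⁻¹, ((1 : H) : G) * q.1.2 * ((1 : H) : G)⁻¹) = q.1
        simp
      mul_smul := fun h k q => by
        refine Subtype.ext ?_
        show (((h * k : H) : G) * q.1.1 * ((h * k : H) : G)⁻¹, ((h * k : H) : G) * q.1.2 * ((h * k : H) : G)⁻¹) =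
          ((h : G) * ((k : G) * q.1.1 * (k : G)⁻¹) * (h : G)⁻¹,
            (h : G) * ((k : G) * q.1.2 * (k : G)⁻¹) * (h : G)⁻¹)
        simp [mul_assoc] }
  have hcard : Nat.card Ω = pairCount a b g := by
    rw [Nat.card_eq_fintype_card, pairCount, ← Fintype.card_coe]
    refine Fintype.card_congr (Equiv.subtypeEquivRight fun q => ?_)
    simp [and_assoc]
  have hstab : ∀ q : Ω, Nat.card (MulAction.stabilizer H q) ∣ d := by
    intro q
    refine dvd_trans ?_ (hd q.1.1 q.1.2 q.2.1 q.2.2.1 q.2.2.2)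
    refine dvd_of_eq ?_
    refine Nat.card_congr
      { toFun := fun h => ⟨((h : H) : G), ?_⟩
        invFun := fun h => ⟨⟨(h : G), h.2.1.1⟩, ?_⟩
        left_inv := fun h => rfl
        right_inv := fun h => rfl }
    · have h1 := congrArg Subtype.val (MulAction.mem_stabilizer_iff.1 h.2)
      change (((h : H) : G) * q.1.1 * ((h : H) : G)⁻¹, ((h : H) : G) * q.1.2 * ((h : H) : G)⁻¹) = q.1 at h1
      rw [Prod.ext_iff] at h1
      exact ⟨⟨(h : H).2, Subgroup.mem_centralizer_singleton_iff.2 (mul_inv_eq_iff_eq_mul.1 h1.1)⟩,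
        Subgroup.mem_centralizer_singleton_iff.2 (mul_inv_eq_iff_eq_mul.1 h1.2)⟩
    · rw [MulAction.mem_stabilizer_iff]
      refine Subtype.ext ?_
      change ((h : G) * q.1.1 * (h : G)⁻¹, (h : G) * q.1.2 * (h : G)⁻¹) = q.1
      rw [mul_inv_eq_iff_eq_mul.2 (Subgroup.mem_centralizer_singleton_iff.1 h.2.1.2),
        mul_inv_eq_iff_eq_mul.2 (Subgroup.mem_centralizer_singleton_iff.1 h.2.2)]
  rw [← hcard, Nat.card_congr (MulAction.selfEquivSigmaOrbits H Ω), Nat.card_sigma, Finset.mul_sum]
  refine Finset.dvd_sum fun o _ => ?_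
  obtain ⟨r, hr⟩ := hstab o.out
  have h1 : Nat.card (MulAction.orbit H o.out) * Nat.card (MulAction.stabilizer H o.out) = Nat.card H := by
    rw [← Nat.card_prod]
    exact Nat.card_congr (MulAction.orbitProdStabilizerEquivGroup H o.out)
  rw [hr, ← h1]
  exact ⟨r, by ring⟩

variable {p : ℕ} {P V N : Subgroup G} {e : ℕ} (K : Conf p P V N e)
  [Fintype P] [Fintype V] [Fintype N] [Fintype (P →* ℂˣ)]

include K

/-- The pairs from a class and a section with the given product: their formula, and the divisibilities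
shared by the classes of the section pass to their number. -/
theorem section_pairs {y : P} (hy : y ≠ 1) (a g : G) :
    ∃ n : ℕ, (n : ℂ) * ((Nat.card (Subgroup.centralizer ({a} : Set G)) : ℂ) * p) =
      (Nat.card G : ℂ) * ∑ χ : IrrCharacter G,
        (χ : G → ℂ) a * phi (χ : G → ℂ) (trivB V) y * conj ((χ : G → ℂ) g) / (χ : G → ℂ) 1 ∧
      ∀ r d : ℕ, (∀ w : V, r ∣ d * pairCount a ((y : G) * w) g) → r ∣ d * n := by
  classical
  set m : V → ℕ := fun w => pairCount a ((y : G) * w) g with hm
  set Ca := (Nat.card (Subgroup.centralizer ({a} : Set G)) : ℂ) with hCa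
  have hCa0 : Ca ≠ 0 := Nat.cast_ne_zero.2 Nat.card_pos.ne'
  have hclass : ∀ w u : V, m (u * w * u⁻¹) = m w := by
    intro w u
    have hconj : IsConj ((y : G) * w) ((y : G) * (u * w * u⁻¹ : V)) := by
      refine isConj_iff.2 ⟨u, ?_⟩
      have huy : (u : G) * y = (y : G) * u := (K.D.pv _ y.2 _ u.2).symm
      push_cast
      calc (u : G) * ((y : G) * w) * (u : G)⁻¹ = (u : G) * y * w * (u : G)⁻¹ := by group
        _ = _ := by rw [huy]; group
    have hcl : classFinset ((y : G) * w) = classFinset ((y : G) * (u * w * u⁻¹ : V)) := by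
      ext z
      simp only [mem_classFinset]
      exact ⟨fun h => hconj.symm.trans h, fun h => hconj.trans h⟩
    simp only [hm, pairCount, hcl]
  obtain ⟨n, hn⟩ := dvd_sum_classes m hclass
  refine ⟨n, ?_, fun r d h => ?_⟩
  · have hv : (Nat.card V : ℂ) ≠ 0 := Nat.cast_ne_zero.2 Nat.card_pos.ne'
    refine mul_left_cancel₀ hv ?_
    have hphi : ∀ χ : IrrCharacter G, (Nat.card V : ℂ) *
        ((χ : G → ℂ) a * phi (χ : G → ℂ) (trivB V) y * conj ((χ : G → ℂ) g) / (χ : G → ℂ) 1) =
        ∑ w : V, (χ : G → ℂ) a * (χ : G → ℂ) ((y : G) * w) * conj ((χ : G → ℂ) g) / (χ : G → ℂ) 1 := by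
      intro χ
      simp only [phi, show ∀ w : V, (trivB V : V → ℂ) w = 1 from fun _ => rfl, map_one, mul_one,
        Finset.mul_sum, Finset.sum_mul, Finset.sum_div]
      refine Finset.sum_congr rfl fun w _ => ?_
      field_simp
    rw [mul_left_comm (Nat.card V : ℂ) (Nat.card G : ℂ), Finset.mul_sum,
      Finset.sum_congr rfl fun χ _ => hphi χ, Finset.sum_comm, Finset.mul_sum]
    calc (Nat.card V : ℂ) * ((n : ℂ) * (Ca * p))
        = ((∑ w : V, m w * Nat.card (Subgroup.centralizer ({w} : Set V)) : ℕ) : ℂ) * (Ca * p) := by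
          rw [hn]; push_cast; ring
      _ = ∑ w : V, (m w : ℂ) * (Ca * Nat.card (Subgroup.centralizer ({(y : G) * w} : Set G))) := by
          rw [Nat.cast_sum, Finset.sum_mul]
          refine Finset.sum_congr rfl fun w _ => ?_
          rw [card_cent_section K hy w]
          push_cast; ring
      _ = _ := Finset.sum_congr rfl fun w _ => structure_count' a ((y : G) * w) g
  · rcases Nat.eq_zero_or_pos r with rfl | hr
    · have h0 : ∀ w, d * m w = 0 := fun w => zero_dvd_iff.1 (h w)
      rcases Nat.eq_zero_or_pos d with rfl | hd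
      · simp
      · have hm0 : ∀ w, m w = 0 := fun w => (Nat.mul_eq_zero.1 (h0 w)).resolve_left hd.ne'
        simp only [hm0, zero_mul, Finset.sum_const_zero] at hn
        rw [(Nat.mul_eq_zero.1 hn.symm).resolve_left Nat.card_pos.ne']
        simp
    · obtain ⟨q, hq⟩ := dvd_sum_classes (fun w => d * m w / r) fun w u => by rw [hclass]
      refine ⟨q, Nat.eq_of_mul_eq_mul_left (Nat.card_pos (α := V)) ?_⟩
      rw [mul_left_comm (Nat.card V) d, ← hn, Finset.mul_sum, mul_left_comm (Nat.card V) r, ← hq, Finset.mul_sum]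
      refine Finset.sum_congr rfl fun w _ => ?_
      rw [← mul_assoc, ← mul_assoc, Nat.mul_div_cancel' (h w)]

end Cfsg.Agent.M24Order
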