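import Cfsg.Agent.Lib.M24Order.FiveRows
import Cfsg.Agent.Lib.M24Order.PairCount
import Cfsg.Agent.Lib.M23Order.SevenSix

/-!
The counts of pairs at a prime with one exceptional row: the sum over a section, the square at an
involution of the complement.
-/

set_option linter.unusedSectionVars false
set_option linter.style.haveILetI false

namespace Cfsg.Agent.M24Order

open Cfsg Cfsg.Agent.Char Cfsg.Agent.Blocks Cfsg.Agent.CCSylow Cfsg.Agent.DefOne
open Cfsg.Agent.M23Order (Rows pairs inverters)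
open Cfsg.Agent.M24Uniq (Locals)

open scoped ComplexConjugate

universe u

/-- The numerator of one plus a weighted sum of reciprocals over the product of the denominators. -/
def rowNum (l : List (ℕ × ℤ)) : ℤ :=
  ((l.map Prod.fst).prod : ℕ) + (l.map fun x => x.2 * (((l.map Prod.fst).prod / x.1 : ℕ) : ℤ)).sum

theorem rowNum_spec (l : List (ℕ × ℤ)) (h : ∀ x ∈ l, x.1 ≠ 0) :
    (1 + (l.map fun x => (x.2 : ℚ) / (x.1 : ℚ)).sum) * ((l.map Prod.fst).prod : ℕ) = (rowNum l : ℚ) := by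
  have key : ∀ l' : List (ℕ × ℤ), ∀ D : ℕ, (∀ x ∈ l', x.1 ∣ D ∧ x.1 ≠ 0) →
      (l'.map fun x => (x.2 : ℚ) / (x.1 : ℚ)).sum * (D : ℚ) =
        (((l'.map fun x => x.2 * ((D / x.1 : ℕ) : ℤ)).sum : ℤ) : ℚ) := by
    intro l' D hl
    induction l' with
    | nil => simp
    | cons x r ih =>
      obtain ⟨hd, h0⟩ := hl x List.mem_cons_self
      have h0' : (x.1 : ℚ) ≠ 0 := Nat.cast_ne_zero.2 h0
      simp only [List.map_cons, List.sum_cons, Int.cast_add, Int.cast_mul, Int.cast_natCast]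
      rw [add_mul, ih fun z hz => hl z (List.mem_cons_of_mem _ hz), Nat.cast_div hd h0']
      field_simp
  rw [rowNum, add_mul, one_mul, key l _ fun x hx => ⟨List.dvd_prod (List.mem_map_of_mem hx), h x hx⟩]
  rw [Int.cast_add, Int.cast_natCast]

variable {G : Type u} [Group G] [Fintype G]
  {p : ℕ} [Fact p.Prime] {P : Sylow p G} {V : Subgroup G} {e : ℕ}
  (K : Conf p (P : Subgroup G) V (Subgroup.normalizer ((P : Subgroup G) : Set G)) e)
  [Fintype (P : Subgroup G)] [Fintype V] [Fintype (Subgroup.normalizer ((P : Subgroup G) : Set G))]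
  [Fintype ((P : Subgroup G) →* ℂˣ)] {M : Ideal AlgInt} [M.IsPrime] (hM : IsPModular p M)
  {S : Finset (IrrCharacter G)} {c : IrrCharacter G → ℤ} {t : IrrCharacter G}
  (R : Rows p e 1 (P : Subgroup G) V M S c t)

include K hM R

/-- The value of a row at an element of the Sylow subgroup. -/
theorem row_value {χ : IrrCharacter G} (hχ : χ ∈ S) {y : (P : Subgroup G)} (hy : y ≠ 1) :
    (χ : G → ℂ) y = (c χ : ℂ) := by
  rw [← R.phi_eq χ hχ (Or.inr rfl) y hy, phi_principal K hM (R.block χ hχ) hy]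

/-- A sum against the component of the principal block. -/
theorem sum_phi_one (h : IrrCharacter G → ℂ) {y : (P : Subgroup G)} (hy : y ≠ 1) :
    ∑ χ : IrrCharacter G, h χ * phi (χ : G → ℂ) (trivB V) y = h (principal G) + ∑ χ ∈ S, (c χ : ℂ) * h χ := by
  classical
  rw [← Finset.sum_subset (Finset.subset_univ (insert (principal G) S)) fun χ _ hχ => by
      rw [phi_not_principal K hM (fun hb => hχ ((R.single rfl χ hb).elim
        (fun e => e ▸ Finset.mem_insert_self _ _) Finset.mem_insert_of_mem)) hy, mul_zero],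
    Finset.sum_insert R.ne_one,
    phi_principal K hM principal_mem_principalBlock hy,
    Finset.sum_congr rfl fun χ hχ => by rw [R.phi_eq χ hχ (Or.inr rfl) y hy, mul_comm]]
  simp [principal]

/-- Pairs from a class and the section with a given product, over the rows. -/
theorem section_rows {a g : G} {α β : IrrCharacter G → ℤ} (hα : ∀ χ ∈ S, (χ : G → ℂ) a = α χ)
    (hβ : ∀ χ ∈ S, (χ : G → ℂ) g = β χ) :
    ∃ n : ℕ, (n : ℚ) * ((Nat.card (Subgroup.centralizer ({a} : Set G)) : ℚ) * p) =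
      (Nat.card G : ℚ) * (1 + ∑ χ ∈ S, ((c χ * α χ * β χ : ℤ) : ℚ) / (charDegree (χ : G → ℂ) : ℚ)) := by
  obtain ⟨y, hy⟩ := exists_ne_one_P K
  obtain ⟨n, hn, -⟩ := section_pairs K hy a g
  refine ⟨n, ?_⟩
  have hs := sum_phi_one K hM R (fun χ => (χ : G → ℂ) a * conj ((χ : G → ℂ) g) / (χ : G → ℂ) 1) hy
  rw [Finset.sum_congr rfl fun (χ : IrrCharacter G) _ => show (χ : G → ℂ) a * phi (χ : G → ℂ) (trivB V) y * conj ((χ : G → ℂ) g) /
      (χ : G → ℂ) 1 = (χ : G → ℂ) a * conj ((χ : G → ℂ) g) / (χ : G → ℂ) 1 * phi (χ : G → ℂ) (trivB V) y by ring,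
    hs, Finset.sum_congr rfl fun χ hχ => show (c χ : ℂ) * ((χ : G → ℂ) a * conj ((χ : G → ℂ) g) / (χ : G → ℂ) 1) =
      ((c χ * α χ * β χ : ℤ) : ℂ) / (charDegree (χ : G → ℂ) : ℂ) by
        rw [hα χ hχ, hβ χ hχ, map_intCast, irr_one_eq_charDegree]; push_cast; ring,
    show (principal G : G → ℂ) a * conj ((principal G : G → ℂ) g) / (principal G : G → ℂ) 1 = 1 by
      simp [principal]] at hn
  exact Rat.cast_injective (α := ℂ) (by push_cast; exact_mod_cast hn)

/-- The pairs of conjugates of the generator with the sections. -/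
theorem t_one : ∃ n : ℕ, (n : ℚ) * ((p : ℚ) * Nat.card V * p) =
    (Nat.card G : ℚ) * (1 + ∑ χ ∈ S, (c χ : ℚ) / (charDegree (χ : G → ℂ) : ℚ)) := by
  obtain ⟨y, hy⟩ := exists_ne_one_P K
  have hy1 : (y : G) ≠ 1 := fun h => hy (Subtype.ext h)
  obtain ⟨n, hn⟩ := section_rows K hM R (α := c) (β := c) (fun χ h => row_value K hM R h hy)
    (fun χ h => row_value K hM R h hy)
  refine ⟨n, ?_⟩
  rw [M22Uniq.cent_card K (DefOne.orderOf_P K y.2 hy1), Nat.cast_mul] at hn
  rw [hn]
  congr 2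
  refine Finset.sum_congr rfl fun χ hχ => ?_
  rcases R.sign χ hχ with h | h <;> simp [h]

/-- The inverters of the generator among the conjugates of an involution. -/
theorem square_rows (hp : 2 < p) {i : G} (hio : orderOf i = 2) {α : IrrCharacter G → ℤ}
    (hα : ∀ χ ∈ S, (χ : G → ℂ) i = α χ) :
    ∃ m : ℕ, m ≤ p * Nat.card V ∧
      ((Nat.card (Subgroup.centralizer ({i} : Set G)) : ℚ) * m) ^ 2 = (p : ℚ) * Nat.card V * Nat.card G *
        (1 + ∑ χ ∈ S, ((c χ * α χ * α χ : ℤ) : ℚ) / (charDegree (χ : G → ℂ) : ℚ)) := by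
  obtain ⟨y, hy⟩ := exists_ne_one_P K
  have hii : i * i = 1 := by rw [← pow_two, ← hio, pow_orderOf_eq_one]
  have hpi : ¬ p ∣ orderOf i := by
    rw [hio]; exact fun h => absurd (Nat.le_of_dvd (by norm_num) h) (by omega)
  refine ⟨inverters (y : G) i, M23Order.Seven.inverters_le K hy i, ?_⟩
  have h := pairs K hp hy hii hii
  rw [Finset.sum_congr rfl fun (χ : IrrCharacter G) _ => show (χ : G → ℂ) i * (χ : G → ℂ) i *
      conj (phi (χ : G → ℂ) (trivB V) y) / (χ : G → ℂ) 1 =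
      (χ : G → ℂ) i * (χ : G → ℂ) i / (χ : G → ℂ) 1 * conj (phi (χ : G → ℂ) (trivB V) y) by ring,
    R.sum_phi (fun χ => (χ : G → ℂ) i * (χ : G → ℂ) i / (χ : G → ℂ) 1) (fun σ hσ χ => by
      rw [galT_apply, galT_one, irr_regular_fixed hσ χ hpi]) y hy,
    Finset.sum_congr rfl fun χ hχ => show (c χ : ℂ) * ((χ : G → ℂ) i * (χ : G → ℂ) i / (χ : G → ℂ) 1) =
      ((c χ * α χ * α χ : ℤ) : ℂ) / (charDegree (χ : G → ℂ) : ℂ) by
        rw [hα χ hχ, irr_one_eq_charDegree]; push_cast; ring,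
    show (principal G : G → ℂ) i * (principal G : G → ℂ) i / (principal G : G → ℂ) 1 = 1 by
      simp [principal]] at h
  exact Rat.cast_injective (α := ℂ) (by push_cast at h ⊢; linear_combination h)

end Cfsg.Agent.M24Order
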