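import Cfsg.Agent.Lib.M24Order.LocalFacts

/-!
The searches for the principal rows at five.
-/

namespace Cfsg.Agent.M24Order

open Cfsg.Agent.M23Uniq (t23)
open Cfsg.Agent.M24Uniq (t11)

/-- The degrees congruent to `r` or `-r` modulo five, eleven excepted. -/
def degsF (r : ℕ) : List ℕ := degs.filter fun d => !(Nat.beq d 11) && (Nat.beq (d % 5) r || Nat.beq (d % 5) (5 - r))

/-- The possible degrees of the rows at five. -/
def fivePats : List (List ℕ) :=
  [[506, 759, 5544, 5796], [736, 1771, 3036, 5544], [736, 2024, 5544, 6831], [1771, 2024, 5544, 5796],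
    [5544, 5796, 6831, 7084]]

/-- What four degrees have to satisfy. -/
def fiveOk (l : List ℕ) : Bool :=
  !(decide (1 + (l.map fun d : ℕ => sgP 5 d * (d : ℤ)).sum = 0)) ||
    !(decide (22 + (l.map fun d => sgP 5 d * t23 d).sum = 0)) ||
    !(decide (10 + (l.map fun d => sgP 5 d * t11 d).sum = 0)) ||
    l.elem 1024 || fivePats.any fun P => List.isPerm l P

set_option maxRecDepth 10000 in
/-- No rows for an action of order two. -/
theorem five_two : (degsF 1).all (fun f => (degsF 2).all fun g =>
    !(decide (1 + sgP 5 f * (f : ℤ) + excP 5 2 g * (g : ℤ) = 0))) = true := by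
  decide +kernel

/-- The fourth degree is determined by three. -/
def fiveStep (a b x : ℕ) : Bool :=
  let d := (1 + (sgP 5 a * (a : ℤ) + (sgP 5 b * (b : ℤ) + sgP 5 x * (x : ℤ)))).natAbs
  !((degsF 1).elem d) || fiveOk [a, b, x, d]

set_option maxRecDepth 10000 in
/-- The rows for an action of order four. -/
theorem five_four : (degsF 1).all (fun a => (degsF 1).all fun b => (degsF 1).all fun x => fiveStep a b x) = true := by
  decide +kernel

/-- Five patterns have no four degrees but these. -/
theorem five_four_spec {l : List ℕ} (hl : l.length = 4) (hm : ∀ d ∈ l, d ∈ degsF 1)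
    (h1 : 1 + (l.map fun d : ℕ => sgP 5 d * (d : ℤ)).sum = 0)
    (h2 : 22 + (l.map fun d => sgP 5 d * t23 d).sum = 0)
    (h3 : 10 + (l.map fun d => sgP 5 d * t11 d).sum = 0) :
    1024 ∈ l ∨ ∃ P ∈ fivePats, l.Perm P := by
  match l, hl with
  | [a, b, x, d], _ =>
    have h := List.all_eq_true.1 (List.all_eq_true.1 (List.all_eq_true.1 five_four a (hm a (by simp)))
      b (hm b (by simp))) x (hm x (by simp))
    have hd : (1 + (sgP 5 a * (a : ℤ) + (sgP 5 b * (b : ℤ) + sgP 5 x * (x : ℤ)))).natAbs = d := by
      simp only [List.map_cons, List.map_nil, List.sum_cons, List.sum_nil, add_zero] at h1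
      have hs : sgP 5 d = 1 ∨ sgP 5 d = -1 := by simp only [sgP]; split_ifs <;> simp
      rcases hs with e | e <;> rw [e] at h1 <;> omega
    simp only [fiveStep, hd, List.elem_iff.2 (hm d (by simp)), Bool.not_true, Bool.false_or, fiveOk,
      Bool.or_eq_true, Bool.not_eq_true', decide_eq_false_iff_not, List.elem_iff, List.any_eq_true,
      List.isPerm_iff] at h
    rcases h with ((((h | h) | h) | h) | h)
    · exact absurd h1 h
    · exact absurd h2 h
    · exact absurd h3 h
    · exact Or.inl h
    · exact Or.inr h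

end Cfsg.Agent.M24Order
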