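import Cfsg.Agent.Lib.M24Order.FiveColumnData

/-!
The searches joining the primes five and seven: the column of an involution on both principal blocks.
-/

namespace Cfsg.Agent.M24Order

/-- What is asked from the values on the rows at seven. -/
def joinOk (C : ℕ) (a b x d u w : ℤ) : Bool :=
  decide (1 + (a * a + (b * b + (x * x + d * d))) + u * u + 2 * (w * w) ≤ (C : ℤ)) &&
    decide (rowNum [(1035, -(u * u)), (2024, b * b), (990, -(w * w))] = 0)

/-- Every joint column satisfies a property. -/
def joinAll (v : ℕ) (cc : ℕ → Bool) (ok : ℕ → ℤ → Bool) : Bool :=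
  cents10.all fun C => !(cc C) || (valsI C 1771 20).all fun a => (valsI C 2024 20).all fun b =>
    (valsI C 5544 20).all fun x =>
      !(colOk [v] C 1771 2024 5544 5796 a b x (lastVal 1771 2024 5544 5796 a b x)) ||
        (valsI C 1035 20).all fun u => !((valsI C 990 20).elem (1 - u + b)) ||
          !(joinOk C a b x (lastVal 1771 2024 5544 5796 a b x) u (1 - u + b)) || ok C b

/-- The centralizer contains the normalizer of order 240. -/
def centralCond (C : ℕ) : Bool := Nat.beq (C % 240) 0 && Nat.beq (C / 240 % 5) 1

set_option maxRecDepth 20000 in
theorem join_two : joinAll 2 (fun _ => true) (fun _ _ => false) = true := by decide +kernel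

set_option maxRecDepth 20000 in
theorem join_thirtytwo : joinAll 32 (fun _ => true) (fun _ _ => false) = true := by decide +kernel

/-- What the index of the normalizer at seven asks from the complement. -/
def sevenCompOk (v : ℕ) : Bool :=
  !(Nat.beq (11658240 % v) 0 && !(Nat.beq (v % 5) 0) && !(Nat.beq (v % 7) 0) && !(Nat.beq (v % 11) 0) &&
    !(Nat.beq (v % 23) 0) && Nat.beq (11658240 / v % 7) 1) || [6, 48, 384, 3072].elem v

set_option maxRecDepth 20000 in
theorem sevenComp_check : allDivs.all sevenCompOk = true := by decide +kernel

set_option maxRecDepth 20000 in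
theorem join_seven : joinAll 12 (fun C => Nat.beq (C % 7) 0) (fun _ _ => false) = true := by decide +kernel

set_option maxRecDepth 20000 in
theorem join_central :
    joinAll 12 centralCond (fun C b => Nat.beq C 23040 && decide (b = -16)) = true := by decide +kernel

end Cfsg.Agent.M24Order
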