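import Cfsg.Agent.Lib.M24Order.FivePinned
import Cfsg.Agent.Lib.M24Order.FiveJoinData
import Cfsg.Agent.Lib.M24Uniq.FamiliesBase

/-!
A simple group of order 244823040: the rows at five and at seven on common elements.
-/

set_option linter.unusedSectionVars false
set_option linter.style.haveILetI false

namespace Cfsg.Agent.M24Order

open Cfsg Cfsg.Agent.Char Cfsg.Agent.Blocks Cfsg.Agent.CCSylow Cfsg.Agent.DefOne
open Cfsg.Agent.M23Order (Rows inverters pairs)
open Cfsg.Agent.M22Uniq (pairCount)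
open Cfsg.Agent.M24Uniq (Locals)

open scoped ComplexConjugate

universe u

variable {G : Type u} [Group G] [Fintype G]

/-- A sum against the components at the element itself. -/
theorem sum_phi_self {p : ℕ} {P V N : Subgroup G} {e k : ℕ} (K : Conf p P V N e)
    [Fintype P] [Fintype V] [Fintype N] [Fintype (P →* ℂˣ)] {M : Ideal AlgInt} [M.IsPrime]
    {S : Finset (IrrCharacter G)} {c : IrrCharacter G → ℤ} {t : IrrCharacter G}
    (R : Rows p e k P V M S c t) (h : IrrCharacter G → ℂ)
    (hinv : ∀ σ, FixesP p σ → ∀ χ, h (galT σ χ) = h χ) {y : P} (hy : y ≠ 1) :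
    ∑ χ : IrrCharacter G, h χ * phi (χ : G → ℂ) (trivB V) y =
      h (principal G) + ∑ χ ∈ S, (c χ : ℂ) * h χ := by
  rw [← R.sum_phi h hinv y⁻¹ (inv_ne_one.2 hy)]
  exact Finset.sum_congr rfl fun χ _ => by rw [phi_inv K χ y]

/-- With several exceptional characters the representative has another conjugate. -/
theorem exists_conj_row {p : ℕ} {P V N : Subgroup G} {e k : ℕ} (K : Conf p P V N e)
    [Fintype P] [Fintype V] [Fintype N] [Fintype (P →* ℂˣ)] {M : Ideal AlgInt} [M.IsPrime]
    (hM : IsPModular p M) {S : Finset (IrrCharacter G)} {c : IrrCharacter G → ℤ} {t : IrrCharacter G}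
    (R : Rows p e k P V M S c t) (hk : 2 ≤ k) : ∃ σ, FixesP p σ ∧ galT σ t ≠ t := by
  classical
  by_contra hall
  push Not at hall
  obtain ⟨y, hy⟩ := exists_ne_one_P K
  have hpt : principal G ≠ t := fun h => R.ne_one (h ▸ R.mem_t)
  have hinv : ∀ σ, FixesP p σ → ∀ χ : IrrCharacter G,
      (if galT σ χ = t then (1 : ℂ) else 0) = if χ = t then 1 else 0 := by
    intro σ hσ χ
    by_cases h : χ = t
    · rw [if_pos h, if_pos (h ▸ hall σ hσ)]
    · rw [if_neg h, if_neg fun h' => h (galT_injective σ (h'.trans (hall σ hσ).symm))]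
  have hphi : ∀ χ ∈ S, phi (χ : G → ℂ) (trivB V) y = (c χ : ℂ) := by
    intro χ hχ
    by_cases h : χ = t
    · subst h
      have := sum_phi_self K R (fun ψ => if ψ = χ then (1 : ℂ) else 0) hinv hy
      simpa [ite_mul, mul_ite, R.mem_t, hpt] using this
    · exact R.phi_eq χ hχ (Or.inl h) y hy
  have hcases : ∀ χ ∈ principalBlock M G, χ ∈ insert (principal G) S := fun χ hb => by
    rcases R.cases χ hb with h | h | ⟨σ, hσ, h⟩
    · exact h ▸ Finset.mem_insert_self _ _
    · exact Finset.mem_insert_of_mem h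
    · rw [← h, hall σ hσ]; exact Finset.mem_insert_of_mem R.mem_t
  have hsum := gram_self K hM hy
  rw [← Finset.sum_subset (Finset.subset_univ (insert (principal G) S)) fun χ _ hχ => by
      rw [phi_not_principal K hM (fun hb => hχ (hcases χ hb)) hy, zero_mul],
    Finset.sum_insert R.ne_one, phi_principal K hM principal_mem_principalBlock hy,
    Finset.sum_congr rfl fun χ hχ => show _ = (1 : ℂ) by
      rw [hphi χ hχ, map_intCast, ← Int.cast_mul]
      rcases R.sign χ hχ with s | s <;> rw [s] <;> norm_num] at hsum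
  simp [principal, R.card] at hsum
  have h1 : 1 + e = p := by exact_mod_cast hsum
  have h2 := R.ek
  have h3 : 2 * e ≤ k * e := Nat.mul_le_mul_right e hk
  have h4 : 0 < e := CCSylow.e_pos K.D
  omega

section

variable (L : Locals G) [Fact (Nat.Prime 5)] [Fact (Nat.Prime 7)]
  {P : Sylow 5 G} {V : Subgroup G}
  (K : Conf 5 (P : Subgroup G) V (Subgroup.normalizer ((P : Subgroup G) : Set G)) 4)
  [Fintype (P : Subgroup G)] [Fintype V] [Fintype (Subgroup.normalizer ((P : Subgroup G) : Set G))]
  [Fintype ((P : Subgroup G) →* ℂˣ)] {M : Ideal AlgInt} [M.IsPrime] (hM : IsPModular 5 M)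
  {S : Finset (IrrCharacter G)} {c : IrrCharacter G → ℤ} {t : IrrCharacter G}
  (R : Rows 5 4 1 (P : Subgroup G) V M S c t)
  {P' : Sylow 7 G} {V' : Subgroup G}
  (K' : Conf 7 (P' : Subgroup G) V' (Subgroup.normalizer ((P' : Subgroup G) : Set G)) 3)
  [Fintype (P' : Subgroup G)] [Fintype V'] [Fintype (Subgroup.normalizer ((P' : Subgroup G) : Set G))]
  [Fintype ((P' : Subgroup G) →* ℂˣ)] {M' : Ideal AlgInt} [M'.IsPrime] (hM' : IsPModular 7 M')
  {S' : Finset (IrrCharacter G)} {c' : IrrCharacter G → ℤ} {t' : IrrCharacter G}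
  (R' : Rows 7 3 2 (P' : Subgroup G) V' M' S' c' t')
  {χu χb : IrrCharacter G}
  (hu : charDegree (χu : G → ℂ) = 1035) (hb : charDegree (χb : G → ℂ) = 2024)
  (hw : charDegree (t' : G → ℂ) = 990)
  (hS' : ∀ h : IrrCharacter G → ℂ, ∑ χ ∈ S', (c' χ : ℂ) * h χ = -h χu + h χb - h t')

include L K hM R K' hM' R' hu hb hw hS'

omit hM' R' hu hb hw hS' in
/-- Five does not divide the complement at seven. -/
theorem five_not_dvd : ¬ 5 ∣ Nat.card V' := by
  obtain ⟨-, -, -, -, h7⟩ := five_pattern L K hM R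
  intro h
  obtain ⟨u, hu⟩ := exists_prime_orderOf_dvd_card' (G := V') 5 h
  obtain ⟨z, hz⟩ := exists_ne_one_P K'
  have hmem : (z : G) ∈ Subgroup.centralizer ({(u : G)} : Set G) :=
    Subgroup.mem_centralizer_singleton_iff.2 (K'.D.pv _ z.2 _ u.2)
  have h' := Subgroup.orderOf_dvd_natCard _ hmem
  rw [DefOne.orderOf_P K' z.2 (fun e => hz (Subtype.ext e)),
    M22Uniq.cent_card K (show orderOf (u : G) = 5 by rw [Subgroup.orderOf_coe, hu])] at h'
  exact h7 ((show Nat.Coprime 7 5 by norm_num).dvd_of_dvd_mul_left h')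

/-- The row of degree 2024 is common. -/
theorem common_row : χb ∈ S ∧
    S.val.map (fun χ : IrrCharacter G => charDegree (χ : G → ℂ)) =
      (([1771, 2024, 5544, 5796] : List ℕ) : Multiset ℕ) := by
  classical
  haveI := L.simple
  obtain ⟨-, -, -, -, h7⟩ := five_pattern L K hM R
  obtain ⟨y, hy⟩ := exists_ne_one_P K
  obtain ⟨z, hz⟩ := exists_ne_one_P K'
  have h0 : ∀ χ : IrrCharacter G, 5 ∣ charDegree (χ : G → ℂ) → phi (χ : G → ℂ) (trivB V) y = 0 := fun χ h => by
    simp [phi, section_zero_of_dvd K hM h hy]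
  have hreg : ∀ w : V, ¬ 7 ∣ orderOf ((y : G) * w) := fun w h => by
    have hmem : (y : G) * w ∈ Subgroup.centralizer ((P : Subgroup G) : Set G) :=
      (K.hC _).2 ⟨y, y.2, w, w.2, rfl⟩
    have h' := h.trans (Subgroup.orderOf_dvd_natCard _ hmem)
    rw [card_centralizer K] at h'
    exact h7 ((show Nat.Coprime 7 5 by norm_num).dvd_of_dvd_mul_left h')
  have horth := M23Order.phi_orth K K' (by norm_num) (five_not_dvd L K hM R K') hy z
  rw [R'.sum_phi (fun χ => phi (χ : G → ℂ) (trivB V) y) (fun σ hσ χ => by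
      simp only [phi, galT_apply]
      congr 1
      exact Finset.sum_congr rfl fun w _ => by rw [irr_regular_fixed hσ χ (hreg w)]) z hz,
    hS', h0 χu (by rw [hu]; norm_num), h0 t' (by rw [hw]; norm_num),
    phi_principal K hM principal_mem_principalBlock hy] at horth
  have hblock : χb ∈ principalBlock M G := by
    by_contra hn
    rw [phi_not_principal K hM hn hy] at horth
    simp [principal] at horth
  have hmem : χb ∈ S := (R.single rfl χb hblock).resolve_left fun h => by
    have h1 : charDegree (principal G : G → ℂ) = 1 := Cfsg.Agent.CharX.charDegree_one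
    rw [h, h1] at hb
    norm_num at hb
  refine ⟨hmem, (five_pinned L K hM R).resolve_left fun h => ?_⟩
  have h1 : (2024 : ℕ) ∈ S.val.map fun χ : IrrCharacter G => charDegree (χ : G → ℂ) :=
    Multiset.mem_map.2 ⟨χb, hmem, hb⟩
  rw [h] at h1
  exact absurd h1 (by decide)

/-- The values at the generator. -/
theorem gen_values {y : (P : Subgroup G)} (hy : y ≠ 1) :
    (χu : G → ℂ) y = 0 ∧ (χb : G → ℂ) y = -1 ∧ (t' : G → ℂ) y = 0 := by
  obtain ⟨hmem, -⟩ := common_row L K hM R K' hM' R' hu hb hw hS'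
  have h := fun χ (h : 5 ∣ charDegree ((χ : IrrCharacter G) : G → ℂ)) =>
    section_zero_of_dvd K hM (χ := χ) h hy 1
  simp only [OneMemClass.coe_one, mul_one] at h
  refine ⟨h χu (by rw [hu]; norm_num), ?_, h t' (by rw [hw]; norm_num)⟩
  obtain ⟨-, hsgn, -, -, -⟩ := five_pattern L K hM R
  rw [row_value K hM R hmem hy, hsgn _ hmem, hb, show sgP 5 2024 = -1 by decide]
  norm_num

/-- A sum over the section at seven weighted by the values at two regular elements. -/
theorem seven_sum {a g : G} (ha : ¬ 7 ∣ orderOf a) (hg : ¬ 7 ∣ orderOf g) {z : (P' : Subgroup G)}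
    (hz : z ≠ 1) {A B C D E F : ℤ} (hua : (χu : G → ℂ) a = A) (hba : (χb : G → ℂ) a = B)
    (hwa : (t' : G → ℂ) a = C) (hug : (χu : G → ℂ) g = D) (hbg : (χb : G → ℂ) g = E)
    (hwg : (t' : G → ℂ) g = F) :
    ∑ χ : IrrCharacter G, (χ : G → ℂ) a * phi (χ : G → ℂ) (trivB V') z * conj ((χ : G → ℂ) g) / (χ : G → ℂ) 1 =
      ((1 - (A * D : ℚ) / 1035 + (B * E : ℚ) / 2024 - (C * F : ℚ) / 990 : ℚ) : ℂ) := by
  have h := sum_phi_self K' R' (fun χ => (χ : G → ℂ) a * conj ((χ : G → ℂ) g) / (χ : G → ℂ) 1)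
    (fun σ hσ χ => by
      simp only [galT_apply]
      rw [irr_regular_fixed hσ χ ha, irr_regular_fixed hσ χ hg, irr_regular_fixed hσ χ
        (show ¬ 7 ∣ orderOf (1 : G) by rw [orderOf_one]; norm_num)]) hz
  rw [hS'] at h
  rw [Finset.sum_congr rfl fun (χ : IrrCharacter G) _ => show (χ : G → ℂ) a * phi (χ : G → ℂ) (trivB V') z *
      conj ((χ : G → ℂ) g) / (χ : G → ℂ) 1 =
      (χ : G → ℂ) a * conj ((χ : G → ℂ) g) / (χ : G → ℂ) 1 * phi (χ : G → ℂ) (trivB V') z by ring, h,
    hua, hba, hwa, hug, hbg, hwg]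
  simp only [irr_one_eq_charDegree, hu, hb, hw,
    show charDegree (principal G : G → ℂ) = 1 from Cfsg.Agent.CharX.charDegree_one]
  simp only [principal, map_intCast]
  push_cast
  simp
  ring

omit hM' R' hu hb hw hS' in
/-- A subgroup of both centralizers has order dividing both complements. -/
theorem dvd_comps {n : ℕ} (h5 : n ∣ 5 * Nat.card V) (h7' : n ∣ 7 * Nat.card V') :
    n ∣ Nat.gcd (Nat.card V) (Nat.card V') := by
  obtain ⟨-, -, -, -, h7⟩ := five_pattern L K hM R
  have e5 : Nat.Coprime n 5 := ((Nat.Prime.coprime_iff_not_dvd (by norm_num : Nat.Prime 5)).2 fun h =>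
    five_not_dvd L K hM R K' ((show Nat.Coprime 5 7 by norm_num).dvd_of_dvd_mul_left (h.trans h7'))).symm
  have e7 : Nat.Coprime n 7 := ((Nat.Prime.coprime_iff_not_dvd (by norm_num : Nat.Prime 7)).2 fun h =>
    h7 ((show Nat.Coprime 7 5 by norm_num).dvd_of_dvd_mul_left (h.trans h5))).symm
  exact Nat.dvd_gcd (e5.dvd_of_dvd_mul_left h5) (e7.dvd_of_dvd_mul_left h7')

/-- The common centralizers of the generator at five and a member of a section at seven. -/
theorem stab_five {y : (P : Subgroup G)} (hy : y ≠ 1) {z : (P' : Subgroup G)} (hz : z ≠ 1) (w : V')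
    {a' b' : G} (hb' : IsConj ((z : G) * w) b') :
    Nat.card (Subgroup.centralizer ({(y : G)} : Set G) ⊓ Subgroup.centralizer ({a'} : Set G) ⊓
      Subgroup.centralizer ({b'} : Set G) : Subgroup G) ∣ Nat.gcd (Nat.card V) (Nat.card V') := by
  refine dvd_comps L K hM R K' ?_ ?_
  · refine (Subgroup.card_dvd_of_le (inf_le_left.trans inf_le_left)).trans (dvd_of_eq ?_)
    exact M22Uniq.cent_card K (DefOne.orderOf_P K y.2 fun h => hy (Subtype.ext h))
  · refine (Subgroup.card_dvd_of_le inf_le_right).trans ?_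
    rw [← M22Uniq.cent_card_of_isConj hb', card_cent_section K' hz w]
    exact Nat.mul_dvd_mul_left 7 (Subgroup.card_subgroup_dvd_card _)

/-- The common centralizers of the generator at seven and a member of a section at five. -/
theorem stab_seven {y : (P : Subgroup G)} (hy : y ≠ 1) {z : (P' : Subgroup G)} (hz : z ≠ 1) (w : V)
    {a' b' : G} (hb' : IsConj ((y : G) * w) b') :
    Nat.card (Subgroup.centralizer ({(z : G)} : Set G) ⊓ Subgroup.centralizer ({a'} : Set G) ⊓
      Subgroup.centralizer ({b'} : Set G) : Subgroup G) ∣ Nat.gcd (Nat.card V) (Nat.card V') := by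
  refine dvd_comps L K hM R K' ?_ ?_
  · refine (Subgroup.card_dvd_of_le inf_le_right).trans ?_
    rw [← M22Uniq.cent_card_of_isConj hb', card_cent_section K hy w]
    exact Nat.mul_dvd_mul_left 5 (Subgroup.card_subgroup_dvd_card _)
  · refine (Subgroup.card_dvd_of_le (inf_le_left.trans inf_le_left)).trans (dvd_of_eq ?_)
    exact M22Uniq.cent_card K' (DefOne.orderOf_P K' z.2 fun h => hz (Subtype.ext h))

/-- The pairs with product the generator at five. -/
theorem five_pairs {d : ℕ} {y : (P : Subgroup G)} (hy : y ≠ 1) {z : (P' : Subgroup G)} (hz : z ≠ 1)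
    (hd : ∀ (w : V') (a' b' : G), IsConj ((z : G) * w) b' → Nat.card (Subgroup.centralizer ({(y : G)} : Set G) ⊓
      Subgroup.centralizer ({a'} : Set G) ⊓ Subgroup.centralizer ({b'} : Set G) : Subgroup G) ∣ d) :
    5 * Nat.card V * Nat.card V ∣ d * 6998400 := by
  have hy1 : (y : G) ≠ 1 := fun h => hy (Subtype.ext h)
  have hC := M22Uniq.cent_card K (DefOne.orderOf_P K y.2 hy1)
  have hr : ¬ 7 ∣ orderOf (y : G) := by rw [DefOne.orderOf_P K y.2 hy1]; norm_num
  obtain ⟨v1, v2, v3⟩ := gen_values L K hM R K' hM' R' hu hb hw hS' hy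
  obtain ⟨n, hn, hn'⟩ := section_pairs K' hz (y : G) (y : G)
  rw [seven_sum L K hM R K' hM' R' hu hb hw hS' hr hr hz (A := 0) (B := -1) (C := 0) (D := 0) (E := -1)
    (F := 0) (by simpa using v1) (by simpa using v2) (by simpa using v3) (by simpa using v1)
    (by simpa using v2) (by simpa using v3), hC, L.card] at hn
  have hnv : n * Nat.card V = 6998400 := by
    have h : ((n * Nat.card V : ℕ) : ℂ) = ((6998400 : ℕ) : ℂ) := by
      push_cast at hn ⊢
      norm_num at hn ⊢
      linear_combination hn / 35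
    exact_mod_cast h
  have hdvd : 5 * Nat.card V ∣ d * n := hn' _ d fun w => hC ▸ pairCount_dvd fun a' b' _ hb' _ =>
    hd w a' b' hb'
  have h2 := Nat.mul_dvd_mul_right hdvd (Nat.card V)
  rwa [mul_assoc d n, hnv] at h2

/-- The pairs with product the generator at seven. -/
theorem five_seven_pairs {d : ℕ} {y : (P : Subgroup G)} (hy : y ≠ 1) {z : (P' : Subgroup G)} (hz : z ≠ 1)
    (hd : ∀ (w : V) (a' b' : G), IsConj ((y : G) * w) b' → Nat.card (Subgroup.centralizer ({(z : G)} : Set G) ⊓
      Subgroup.centralizer ({a'} : Set G) ⊓ Subgroup.centralizer ({b'} : Set G) : Subgroup G) ∣ d) :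
    7 * Nat.card V' * Nat.card V' ∣ d * 6991488 := by
  classical
  obtain ⟨hmem, hdeg⟩ := common_row L K hM R K' hM' R' hu hb hw hS'
  obtain ⟨-, hsgn, -, -, -⟩ := five_pattern L K hM R
  have hz1 : (z : G) ≠ 1 := fun h => hz (Subtype.ext h)
  have hC := M22Uniq.cent_card K' (DefOne.orderOf_P K' z.2 hz1)
  -- the values at the element of order seven
  have hval : ∀ χ ∈ S, (χ : G → ℂ) z = if χ = χb then 1 else 0 := by
    intro χ hχ
    by_cases h : χ = χb
    · subst h
      rw [if_pos rfl]
      have hne : ∀ ψ : IrrCharacter G, charDegree (ψ : G → ℂ) ≠ 2024 → ψ ≠ χ := fun ψ h e => h (e ▸ hb)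
      have hδ := hS' fun ψ => if ψ = χ then 1 else 0
      simp only [if_neg (hne χu (by rw [hu]; norm_num)), if_neg (hne t' (by rw [hw]; norm_num)), if_pos rfl,
        mul_ite, mul_one, mul_zero, Finset.sum_ite_eq'] at hδ
      by_cases hin : χ ∈ S'
      · rw [if_pos hin] at hδ
        have hblock := R'.block χ hin
        rw [← phi_principal K' hM' hblock hz,
          R'.phi_eq χ hin (Or.inl (hne t' (by rw [hw]; norm_num)).symm) z hz, hδ]
        norm_num
      · rw [if_neg hin] at hδ
        norm_num at hδ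
    · rw [if_neg h]
      have hm : charDegree (χ : G → ℂ) ∈ ([1771, 2024, 5544, 5796] : List ℕ) := by
        have : charDegree (χ : G → ℂ) ∈ S.val.map fun ψ : IrrCharacter G => charDegree (ψ : G → ℂ) :=
          Multiset.mem_map.2 ⟨χ, hχ, rfl⟩
        rwa [hdeg] at this
      have hne : charDegree (χ : G → ℂ) ≠ 2024 := by
        obtain ⟨χa, χb', χx, χd, hS, da, db, dx, dd, -⟩ := four_rows (by decide) hdeg
        rw [hS] at hχ hmem
        simp only [Finset.mem_insert, Finset.mem_singleton] at hχ hmem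
        rcases hmem with e | e | e | e
        · rw [e, da] at hb; norm_num at hb
        · subst e
          rcases hχ with e | e | e | e <;> subst e
          · rw [da]; norm_num
          · exact absurd rfl h
          · rw [dx]; norm_num
          · rw [dd]; norm_num
        · rw [e, dx] at hb; norm_num at hb
        · rw [e, dd] at hb; norm_num at hb
      have h7d : 7 ∣ charDegree (χ : G → ℂ) := by
        simp only [List.mem_cons, List.not_mem_nil, or_false] at hm
        rcases hm with e | e | e | e <;> rw [e] at hne ⊢ <;> first | exact absurd rfl hne | norm_num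
      simpa using section_zero_of_dvd K' hM' h7d hz 1
  obtain ⟨n, hn, hn'⟩ := section_pairs K hy (z : G) (z : G)
  have hs := sum_phi_one K hM R (fun χ => (χ : G → ℂ) z * conj ((χ : G → ℂ) z) / (χ : G → ℂ) 1) hy
  rw [Finset.sum_congr rfl fun (χ : IrrCharacter G) _ => show (χ : G → ℂ) z * phi (χ : G → ℂ) (trivB V) y *
      conj ((χ : G → ℂ) z) / (χ : G → ℂ) 1 =
      (χ : G → ℂ) z * conj ((χ : G → ℂ) z) / (χ : G → ℂ) 1 * phi (χ : G → ℂ) (trivB V) y by ring, hs,
    Finset.sum_congr rfl fun χ hχ => show (c χ : ℂ) * ((χ : G → ℂ) z * conj ((χ : G → ℂ) z) / (χ : G → ℂ) 1) =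
      if χ = χb then (-1 / 2024 : ℂ) else 0 by
        rw [hval χ hχ]
        by_cases h : χ = χb
        · subst h
          rw [if_pos rfl, if_pos rfl, hsgn _ hχ, irr_one_eq_charDegree, hb, show sgP 5 2024 = -1 by decide]
          norm_num
        · rw [if_neg h, if_neg h]; simp,
    Finset.sum_ite_eq', if_pos hmem, show (principal G : G → ℂ) z * conj ((principal G : G → ℂ) z) /
      (principal G : G → ℂ) 1 = 1 by simp [principal], hC, L.card] at hn
  have hnv : n * Nat.card V' = 6991488 := by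
    have h : ((n * Nat.card V' : ℕ) : ℂ) = ((6991488 : ℕ) : ℂ) := by
      push_cast at hn ⊢
      norm_num at hn ⊢
      linear_combination hn / 35
    exact_mod_cast h
  have hdvd : 7 * Nat.card V' ∣ d * n := hn' _ d fun w => hC ▸ pairCount_dvd fun a' b' _ hb' _ =>
    hd w a' b' hb'
  have h2 := Nat.mul_dvd_mul_right hdvd (Nat.card V')
  rwa [mul_assoc d n, hnv] at h2

omit hM R hM' R' hu hb hw hS' K in
/-- The possible orders of the complement at seven. -/
theorem seven_comp_mem (h5 : ¬ 5 ∣ Nat.card V') : Nat.card V' ∈ [6, 48, 384, 3072] := by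
  obtain ⟨h23, h11⟩ := comp_coprime L K' (by norm_num) (by norm_num)
  have hidx := (Subgroup.normalizer ((P' : Subgroup G) : Set G)).index_mul_card
  rw [K'.D.hcard, K'.hP, L.card] at hidx
  have hn7 : (Subgroup.normalizer ((P' : Subgroup G) : Set G)).index % 7 = 1 := by
    have h := card_sylow_modEq_one 7 G
    rw [P'.card_eq_index_normalizer] at h
    exact Nat.mod_eq_of_modEq h (by norm_num)
  set n := (Subgroup.normalizer ((P' : Subgroup G) : Set G)).index
  have hnv : n * Nat.card V' = 11658240 := by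
    have : 21 * (n * Nat.card V') = 21 * 11658240 := by linear_combination hidx
    omega
  have hdvd : Nat.card V' ∣ 11658240 := ⟨n, by rw [← hnv, mul_comm]⟩
  have h := List.all_eq_true.1 sevenComp_check (Nat.card V') (mem_allDivs (hdvd.trans (by norm_num)))
  simp only [sevenCompOk, Bool.or_eq_true, Bool.not_eq_true', ← Bool.not_eq_true, Bool.and_eq_true,
    Nat.beq_eq, List.elem_iff] at h
  refine h.resolve_left fun h' => h' ⟨⟨⟨⟨⟨Nat.mod_eq_zero_of_dvd hdvd, fun e => h5 (Nat.dvd_of_mod_eq_zero e)⟩,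
    fun e => K'.hV (Nat.dvd_of_mod_eq_zero e)⟩, fun e => h11 (Nat.dvd_of_mod_eq_zero e)⟩,
    fun e => h23 (Nat.dvd_of_mod_eq_zero e)⟩, ?_⟩
  rw [← hnv, Nat.mul_div_cancel _ Nat.card_pos]
  exact hn7

/-- The column of an involution of the complement on both blocks. -/
theorem join_column {i : G} (hi : i ∈ V) (hio : orderOf i = 2) {v : ℕ} (hv : Nat.card V = v)
    {cc : ℕ → Bool} {ok : ℕ → ℤ → Bool} (hall : joinAll v cc ok = true)
    (hcc : cc (Nat.card (Subgroup.centralizer ({i} : Set G))) = true) :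
    ∃ b : ℤ, (χb : G → ℂ) i = b ∧ ok (Nat.card (Subgroup.centralizer ({i} : Set G))) b = true := by
  classical
  haveI := L.simple
  obtain ⟨hmem, hdeg⟩ := common_row L K hM R K' hM' R' hu hb hw hS'
  obtain ⟨a, b, x, ha, hbv, hx, hok, χa, χb', χx, χd, hS, da, db, dx, dd, va, vb, vx, vd⟩ :=
    column_alive L K hM R (by decide) hdeg hi hio (vs := [v]) (List.mem_singleton.2 hv)
  obtain rfl : χb = χb' := by
    rw [hS] at hmem
    simp only [Finset.mem_insert, Finset.mem_singleton] at hmem
    rcases hmem with h | h | h | h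
    · rw [h, da] at hb; norm_num at hb
    · exact h
    · rw [h, dx] at hb; norm_num at hb
    · rw [h, dd] at hb; norm_num at hb
  set C := Nat.card (Subgroup.centralizer ({i} : Set G)) with hC
  set d := lastVal 1771 2024 5544 5796 a b x
  have hreg : ¬ 7 ∣ orderOf i := by rw [hio]; norm_num
  -- the values at the involution
  have hone : principal G ∉ S := R.ne_one
  have hne : ∀ χ : IrrCharacter G, charDegree (χ : G → ℂ) ≠ 1 → χ ≠ principal G := fun χ h e =>
    h (e ▸ Cfsg.Agent.CharX.charDegree_one)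
  obtain ⟨u, hu', hu4, hult⟩ := involution_range L.card (hne χu (by rw [hu]; norm_num)) hio
  obtain ⟨w, hw', hw4, hwlt⟩ := involution_range L.card (hne t' (by rw [hw]; norm_num)) hio
  have hrel := R'.relation i hreg
  rw [hS', hu', vb, hw'] at hrel
  obtain rfl : w = 1 - u + b := by
    have : (w : ℂ) = ((1 - u + b : ℤ) : ℂ) := by push_cast; linear_combination -hrel
    exact_mod_cast this
  -- the norm
  obtain ⟨σ, hσ, hσt⟩ := exists_conj_row K' hM' R' le_rfl
  have hσd : charDegree (galT σ t' : G → ℂ) = 990 := by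
    have e1 := DefOne.galT_one σ t'
    rw [irr_one_eq_charDegree, irr_one_eq_charDegree, hw] at e1
    exact_mod_cast e1
  have hσv : (galT σ t' : G → ℂ) i = ((1 - u + b : ℤ) : ℂ) := by
    rw [galT_apply, irr_regular_fixed hσ t' hreg, hw']
  have hint : ∀ χ : IrrCharacter G, ∃ z : ℤ, (χ : G → ℂ) i = z := fun χ =>
    (M12Uniq.involution_mod_four (perfect L.card) (IsIrrCharacter.isCharacter χ.2) (irr_one_eq_charDegree χ)
      (show i * i = 1 by rw [← pow_two, ← hio, pow_orderOf_eq_one])).imp fun z hz => hz.1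
  choose f hf using hint
  have feq : ∀ {χ : IrrCharacter G} {z : ℤ}, (χ : G → ℂ) i = z → f χ = z := fun h => by
    rw [hf] at h; exact_mod_cast h
  have ne : ∀ {χ ψ : IrrCharacter G} {m n : ℕ}, charDegree (χ : G → ℂ) = m → charDegree (ψ : G → ℂ) = n →
      m ≠ n → χ ≠ ψ := fun hm hn hne e => hne (hm.symm.trans (e ▸ hn))
  have d1 : charDegree (principal G : G → ℂ) = 1 := Cfsg.Agent.CharX.charDegree_one
  have hnorm := M12Uniq.sum_sq_le i ({principal G, χa, χb, χx, χd, χu, t', galT σ t'} : Finset _) f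
    (fun χ _ => hf χ)
  rw [Finset.sum_insert (by
      simp [ne d1 da (by norm_num), ne d1 db (by norm_num), ne d1 dx (by norm_num), ne d1 dd (by norm_num),
        ne d1 hu (by norm_num), ne d1 hw (by norm_num), ne d1 hσd (by norm_num)]),
    Finset.sum_insert (by
      simp [ne da db (by norm_num), ne da dx (by norm_num), ne da dd (by norm_num),
        ne da hu (by norm_num), ne da hw (by norm_num), ne da hσd (by norm_num)]),
    Finset.sum_insert (by
      simp [ne db dx (by norm_num), ne db dd (by norm_num),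
        ne db hu (by norm_num), ne db hw (by norm_num), ne db hσd (by norm_num)]),
    Finset.sum_insert (by
      simp [ne dx dd (by norm_num),
        ne dx hu (by norm_num), ne dx hw (by norm_num), ne dx hσd (by norm_num)]),
    Finset.sum_insert (by
      simp [ne dd hu (by norm_num), ne dd hw (by norm_num), ne dd hσd (by norm_num)]),
    Finset.sum_insert (by simp [ne hu hw (by norm_num), ne hu hσd (by norm_num)]),
    Finset.sum_pair (fun h => hσt h.symm), feq (z := 1) (by simp [principal]), feq va, feq vb, feq vx,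
    feq vd, feq hu', feq hw', feq hσv] at hnorm
  simp only [sq, one_mul] at hnorm
  -- the memberships in the lists
  have hK : 244823040 / C = (Subgroup.centralizer ({i} : Set G)).index :=
    Nat.div_eq_of_eq_mul_left Nat.card_pos (by rw [Subgroup.index_mul_card, L.card])
  obtain ⟨y, hy⟩ := exists_ne_one_P K
  have hy1 : (y : G) ≠ 1 := fun h => hy (Subtype.ext h)
  have hfac : (Nat.card G).factorization 5 = 1 := DefOne.factorization_card K
  have hval : ∀ (χ : IrrCharacter G) (f : ℕ) (z : ℤ), charDegree (χ : G → ℂ) = f → (χ : G → ℂ) i = z →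
      (4 : ℤ) ∣ (f : ℤ) - z → |z| < f → z * z ≤ (C : ℤ) → 5 ∣ f → z ∈ valsI C f 20 := by
    intro χ f z hf hz h4 hlt hsq h5
    have h5z : ((5 : ℕ) : ℤ) ∣ z := dvd_value hfac (by norm_num) (hf ▸ h5) (DefOne.orderOf_P K y.2 hy1) hio
      (K.D.pv _ y.2 _ hi) hz
    refine mem_valsI (by norm_num) hlt ?_ ?_ (by rw [sq]; exact hsq)
    · have h5f : ((5 : ℕ) : ℤ) ∣ (f : ℤ) - z := dvd_sub (Int.natCast_dvd_natCast.2 h5) h5z
      push_cast at h5f ⊢
      omega
    · rw [hK, ← hf]; exact M12Uniq.dvd_index_mul χ hz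
  have s1 := mul_self_nonneg a
  have s2 := mul_self_nonneg b
  have s3 := mul_self_nonneg x
  have s4 := mul_self_nonneg d
  have s5 := mul_self_nonneg u
  have s6 := mul_self_nonneg (1 - u + b)
  have hum : u ∈ valsI C 1035 20 := hval χu 1035 u hu hu' (hu ▸ hu4) (hu ▸ hult) (by linarith) (by norm_num)
  have hwm : 1 - u + b ∈ valsI C 990 20 :=
    hval t' 990 _ hw hw' (hw ▸ hw4) (hw ▸ hwlt) (by linarith) (by norm_num)
  -- nothing inverts the element of order seven
  obtain ⟨z, hz⟩ := exists_ne_one_P K'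
  have hii : i * i = 1 := by rw [← pow_two, ← hio, pow_orderOf_eq_one]
  have hinv : inverters (z : G) i = 0 := by
    haveI : IsEmpty {g : G // IsConj i g ∧ g * z * g⁻¹ = (z : G)⁻¹} :=
      ⟨fun g => no_inverter K' (by norm_num) (by decide) hz _ g.2.2⟩
    exact Nat.card_of_isEmpty
  have hp := pairs K' (by norm_num) hz hii hii
  rw [hinv, Finset.sum_congr rfl fun (χ : IrrCharacter G) _ => show (χ : G → ℂ) i * (χ : G → ℂ) i *
      conj (phi (χ : G → ℂ) (trivB V') z) / (χ : G → ℂ) 1 =
      (χ : G → ℂ) i * (χ : G → ℂ) i / (χ : G → ℂ) 1 * conj (phi (χ : G → ℂ) (trivB V') z) by ring,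
    R'.sum_phi (fun χ => (χ : G → ℂ) i * (χ : G → ℂ) i / (χ : G → ℂ) 1) (fun σ hσ χ => by
      rw [galT_apply, galT_one, irr_regular_fixed hσ χ hreg]) z hz, hS', hu', vb, hw', L.card] at hp
  simp only [irr_one_eq_charDegree, hu, hb, hw,
    show charDegree (principal G : G → ℂ) = 1 from Cfsg.Agent.CharX.charDegree_one] at hp
  have hW : rowNum [(1035, -(u * u)), (2024, b * b), (990, -((1 - u + b) * (1 - u + b)))] = 0 := by
    have h : ((rowNum [(1035, -(u * u)), (2024, b * b), (990, -((1 - u + b) * (1 - u + b)))] : ℤ) : ℂ) = 0 := by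
      have h0 : (1 : ℂ) - (u : ℂ) * u / 1035 + (b : ℂ) * b / 2024 - (1 - u + b : ℂ) * (1 - u + b) / 990 = 0 := by
        refine mul_left_cancel₀ (mul_ne_zero (show (1713761280 : ℂ) ≠ 0 by norm_num)
          (Nat.cast_ne_zero.2 (Nat.card_pos (α := V')).ne' : (Nat.card V' : ℂ) ≠ 0)) ?_
        rw [show (principal G : G → ℂ) i = 1 from rfl] at hp
        push_cast at hp
        linear_combination -hp
      simp only [rowNum, List.map_cons, List.map_nil, List.prod_cons, List.prod_nil, List.sum_cons, List.sum_nil]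
      norm_num
      linear_combination (2073891600 : ℂ) * h0
    exact_mod_cast h
  have hj : joinOk C a b x d u (1 - u + b) = true := by
    simp only [joinOk, Bool.and_eq_true, decide_eq_true_eq]
    exact ⟨by linarith, hW⟩
  have h := List.all_eq_true.1 hall C (cent_invol L K hi hio)
  rw [hcc] at h
  have h1 := List.all_eq_true.1 (List.all_eq_true.1 (List.all_eq_true.1 h a ha) b hbv) x hx
  rw [show colOk [v] C 1771 2024 5544 5796 a b x (lastVal 1771 2024 5544 5796 a b x) = true from hok] at h1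
  simp only [Bool.not_true, Bool.false_or] at h1
  have h2 := List.all_eq_true.1 h1 u hum
  rw [List.elem_iff.2 hwm, hj] at h2
  exact ⟨b, vb, by simpa using h2⟩

/-- The complement has order twelve. -/
theorem comp_twelve : Nat.card V = 12 := by
  classical
  haveI : Fact (Nat.Prime 2) := ⟨Nat.prime_two⟩
  obtain ⟨-, hdeg⟩ := common_row L K hM R K' hM' R' hu hb hw hS'
  have hv := five_comp L K hM R hdeg
  obtain ⟨i, hi⟩ := exists_prime_orderOf_dvd_card' (G := V) 2 (two_dvd_comp_five L K)
  have kill : ∀ v, Nat.card V = v → joinAll v (fun _ => true) (fun _ _ => false) = true → False := fun v h hj => by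
    obtain ⟨b, -, hok⟩ := join_column L K hM R K' hM' R' hu hb hw hS' i.2
      (by rw [Subgroup.orderOf_coe, hi]) h hj rfl
    exact Bool.false_ne_true hok
  simp only [List.mem_cons, List.not_mem_nil, or_false] at hv
  rcases hv with h | h | h | h
  · exact (kill 2 h join_two).elim
  · exact h
  · exact (kill 32 h join_thirtytwo).elim
  · exfalso
    obtain ⟨y, hy⟩ := exists_ne_one_P K
    obtain ⟨z, hz⟩ := exists_ne_one_P K'
    have h5 := five_pairs L K hM R K' hM' R' hu hb hw hS' hy hz fun w _ _ hb' =>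
      stab_five L K hM R K' hM' R' hu hb hw hS' hy hz w hb'
    have h7 := five_seven_pairs L K hM R K' hM' R' hu hb hw hS' hy hz fun w _ _ hb' =>
      stab_seven L K hM R K' hM' R' hu hb hw hS' hy hz w hb'
    have hv' := seven_comp_mem L K' (five_not_dvd L K hM R K')
    simp only [List.mem_cons, List.not_mem_nil, or_false] at hv'
    rw [h] at h5 h7
    rcases hv' with e | e | e | e <;> rw [e] at h5 h7 <;> first | (norm_num at h5; done) | norm_num at h7

/-- No involution of the complement commutes with an element of order seven. -/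
theorem not_seven {i : G} (hi : i ∈ V) (hio : orderOf i = 2) :
    ¬ 7 ∣ Nat.card (Subgroup.centralizer ({i} : Set G)) := fun h => by
  obtain ⟨b, -, hok⟩ := join_column L K hM R K' hM' R' hu hb hw hS' hi hio
    (comp_twelve L K hM R K' hM' R' hu hb hw hS') join_seven
    (by rw [Nat.beq_eq]; exact Nat.mod_eq_zero_of_dvd h)
  exact Bool.false_ne_true hok

/-- The common centralizers of generators at five and seven have order dividing three. -/
theorem stab_odd {y : (P : Subgroup G)} (hy : y ≠ 1) {z : (P' : Subgroup G)} (hz : z ≠ 1) (x : V')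
    {a' b' : G} (hb' : IsConj ((z : G) * x) b') :
    Nat.card (Subgroup.centralizer ({(y : G)} : Set G) ⊓ Subgroup.centralizer ({a'} : Set G) ⊓
      Subgroup.centralizer ({b'} : Set G) : Subgroup G) ∣ 3 := by
  haveI : Fact (Nat.Prime 2) := ⟨Nat.prime_two⟩
  have hy1 : (y : G) ≠ 1 := fun h => hy (Subtype.ext h)
  have hz1 : (z : G) ≠ 1 := fun h => hz (Subtype.ext h)
  have h12 := (stab_five L K hM R K' hM' R' hu hb hw hS' hy hz x (a' := a') hb').trans (Nat.gcd_dvd_left _ _)
  rw [comp_twelve L K hM R K' hM' R' hu hb hw hS'] at h12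
  set T := (Subgroup.centralizer ({(y : G)} : Set G) ⊓ Subgroup.centralizer ({a'} : Set G) ⊓
    Subgroup.centralizer ({b'} : Set G) : Subgroup G)
  refine Nat.Coprime.dvd_of_dvd_mul_left (k := Nat.card T) (m := 4) ?_ h12
  refine (Nat.Coprime.pow_left 2 ((Nat.Prime.coprime_iff_not_dvd Nat.prime_two).2 fun h2 => ?_)).symm
  obtain ⟨j, hj⟩ := exists_prime_orderOf_dvd_card' (G := T) 2 h2
  have hjo : orderOf (j : G) = 2 := by rw [Subgroup.orderOf_coe, hj]
  obtain ⟨⟨hjy, -⟩, hjb⟩ := j.2
  have hjV : (j : G) ∈ V := mem_V_of_regular K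
    (by rw [centralizer_P K y.2 hy1]; exact hjy) (by rw [hjo]; norm_num)
  refine not_seven L K hM R K' hM' R' hu hb hw hS' hjV hjo ?_
  obtain ⟨g, hg⟩ := isConj_iff.1 hb'
  obtain ⟨k, hk⟩ := exists_section_pow K'
  have hpow : b' ^ k = g * (z : G) * g⁻¹ := by rw [← hg, conj_pow, hk]
  have hmem : g * (z : G) * g⁻¹ ∈ Subgroup.centralizer ({(j : G)} : Set G) := by
    rw [← hpow]
    refine pow_mem ?_ k
    exact Subgroup.mem_centralizer_singleton_iff.2 (Subgroup.mem_centralizer_singleton_iff.1 hjb).symm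
  have ho : orderOf (g * (z : G) * g⁻¹) = 7 := by
    rw [← MulAut.conj_apply, MulEquiv.orderOf_eq, DefOne.orderOf_P K' z.2 hz1]
  exact ho ▸ Subgroup.orderOf_dvd_natCard _ hmem

/-- No element of order two centralizes elements of orders five and seven. -/
theorem not_both {i g h : G} (hio : orderOf i = 2) (hg : orderOf g = 5) (hh : orderOf h = 7)
    (h5 : Commute i g) (h7 : Commute i h) : False := by
  obtain ⟨y, hy, hy1, hgy⟩ := M22Uniq.exists_conj_mem P K.hP hg
  obtain ⟨c, rfl⟩ := isConj_iff.1 hgy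
  have hjo : orderOf (c * i * c⁻¹) = 2 := by rw [← MulAut.conj_apply, MulEquiv.orderOf_eq, hio]
  have hjV : c * i * c⁻¹ ∈ V := mem_V_of_regular K (by
    rw [centralizer_P K hy hy1, Subgroup.mem_centralizer_singleton_iff]
    exact ((h5.map (MulAut.conj c)).eq : _)) (by rw [hjo]; norm_num)
  refine not_seven L K hM R K' hM' R' hu hb hw hS' hjV hjo ?_
  have hho : orderOf (c * h * c⁻¹) = 7 := by rw [← MulAut.conj_apply, MulEquiv.orderOf_eq, hh]
  rw [← hho]
  exact Subgroup.orderOf_dvd_natCard _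
    (Subgroup.mem_centralizer_singleton_iff.2 ((h7.map (MulAut.conj c)).symm.eq : _))

/-- The complement at seven has order six. -/
theorem seven_comp : Nat.card V' = 6 := by
  classical
  haveI : Fact (Nat.Prime 2) := ⟨Nat.prime_two⟩
  have hv := comp_twelve L K hM R K' hM' R' hu hb hw hS'
  obtain ⟨y, hy⟩ := exists_ne_one_P K
  obtain ⟨z, hz⟩ := exists_ne_one_P K'
  have hy1 : (y : G) ≠ 1 := fun h => hy (Subtype.ext h)
  have hz1 : (z : G) ≠ 1 := fun h => hz (Subtype.ext h)
  have h7 := five_seven_pairs L K hM R K' hM' R' hu hb hw hS' hy hz (d := 3) fun w a' b' hb' => by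
    have h12 := (stab_seven L K hM R K' hM' R' hu hb hw hS' hy hz w (a' := a') hb').trans (Nat.gcd_dvd_left _ _)
    rw [hv] at h12
    set T := (Subgroup.centralizer ({(z : G)} : Set G) ⊓ Subgroup.centralizer ({a'} : Set G) ⊓
      Subgroup.centralizer ({b'} : Set G) : Subgroup G)
    refine Nat.Coprime.dvd_of_dvd_mul_left (k := Nat.card T) (m := 4) ?_ h12
    refine (Nat.Coprime.pow_left 2 ((Nat.Prime.coprime_iff_not_dvd Nat.prime_two).2 fun h2 => ?_)).symm
    obtain ⟨j, hj⟩ := exists_prime_orderOf_dvd_card' (G := T) 2 h2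
    obtain ⟨⟨hjz, -⟩, hjb⟩ := j.2
    obtain ⟨g, hg⟩ := isConj_iff.1 hb'
    obtain ⟨k, hk⟩ := exists_section_pow K
    have hpow : b' ^ k = g * (y : G) * g⁻¹ := by rw [← hg, conj_pow, hk]
    refine not_both L K hM R K' hM' R' hu hb hw hS' (i := (j : G)) (g := g * (y : G) * g⁻¹) (h := (z : G))
      (by rw [Subgroup.orderOf_coe, hj])
      (by rw [← MulAut.conj_apply, MulEquiv.orderOf_eq, DefOne.orderOf_P K y.2 hy1])
      (DefOne.orderOf_P K' z.2 hz1) ?_ (Subgroup.mem_centralizer_singleton_iff.1 hjz)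
    rw [← hpow]
    exact (show Commute (j : G) b' from Subgroup.mem_centralizer_singleton_iff.1 hjb).pow_right k
  have hv' := seven_comp_mem L K' (five_not_dvd L K hM R K')
  simp only [List.mem_cons, List.not_mem_nil, or_false] at hv'
  rcases hv' with e | e | e | e
  · exact e
  all_goals (rw [e] at h7; norm_num at h7)

/-- No involution of the complement is fixed by the normalizer. -/
theorem no_fixed {i : G} (hi : i ∈ V) (hio : orderOf i = 2) :
    ¬ Subgroup.normalizer ((P : Subgroup G) : Set G) ≤ Subgroup.centralizer ({i} : Set G) := by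
  classical
  intro hN
  haveI : Fact (Nat.Prime 2) := ⟨Nat.prime_two⟩
  have hv := comp_twelve L K hM R K' hM' R' hu hb hw hS'
  have hNc : Nat.card (Subgroup.normalizer ((P : Subgroup G) : Set G)) = 240 := by
    rw [K.D.hcard, K.hP, hv]
  obtain ⟨m, hm, hm5⟩ := index_part P (Subgroup.le_normalizer.trans hN)
  rw [inf_of_le_left hN, hNc] at hm
  set C := Nat.card (Subgroup.centralizer ({i} : Set G)) with hC
  obtain ⟨b, hbi, hok⟩ := join_column L K hM R K' hM' R' hu hb hw hS' hi hio hv join_central (by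
    rw [← hC, hm]
    simp [centralCond, Nat.mul_mod_left, Nat.mul_div_cancel _ (by norm_num : 0 < 240), hm5])
  simp only [Bool.and_eq_true, Nat.beq_eq, decide_eq_true_eq] at hok
  obtain ⟨hC', rfl⟩ := hok
  obtain ⟨y, hy⟩ := exists_ne_one_P K
  obtain ⟨z, hz⟩ := exists_ne_one_P K'
  have hy1 : (y : G) ≠ 1 := fun h => hy (Subtype.ext h)
  have hz1 : (z : G) ≠ 1 := fun h => hz (Subtype.ext h)
  have hyo := DefOne.orderOf_P K y.2 hy1
  obtain ⟨v1, v2, v3⟩ := gen_values L K hM R K' hM' R' hu hb hw hS' hy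
  have hne : ∀ χ : IrrCharacter G, charDegree (χ : G → ℂ) ≠ 1 → χ ≠ principal G := fun χ h e =>
    h (e ▸ Cfsg.Agent.CharX.charDegree_one)
  haveI := L.simple
  obtain ⟨u, hu', -, -⟩ := involution_range L.card (hne χu (by rw [hu]; norm_num)) hio
  obtain ⟨w, hw', -, -⟩ := involution_range L.card (hne t' (by rw [hw]; norm_num)) hio
  obtain ⟨n, hn, hn'⟩ := section_pairs K' hz i (y : G)
  rw [seven_sum L K hM R K' hM' R' hu hb hw hS' (by rw [hio]; norm_num) (by rw [hyo]; norm_num) hz
    (D := 0) (E := -1) (F := 0) hu' hbi hw' (by simpa using v1) (by simpa using v2) (by simpa using v3),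
    hC', L.card] at hn
  have hn1 : n = 1530 := by
    have h : ((n : ℕ) : ℂ) = ((1530 : ℕ) : ℂ) := by
      norm_num at hn ⊢
      linear_combination hn / 161280
    exact_mod_cast h
  have hdvd : 60 ∣ 3 * n := by
    refine hn' 60 3 fun x => ?_
    have hCy := M22Uniq.cent_card K hyo
    rw [hv] at hCy
    rw [show 60 = Nat.card (Subgroup.centralizer ({(y : G)} : Set G)) from hCy.symm]
    refine pairCount_dvd fun a' b' _ hb' _ => ?_
    set T := (Subgroup.centralizer ({(y : G)} : Set G) ⊓ Subgroup.centralizer ({a'} : Set G) ⊓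
      Subgroup.centralizer ({b'} : Set G) : Subgroup G)
    exact stab_odd L K hM R K' hM' R' hu hb hw hS' hy hz x hb'
  rw [hn1] at hdvd
  norm_num at hdvd

end

end Cfsg.Agent.M24Order
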