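import Cfsg.Agent.Lib.M24Order.FiveColumnData

/-!
A simple group of order 244823040: the orders of the complement at five and the two remaining patterns.
-/

set_option linter.unusedSectionVars false
set_option linter.style.haveILetI false

namespace Cfsg.Agent.M24Order

open Cfsg Cfsg.Agent.Char Cfsg.Agent.Blocks Cfsg.Agent.CCSylow Cfsg.Agent.DefOne
open Cfsg.Agent.M23Order (Rows)
open Cfsg.Agent.M24Uniq (Locals)

open scoped ComplexConjugate

universe u

variable {G : Type u} [Group G] [Fintype G]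

/-- Four rows with given distinct degrees. -/
theorem four_rows {S : Finset (IrrCharacter G)} {f g h j : ℕ} (hd : [f, g, h, j].Nodup)
    (hS : S.val.map (fun χ : IrrCharacter G => charDegree (χ : G → ℂ)) = (([f, g, h, j] : List ℕ) : Multiset ℕ)) :
    ∃ a b x d : IrrCharacter G, S = {a, b, x, d} ∧ charDegree (a : G → ℂ) = f ∧ charDegree (b : G → ℂ) = g ∧
      charDegree (x : G → ℂ) = h ∧ charDegree (d : G → ℂ) = j ∧
      ∀ {β : Type} [AddCommMonoid β] (F : IrrCharacter G → β), ∑ χ ∈ S, F χ = F a + (F b + (F x + F d)) := by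
  classical
  have get : ∀ n ∈ [f, g, h, j], ∃ χ ∈ S, charDegree (χ : G → ℂ) = n := fun n hn => by
    have : n ∈ S.val.map fun χ : IrrCharacter G => charDegree (χ : G → ℂ) := by rw [hS]; exact hn
    obtain ⟨χ, hχ, he⟩ := Multiset.mem_map.1 this
    exact ⟨χ, hχ, he⟩
  obtain ⟨a, ha, hf⟩ := get f (by simp)
  obtain ⟨b, hb, hg⟩ := get g (by simp)
  obtain ⟨x, hx, hh⟩ := get h (by simp)
  obtain ⟨d, hd', hj⟩ := get j (by simp)
  simp only [List.nodup_cons, List.mem_cons, List.not_mem_nil, or_false, not_or, not_false_eq_true,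
    List.nodup_nil, and_true] at hd
  obtain ⟨⟨n1, n2, n3⟩, ⟨n4, n5⟩, n6⟩ := hd
  have ne : ∀ {χ ψ : IrrCharacter G} {m n : ℕ}, charDegree (χ : G → ℂ) = m → charDegree (ψ : G → ℂ) = n →
      m ≠ n → χ ≠ ψ := fun hm hn hne e => hne (hm.symm.trans (e ▸ hn))
  have e1 := ne hf hg n1
  have e2 := ne hf hh n2
  have e3 := ne hf hj n3
  have e4 := ne hg hh n4
  have e5 := ne hg hj n5
  have e6 := ne hh hj n6
  have hcard : S.card = 4 := by
    have := congrArg Multiset.card hS
    simpa using this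
  have heq : S = {a, b, x, d} := by
    refine (Finset.eq_of_subset_of_card_le ?_ ?_).symm
    · simp [Finset.insert_subset_iff, ha, hb, hx, hd']
    · rw [hcard, Finset.card_insert_of_notMem (by simp [e1, e2, e3]), Finset.card_insert_of_notMem (by simp [e4, e5]),
        Finset.card_pair e6]
  refine ⟨a, b, x, d, heq, hf, hg, hh, hj, fun F => ?_⟩
  rw [heq, Finset.sum_insert (by simp [e1, e2, e3]), Finset.sum_insert (by simp [e4, e5]), Finset.sum_pair e6]

/-- The centralizer of an involution of the complement at five. -/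
theorem cent_invol (L : Locals G) [Fact (Nat.Prime 5)] {P : Sylow 5 G} {V : Subgroup G} {e : ℕ}
    (K : Conf 5 (P : Subgroup G) V (Subgroup.normalizer ((P : Subgroup G) : Set G)) e)
    [Fintype (P : Subgroup G)] [Fintype ((P : Subgroup G) →* ℂˣ)] {i : G} (hi : i ∈ V) (hio : orderOf i = 2) :
    Nat.card (Subgroup.centralizer ({i} : Set G)) ∈ cents10 := by
  classical
  haveI : Fact (Nat.Prime 2) := ⟨Nat.prime_two⟩
  set C := Subgroup.centralizer ({i} : Set G) with hC
  have hsub := L.card ▸ Subgroup.card_subgroup_dvd_card C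
  have hno : ∀ q : ℕ, q.Prime → q ≠ 2 → (∀ x : G, orderOf x = q → Nat.card (Subgroup.centralizer ({x} : Set G)) = q) →
      ¬ q ∣ Nat.card C := by
    intro q hq hq2 hcq hd
    haveI := Fact.mk hq
    obtain ⟨w, hw⟩ := exists_prime_orderOf_dvd_card' q hd
    have hwo : orderOf (w : G) = q := by rw [Subgroup.orderOf_coe, hw]
    have hmem : i ∈ Subgroup.centralizer ({(w : G)} : Set G) :=
      Subgroup.mem_centralizer_singleton_iff.2 (Subgroup.mem_centralizer_singleton_iff.1 w.2).symm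
    have h := Subgroup.orderOf_dvd_natCard _ hmem
    rw [hio, hcq _ hwo] at h
    exact hq2 ((Nat.prime_dvd_prime_iff_eq Nat.prime_two hq).1 h).symm
  have h2 : 2 ∣ Nat.card C := hio ▸ Subgroup.orderOf_dvd_natCard C (Subgroup.mem_centralizer_singleton_iff.2 rfl)
  obtain ⟨y, hy⟩ := exists_ne_one_P K
  have hy1 : (y : G) ≠ 1 := fun h => hy (Subtype.ext h)
  have h5 : 5 ∣ Nat.card C := DefOne.orderOf_P K y.2 hy1 ▸ Subgroup.orderOf_dvd_natCard C
    (Subgroup.mem_centralizer_singleton_iff.2 (K.D.pv _ y.2 _ hi))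
  refine List.mem_filter.2 ⟨mem_allDivs hsub, ?_⟩
  simp only [Bool.and_eq_true, Bool.not_eq_true', ← Bool.not_eq_true, Nat.beq_eq]
  exact ⟨⟨Nat.mod_eq_zero_of_dvd ((Nat.Coprime.mul_dvd_of_dvd_of_dvd (by norm_num) h2 h5 : 2 * 5 ∣ Nat.card C)),
    fun h => hno 11 (by norm_num) (by norm_num) L.c11 (Nat.dvd_of_mod_eq_zero h)⟩,
    fun h => hno 23 (by norm_num) (by norm_num) L.c23 (Nat.dvd_of_mod_eq_zero h)⟩

section

variable (L : Locals G) [Fact (Nat.Prime 5)] {P : Sylow 5 G} {V : Subgroup G}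
  (K : Conf 5 (P : Subgroup G) V (Subgroup.normalizer ((P : Subgroup G) : Set G)) 4)
  [Fintype (P : Subgroup G)] [Fintype V] [Fintype (Subgroup.normalizer ((P : Subgroup G) : Set G))]
  [Fintype ((P : Subgroup G) →* ℂˣ)] {M : Ideal AlgInt} [M.IsPrime] (hM : IsPModular 5 M)
  {S : Finset (IrrCharacter G)} {c : IrrCharacter G → ℤ} {t : IrrCharacter G}
  (R : Rows 5 4 1 (P : Subgroup G) V M S c t)

include L K hM R

/-- The order of the complement is listed. -/
theorem comp_mem {l : List ℕ} (hl : l ∈ fivePats)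
    (hdeg : S.val.map (fun χ : IrrCharacter G => charDegree (χ : G → ℂ)) = (l : Multiset ℕ)) :
    ∃ x ∈ compList, x.1 = l ∧ Nat.card V ∈ x.2 := by
  classical
  haveI := L.simple
  obtain ⟨-, hsgn, -, -, h7⟩ := five_pattern L K hM R
  obtain ⟨x, hx, hxl⟩ := List.any_eq_true.1 (List.all_eq_true.1 comp_patterns l hl)
  have hxl' : x.1 = l := beq_iff_eq.1 hxl
  refine ⟨x, hx, hxl', ?_⟩
  obtain ⟨h23, h11⟩ := comp_coprime L K (by norm_num) (by norm_num)
  have h2 := two_dvd_comp_five L K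
  -- the index of the normalizer
  have hN : Nat.card (Subgroup.normalizer ((P : Subgroup G) : Set G)) = 4 * (5 * Nat.card V) := by
    rw [K.D.hcard, K.hP]
  have hidx := (Subgroup.normalizer ((P : Subgroup G) : Set G)).index_mul_card
  have hn5 : (Subgroup.normalizer ((P : Subgroup G) : Set G)).index % 5 = 1 := by
    have h := card_sylow_modEq_one 5 G
    rw [P.card_eq_index_normalizer] at h
    exact Nat.mod_eq_of_modEq h (by norm_num)
  set n := (Subgroup.normalizer ((P : Subgroup G) : Set G)).index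
  rw [hN, L.card] at hidx
  have hnv : n * Nat.card V = 12241152 := by
    have : 20 * (n * Nat.card V) = 20 * 12241152 := by linear_combination hidx
    omega
  have hdvd : Nat.card V ∣ 12241152 := ⟨n, by rw [← hnv, mul_comm]⟩
  -- the pairs of the generator
  obtain ⟨m, hm⟩ := t_one K hM R
  rw [L.card] at hm
  have h0 : ∀ f ∈ l, f ≠ 0 := fun f hf => by
    have : f ∈ S.val.map fun χ : IrrCharacter G => charDegree (χ : G → ℂ) := by rw [hdeg]; exact hf
    obtain ⟨χ, -, rfl⟩ := Multiset.mem_map.1 this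
    exact (charDegree_pos χ).ne'
  have hsum : ∑ χ ∈ S, (c χ : ℚ) / (charDegree (χ : G → ℂ) : ℚ) =
      ((l.map fun f => (f, sgP 5 f)).map fun y => (y.2 : ℚ) / (y.1 : ℚ)).sum := by
    rw [Finset.sum_congr rfl fun χ hχ => by rw [hsgn χ hχ], Finset.sum_eq_multiset_sum]
    show (Multiset.map ((fun f : ℕ => (sgP 5 f : ℚ) / (f : ℚ)) ∘
      fun χ : IrrCharacter G => charDegree (χ : G → ℂ)) S.val).sum = _
    rw [← Multiset.map_map (fun f : ℕ => (sgP 5 f : ℚ) / (f : ℚ)) (fun χ : IrrCharacter G => charDegree (χ : G → ℂ)),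
      hdeg, Multiset.map_coe, Multiset.sum_coe, List.map_map]
    rfl
  have hspec := rowNum_spec (l.map fun f => (f, sgP 5 f)) fun y hy => by
    obtain ⟨f, hf, rfl⟩ := List.mem_map.1 hy
    exact h0 f hf
  rw [show (l.map fun f => (f, sgP 5 f)).map Prod.fst = l by rw [List.map_map]; exact List.map_id' l] at hspec
  rw [hsum] at hm
  have hdiv : (244823040 * rowNum (l.map fun f => (f, sgP 5 f))) % ((25 * Nat.card V * l.prod : ℕ) : ℤ) = 0 := by
    refine Int.emod_eq_zero_of_dvd ⟨(m : ℤ), ?_⟩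
    have h' : ((244823040 * rowNum (l.map fun f => (f, sgP 5 f)) : ℤ) : ℚ) =
        ((((25 * Nat.card V * l.prod : ℕ) : ℤ) * (m : ℤ) : ℤ) : ℚ) := by
      rw [Int.cast_mul, ← hspec]
      simp only [Int.cast_mul, Int.cast_natCast, Nat.cast_mul]
      push_cast at hm ⊢
      linear_combination (-(((l.map (Nat.cast : ℕ → ℚ)).prod))) * hm
    exact_mod_cast h'
  have hok : compOk (Nat.card V) l = true := by
    simp only [compOk, Bool.and_eq_true, Bool.not_eq_true', ← Bool.not_eq_true, Nat.beq_eq, decide_eq_true_eq,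
      List.any_eq_true]
    refine ⟨⟨⟨⟨⟨⟨⟨Nat.mod_eq_zero_of_dvd hdvd, Nat.mod_eq_zero_of_dvd h2⟩, fun h => h7 (Nat.dvd_of_mod_eq_zero h)⟩,
      fun h => h11 (Nat.dvd_of_mod_eq_zero h)⟩, fun h => h23 (Nat.dvd_of_mod_eq_zero h)⟩, ?_⟩, ?_⟩, hdiv⟩
    · rw [← hnv, Nat.mul_div_cancel _ Nat.card_pos]; exact hn5
    · rintro ⟨h3, f, hf, h27⟩
      have : f ∈ S.val.map fun χ : IrrCharacter G => charDegree (χ : G → ℂ) := by rw [hdeg]; exact hf
      obtain ⟨χ, hχ, rfl⟩ := Multiset.mem_map.1 this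
      exact Rows.no_full L K hM R Nat.prime_three (a := 3) (by norm_num) hχ
        (by simpa using Nat.dvd_of_mod_eq_zero h27) (Nat.dvd_of_mod_eq_zero h3)
  have h := List.all_eq_true.1 (List.all_eq_true.1 comp_check x hx) (Nat.card V)
    (mem_allDivs (hdvd.trans (by norm_num)))
  rw [hxl', hok] at h
  simpa [List.elem_iff] using h

/-- A column at an involution of the complement. -/
theorem column_alive {f g h j : ℕ} (hdd : [f, g, h, j].Nodup)
    (hdeg : S.val.map (fun χ : IrrCharacter G => charDegree (χ : G → ℂ)) = (([f, g, h, j] : List ℕ) : Multiset ℕ))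
    {i : G} (hi : i ∈ V) (hio : orderOf i = 2) {vs : List ℕ} (hv : Nat.card V ∈ vs) :
    ∃ a b x : ℤ, a ∈ valsI (Nat.card (Subgroup.centralizer ({i} : Set G))) f 20 ∧
      b ∈ valsI (Nat.card (Subgroup.centralizer ({i} : Set G))) g 20 ∧
      x ∈ valsI (Nat.card (Subgroup.centralizer ({i} : Set G))) h 20 ∧
      colOk vs (Nat.card (Subgroup.centralizer ({i} : Set G))) f g h j a b x (lastVal f g h j a b x) = true ∧
      ∃ χa χb χx χd : IrrCharacter G, S = {χa, χb, χx, χd} ∧ charDegree (χa : G → ℂ) = f ∧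
        charDegree (χb : G → ℂ) = g ∧ charDegree (χx : G → ℂ) = h ∧ charDegree (χd : G → ℂ) = j ∧
        (χa : G → ℂ) i = a ∧ (χb : G → ℂ) i = b ∧ (χx : G → ℂ) i = x ∧
        (χd : G → ℂ) i = (lastVal f g h j a b x : ℤ) := by
  classical
  haveI := L.simple
  obtain ⟨-, hsgn, -, -, -⟩ := five_pattern L K hM R
  obtain ⟨χa, χb, χx, χd, hS, hf, hg, hh, hj, hsum⟩ := four_rows hdd hdeg
  have hp2 : (2 : ℕ) < 5 := by norm_num
  have hval := fun χ (hχ : χ ∈ S) => value_at L.card K hM R hχ hi hio hp2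
  choose! α hα hdvd hlt using hval
  have hpi : ¬ 5 ∣ orderOf i := by rw [hio]; norm_num
  obtain ⟨-, hlin, hq, -, hsq⟩ := column L.card K R hp2 hpi hα
  set C := Nat.card (Subgroup.centralizer ({i} : Set G)) with hC
  have hK : 244823040 / C = (Subgroup.centralizer ({i} : Set G)).index :=
    Nat.div_eq_of_eq_mul_left Nat.card_pos (by rw [Subgroup.index_mul_card, L.card])
  have hin : ∀ χ ∈ S, α χ ∈ valsI C (charDegree (χ : G → ℂ)) 20 := fun χ hχ =>
    mem_valsI (by norm_num) (hlt χ hχ) (hdvd χ hχ) (by rw [hK]; exact M12Uniq.dvd_index_mul χ (hα χ hχ)) (hsq χ hχ)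
  have hm : ∀ χ ∈ ({χa, χb, χx, χd} : Finset (IrrCharacter G)), χ ∈ S := fun χ hχ => hS ▸ hχ
  have ma := hm χa (by simp)
  have mb := hm χb (by simp)
  have mx := hm χx (by simp)
  have md := hm χd (by simp)
  rw [hsum] at hlin
  rw [hsgn _ ma, hsgn _ mb, hsgn _ mx, hsgn _ md, hf, hg, hh, hj] at hlin
  have hd : α χd = lastVal f g h j (α χa) (α χb) (α χx) := by
    have h2 : sgP 5 j * sgP 5 j = 1 := by simp only [sgP]; split_ifs <;> norm_num
    rw [lastVal]
    linear_combination (sgP 5 j) * hlin + (-(α χd)) * h2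
  refine ⟨α χa, α χb, α χx, hf ▸ hin _ ma, hg ▸ hin _ mb, hh ▸ hin _ mx, ?_, χa, χb, χx, χd, hS, hf, hg, hh, hj,
    hα _ ma, hα _ mb, hα _ mx, by rw [← hd]; exact hα _ md⟩
  rw [← hd]
  obtain ⟨m, hmle, hm2⟩ := square_rows K hM R hp2 hio hα
  rw [L.card, hsum] at hm2
  simp only [Nat.cast_one, sub_self, zero_mul, add_zero] at hq
  rw [hsum] at hq
  have hjd := hdvd χd md
  have hjK := M12Uniq.dvd_index_mul χd (hα _ md)
  have hjl := hlt χd md
  rw [hj] at hjd hjK hjl
  rw [← hK] at hjK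
  simp only [colOk, Bool.and_eq_true, Nat.blt_eq, decide_eq_true_eq, Nat.beq_eq, List.any_eq_true]
  refine ⟨⟨⟨⟨?_, Int.emod_eq_zero_of_dvd hjd⟩, ?_⟩, ?_⟩, Nat.card V, hv, ?_⟩
  · rw [abs_lt] at hjl; omega
  · have h3 := Int.natAbs_dvd_natAbs.2 hjK
    rw [Int.natAbs_natCast, Int.natAbs_mul, Int.natAbs_natCast] at h3
    exact Nat.mod_eq_zero_of_dvd h3
  · simp only [sq] at hq; linarith
  -- the square
  set l : List (ℕ × ℤ) := [(f, sgP 5 f * α χa * α χa), (g, sgP 5 g * α χb * α χb),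
    (h, sgP 5 h * α χx * α χx), (j, sgP 5 j * α χd * α χd)] with hl
  have hspec := rowNum_spec l fun y hy => by
    simp only [hl, List.mem_cons, List.not_mem_nil, or_false] at hy
    rcases hy with rfl | rfl | rfl | rfl
    · exact hf ▸ (charDegree_pos χa).ne'
    · exact hg ▸ (charDegree_pos χb).ne'
    · exact hh ▸ (charDegree_pos χx).ne'
    · exact hj ▸ (charDegree_pos χd).ne'
  have hpos : 0 < (l.map Prod.fst).prod := by
    simp only [hl, List.map_cons, List.map_nil, List.prod_cons, List.prod_nil, mul_one]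
    rw [← hf, ← hg, ← hh, ← hj]
    have := charDegree_pos χa; have := charDegree_pos χb; have := charDegree_pos χx; have := charDegree_pos χd
    positivity
  set B := C * C * (l.map Prod.fst).prod with hB
  have hW : ((l.map fun y => (y.2 : ℚ) / (y.1 : ℚ))).sum =
      ((c χa * α χa * α χa : ℤ) : ℚ) / (charDegree (χa : G → ℂ) : ℚ) +
        (((c χb * α χb * α χb : ℤ) : ℚ) / (charDegree (χb : G → ℂ) : ℚ) +
        (((c χx * α χx * α χx : ℤ) : ℚ) / (charDegree (χx : G → ℂ) : ℚ) +
        ((c χd * α χd * α χd : ℤ) : ℚ) / (charDegree (χd : G → ℂ) : ℚ))) := by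
    rw [hsgn _ ma, hsgn _ mb, hsgn _ mx, hsgn _ md, hf, hg, hh, hj]
    simp only [hl, List.map_cons, List.map_nil, List.sum_cons, List.sum_nil, add_zero]
  obtain ⟨D, hD⟩ : ∃ D, D = (l.map Prod.fst).prod := ⟨_, rfl⟩
  rw [← hD] at hspec hB hpos
  have hz : ((m * m * B : ℕ) : ℤ) = 5 * (Nat.card V : ℤ) * 244823040 * rowNum l := by
    have h4 : (((m * m * B : ℕ) : ℤ) : ℚ) = ((5 * (Nat.card V : ℤ) * 244823040 * rowNum l : ℤ) : ℚ) := by
      rw [hB]
      push_cast
      rw [← hspec, hW]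
      push_cast at hm2 ⊢
      linear_combination ((D : ℚ)) * hm2
    exact_mod_cast h4
  have hnn : 0 ≤ rowNum l := by
    have h1 : (0 : ℤ) ≤ ((m * m * B : ℕ) : ℤ) := Int.natCast_nonneg _
    rw [hz] at h1
    have : (0 : ℤ) < 5 * (Nat.card V : ℤ) * 244823040 := by
      have := (Nat.card_pos (α := V)); positivity
    exact nonneg_of_mul_nonneg_right h1 this
  have hX : 5 * Nat.card V * 244823040 * (rowNum l).natAbs = m * m * B := by
    have h5 := congrArg Int.natAbs hz
    rw [Int.natAbs_natCast, Int.natAbs_mul, Int.natAbs_mul, Int.natAbs_mul, Int.natAbs_natCast] at h5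
    exact h5.symm
  have hB0 : 0 < B := by rw [hB]; exact Nat.mul_pos (Nat.mul_pos Nat.card_pos Nat.card_pos) hpos
  simp only [squareOk, Bool.and_eq_true, decide_eq_true_eq, Nat.beq_eq, Nat.ble_eq]
  refine ⟨⟨⟨hnn, ?_⟩, ?_⟩, ?_⟩
  · rw [← hD, ← hB, hX]; exact Nat.mul_mod_left _ _
  · rw [← hD, ← hB, hX, Nat.mul_div_cancel _ hB0, show 25 * Nat.card V * Nat.card V = 5 * Nat.card V * (5 * Nat.card V) by ring]
    exact Nat.mul_le_mul hmle hmle
  · rw [← hD, ← hB, hX, Nat.mul_div_cancel _ hB0, Nat.sqrt_eq]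

/-- A pattern without a column is impossible. -/
theorem false_of_noColumn {f g h j : ℕ} (hdd : [f, g, h, j].Nodup)
    (hdeg : S.val.map (fun χ : IrrCharacter G => charDegree (χ : G → ℂ)) = (([f, g, h, j] : List ℕ) : Multiset ℕ))
    {vs : List ℕ} (hv : Nat.card V ∈ vs) (hno : noColumn vs f g h j = true) : False := by
  classical
  haveI : Fact (Nat.Prime 2) := ⟨Nat.prime_two⟩
  obtain ⟨u, hu⟩ := exists_prime_orderOf_dvd_card' (G := V) 2 (two_dvd_comp_five L K)
  have hio : orderOf (u : G) = 2 := by rw [Subgroup.orderOf_coe, hu]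
  obtain ⟨a, b, x, ha, hb, hx, hok, -⟩ := column_alive L K hM R hdd hdeg u.2 hio hv
  have h' := List.all_eq_true.1 (List.all_eq_true.1 (List.all_eq_true.1 (List.all_eq_true.1 hno _
    (cent_invol L K u.2 hio)) a ha) b hb) x hx
  rw [hok] at h'
  exact Bool.false_ne_true h'

/-- Two patterns remain. -/
theorem five_pinned :
    S.val.map (fun χ : IrrCharacter G => charDegree (χ : G → ℂ)) =
        (([506, 759, 5544, 5796] : List ℕ) : Multiset ℕ) ∨
      S.val.map (fun χ : IrrCharacter G => charDegree (χ : G → ℂ)) =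
        (([1771, 2024, 5544, 5796] : List ℕ) : Multiset ℕ) := by
  obtain ⟨-, -, -, ⟨l, hl, hdeg⟩, -⟩ := five_pattern L K hM R
  obtain ⟨x, hx, hxl, hv⟩ := comp_mem L K hM R hl hdeg
  rw [← hxl] at hdeg
  simp only [compList, List.mem_cons, List.not_mem_nil, or_false] at hx
  rcases hx with rfl | rfl | rfl | rfl | rfl
  · exact Or.inl hdeg
  · exact (false_of_noColumn L K hM R (by decide) hdeg hv noColumn_one).elim
  · exact (false_of_noColumn L K hM R (by decide) hdeg hv noColumn_two).elim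
  · exact Or.inr hdeg
  · exact (false_of_noColumn L K hM R (by decide) hdeg hv noColumn_four).elim

/-- For the remaining pattern with the degree 2024 the order of the complement is one of four. -/
theorem five_comp (hdeg : S.val.map (fun χ : IrrCharacter G => charDegree (χ : G → ℂ)) =
    (([1771, 2024, 5544, 5796] : List ℕ) : Multiset ℕ)) : Nat.card V ∈ [2, 12, 32, 192] := by
  obtain ⟨x, hx, hxl, hv⟩ := comp_mem L K hM R (l := [1771, 2024, 5544, 5796]) (by decide) hdeg
  simp only [compList, List.mem_cons, List.not_mem_nil, or_false] at hx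
  rcases hx with rfl | rfl | rfl | rfl | rfl <;> simp at hxl
  exact hv

end

end Cfsg.Agent.M24Order
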