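import Cfsg.Agent.Lib.M24Order.FiveData

/-!
A simple group of order 244823040 with the local data at twenty-three and eleven: the action at five has
order four and the principal rows have one of five sets of degrees.
-/

set_option linter.unusedSectionVars false
set_option linter.style.haveILetI false

namespace Cfsg.Agent.M24Order

open Cfsg Cfsg.Agent.Char Cfsg.Agent.Blocks Cfsg.Agent.CCSylow Cfsg.Agent.DefOne
open Cfsg.Agent.M23Order (Rows exists_rows)
open Cfsg.Agent.M23Uniq (t23)
open Cfsg.Agent.M24Uniq (Locals t11)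

universe u

variable {G : Type u} [Group G] [Fintype G]

/-- An element of order five commutes with an involution. -/
theorem two_dvd_comp_five (L : Locals G) [Fact (Nat.Prime 5)] {P : Sylow 5 G} {V : Subgroup G} {e : ℕ}
    (K : Conf 5 (P : Subgroup G) V (Subgroup.normalizer ((P : Subgroup G) : Set G)) e) :
    2 ∣ Nat.card V := by
  obtain ⟨g, x, hg, -, -⟩ := exists_ten L
  have h5 : orderOf (g ^ 2) = 5 := by rw [orderOf_pow_of_dvd (by norm_num) (by rw [hg]; norm_num), hg]
  have h := Subgroup.orderOf_dvd_natCard _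
    (Subgroup.mem_centralizer_singleton_iff.2 (Commute.self_pow g 2).eq)
  rw [hg, M22Uniq.cent_card K h5, show (10 : ℕ) = 5 * 2 from rfl] at h
  exact Nat.dvd_of_mul_dvd_mul_left (by norm_num) h

section

variable {P V N : Subgroup G} {M : Ideal AlgInt} [M.IsPrime] {e k : ℕ} {S : Finset (IrrCharacter G)}
  {c : IrrCharacter G → ℤ} {t : IrrCharacter G}

/-- A row at five has a listed degree. -/
theorem five_mem (L : Locals G) [Fintype V] (R : Rows 5 e k P V M S c t) {χ : IrrCharacter G} (hχ : χ ∈ S) {r : ℕ}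
    (hr : charDegree (χ : G → ℂ) % 5 = r ∨ charDegree (χ : G → ℂ) % 5 = 5 - r) :
    charDegree (χ : G → ℂ) ∈ degsF r := by
  refine List.mem_filter.2 ⟨deg_mem L (fun e : χ = principal G => R.ne_one (e ▸ hχ)), ?_⟩
  simp only [Bool.and_eq_true, Bool.or_eq_true, Nat.beq_eq, Bool.not_eq_true', ← Bool.not_eq_true]
  exact ⟨no_eleven L χ, hr⟩

end

/-- The configuration at five has an action of order four. -/
theorem five_conf (L : Locals G) [Fact (Nat.Prime 5)] : ∃ (P : Sylow 5 G) (V : Subgroup G) (n : ℕ),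
    Conf 5 (P : Subgroup G) V (Subgroup.normalizer ((P : Subgroup G) : Set G)) 4 ∧
      1 < n ∧ n % 5 = 1 ∧ n * (4 * (5 * Nat.card V)) = 244823040 := by
  classical
  haveI := L.simple
  obtain ⟨P, V, e, K, he, n, hn1, hn5, hn⟩ := exists_config L.card (p := 5) (by norm_num) (by norm_num)
  haveI : Fintype (P : Subgroup G) := Fintype.ofFinite _
  haveI : Fintype V := Fintype.ofFinite _
  haveI : Fintype (Subgroup.normalizer ((P : Subgroup G) : Set G)) := Fintype.ofFinite _
  haveI : Fintype ((P : Subgroup G) →* ℂˣ) := Fintype.ofFinite _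
  have he1 := e_ne_one L.card (by norm_num) K
  have he' : e = 2 ∨ e = 4 := by
    have := Nat.le_of_dvd (by norm_num) he
    interval_cases e <;> first | omega | norm_num at he
  rcases he' with rfl | rfl
  · exfalso
    obtain ⟨M, hM⟩ := exists_isPModular_witness 5
    haveI := IsPModular.isPrime hM
    obtain ⟨k, S, c, t, R⟩ := exists_rows hM (by norm_num) K
    obtain ⟨χ, hχ⟩ := Finset.card_eq_one.1
      (show (S.erase t).card = 1 by rw [Finset.card_erase_of_mem R.mem_t, R.card])
    obtain ⟨hne, hχS⟩ := Finset.mem_erase.1 (show χ ∈ S.erase t by rw [hχ]; exact Finset.mem_singleton_self _)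
    obtain ⟨hcs, hfr⟩ := coef_ord K R (by norm_num) hχS hne
    obtain ⟨hts, htr⟩ := coef_exc K R (by norm_num)
    have h0 := R.relation 1 (by simp)
    simp only [irr_one_eq_charDegree] at h0
    rw [← Finset.add_sum_erase _ _ R.mem_t, hχ, Finset.sum_singleton] at h0
    have h0' : 1 + c χ * (charDegree (χ : G → ℂ) : ℤ) + c t * (charDegree (t : G → ℂ) : ℤ) = 0 := by
      have : (1 : ℤ) + (c t * (charDegree (t : G → ℂ) : ℤ) + c χ * (charDegree (χ : G → ℂ) : ℤ)) = 0 := by
        exact_mod_cast h0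
      linarith
    have h := List.all_eq_true.1 (List.all_eq_true.1 five_two _ (five_mem L R hχS hfr)) _
      (five_mem L R R.mem_t htr)
    simp only [Bool.not_eq_true', decide_eq_false_iff_not, ← hcs, ← hts] at h
    exact h h0'
  · exact ⟨P, V, n, K, hn1, hn5, hn⟩

/-- The rows at five. -/
theorem five_pattern (L : Locals G) [Fact (Nat.Prime 5)] {P : Sylow 5 G} {V : Subgroup G}
    (K : Conf 5 (P : Subgroup G) V (Subgroup.normalizer ((P : Subgroup G) : Set G)) 4)
    [Fintype (P : Subgroup G)] [Fintype V] [Fintype (Subgroup.normalizer ((P : Subgroup G) : Set G))]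
    [Fintype ((P : Subgroup G) →* ℂˣ)] {M : Ideal AlgInt} [M.IsPrime] (hM : IsPModular 5 M) {k : ℕ}
    {S : Finset (IrrCharacter G)} {c : IrrCharacter G → ℤ} {t : IrrCharacter G}
    (R : Rows 5 4 k (P : Subgroup G) V M S c t) :
    k = 1 ∧ (∀ χ ∈ S, c χ = sgP 5 (charDegree (χ : G → ℂ))) ∧
      (∀ χ ∈ S, charDegree (χ : G → ℂ) % 5 = 1 ∨ charDegree (χ : G → ℂ) % 5 = 4) ∧
      (∃ l ∈ fivePats, S.val.map (fun χ : IrrCharacter G => charDegree (χ : G → ℂ)) = (l : Multiset ℕ)) ∧
      ¬ 7 ∣ Nat.card V := by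
  classical
  haveI := L.simple
  have hk : k * 4 = 4 := R.ek
  obtain rfl : k = 1 := by omega
  have hres : ∀ χ ∈ S, c χ = sgP 5 (charDegree (χ : G → ℂ)) ∧
      (charDegree (χ : G → ℂ) % 5 = 1 ∨ charDegree (χ : G → ℂ) % 5 = 4) := fun χ h => by
    by_cases hne : χ = t
    · subst hne
      obtain ⟨hts, htr⟩ := coef_exc K R (by norm_num)
      refine ⟨?_, by omega⟩
      rw [hts, excP, sgP]; split_ifs <;> omega
    · exact coef_ord K R (by norm_num) h hne
  set l := S.toList.map fun χ : IrrCharacter G => charDegree (χ : G → ℂ) with hl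
  have hlen : l.length = 4 := by rw [hl, List.length_map, Finset.length_toList, R.card]
  have hmul : S.val.map (fun χ : IrrCharacter G => charDegree (χ : G → ℂ)) = (l : Multiset ℕ) := by
    rw [hl, ← Multiset.map_coe, Finset.coe_toList]
  have hmem : ∀ d ∈ l, d ∈ degsF 1 := fun d hd => by
    obtain ⟨χ, hχ, rfl⟩ := List.mem_map.1 hd
    exact five_mem L R (Finset.mem_toList.1 hχ) (hres χ (Finset.mem_toList.1 hχ)).2
  have hsum : ∀ f : ℕ → ℤ, (l.map fun d => sgP 5 d * f d).sum =
      ∑ χ ∈ S, c χ * f (charDegree (χ : G → ℂ)) := fun f => by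
    rw [hl, List.map_map, ← Finset.sum_map_toList]
    exact congrArg _ (List.map_congr_left fun χ hχ => by
      simp [(hres χ (Finset.mem_toList.1 hχ)).1])
  have h1 : 1 + ∑ χ ∈ S, c χ * (charDegree (χ : G → ℂ) : ℤ) = 0 := by
    have h := R.relation 1 (by simp)
    simp only [irr_one_eq_charDegree] at h
    exact_mod_cast h
  obtain ⟨h23, h11⟩ := Rows.rel_local L K R (by norm_num) (by norm_num)
  have hpat : ∃ P' ∈ fivePats, l.Perm P' := by
    refine (five_four_spec hlen hmem (by rw [hsum fun d => (d : ℤ)]; exact h1) (by rw [hsum t23]; exact h23)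
      (by rw [hsum t11]; exact h11)).resolve_left fun h => ?_
    obtain ⟨χ, hχ, hd⟩ := List.mem_map.1 h
    exact Rows.no_full L K hM R Nat.prime_two (a := 10) (by norm_num) (Finset.mem_toList.1 hχ)
      (by rw [hd]; norm_num) (two_dvd_comp_five L K)
  obtain ⟨l', hl', hperm⟩ := hpat
  refine ⟨rfl, fun χ h => (hres χ h).1, fun χ h => (hres χ h).2,
    ⟨l', hl', by rw [hmul]; exact Multiset.coe_eq_coe.2 hperm⟩, ?_⟩
  have h5544 : (5544 : ℕ) ∈ l := by
    refine hperm.mem_iff.2 ?_
    clear hperm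
    revert l'
    decide
  obtain ⟨χ, hχ, hd⟩ := List.mem_map.1 h5544
  exact Rows.no_full L K hM R (by norm_num) (a := 1) (by norm_num) (Finset.mem_toList.1 hχ)
    (by rw [hd]; norm_num)

end Cfsg.Agent.M24Order
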