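import Cfsg.Agent.Lib.M24Order.Column
import Cfsg.Agent.Lib.M24Order.TwentyThree
import Cfsg.Agent.Lib.M24Uniq.SmallOfFamilies
import Cfsg.Agent.Lib.M23Order.FiveBase

/-!
A simple group of order 244823040 with the local data at twenty-three and eleven: the possible degrees
and what these primes impose on the rows of a principal block at another prime.
-/

set_option linter.unusedSectionVars false
set_option linter.style.haveILetI false

namespace Cfsg.Agent.M24Order

open scoped ComplexConjugate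
open Cfsg Cfsg.Agent.Char Cfsg.Agent.Blocks Cfsg.Agent.CCSylow Cfsg.Agent.DefOne
open Cfsg.Agent.M23Order (Rows)
open Cfsg.Agent.M23Uniq (tsum' pfam_at int_mod_cases t23 sgn)
open Cfsg.Agent.M24Uniq (Locals t11)

universe u

/-- A residue modulo twenty-three of an exceptional degree. -/
def excTT (d : ℕ) : Bool := Nat.beq (d % 23) 11 || Nat.beq (d % 23) 12

/-- A degree allowed by the primes twenty-three and eleven. -/
def locDeg (d : ℕ) : Bool :=
  (Nat.beq (d % 23) 0 || Nat.beq (d % 23) 1 || Nat.beq (d % 23) 22 || excTT d) &&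
    (Nat.beq (d % 11) 0 || Nat.beq (d % 11) 1 || Nat.beq (d % 11) 10)

/-- The possible degrees of nontrivial characters. -/
def degs : List ℕ := [11, 12, 22, 23, 45, 230, 231, 252, 253, 264, 276, 483, 495, 506, 528, 540, 736, 759,
  770, 990, 1012, 1024, 1035, 1242, 1265, 1288, 1518, 1540, 1760, 1771, 2024, 2277, 2530, 2760, 2772, 3024,
  3036, 3312, 3520, 3542, 3795, 3840, 4048, 4554, 4830, 5060, 5313, 5544, 5796, 6072, 6336, 6831, 7084, 7360,
  7590, 8096, 8832, 8855, 9108, 9856, 10120, 10395, 10626, 11385, 11880, 12144, 12420, 12672, 12880, 13662,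
  14168, 15180, 15456]

set_option maxRecDepth 20000 in
theorem degs_check : (degList locDeg).all (fun d => degs.elem d) = true := by decide +kernel

/-- No small degree is one modulo twenty-three. -/
theorem small_check : degs.all (fun d => !(Nat.beq (d % 23) 1) || !(Nat.blt d 122)) = true := by decide +kernel

variable {G : Type u} [Group G] [Fintype G]

/-- The degree of a nontrivial character is listed. -/
theorem deg_mem (L : Locals G) {χ : IrrCharacter G} (hne : χ ≠ principal G) :
    charDegree (χ : G → ℂ) ∈ degs := by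
  haveI := L.simple
  obtain ⟨hle, hdvd⟩ := deg_facts L.card χ
  have h1 : charDegree (χ : G → ℂ) ≠ 1 := fun e => hne (L.eq_principal e)
  have h0 := charDegree_pos χ
  obtain ⟨-, -, -, hres⟩ := M24Uniq.stats L
  obtain ⟨h23, h11⟩ := hres χ
  simp only [M24Join.pm, M23Uniq.dg, Bool.or_eq_true, M24Join.beq_iff] at h23 h11
  refine List.elem_iff.1 (List.all_eq_true.1 degs_check _ (List.mem_filter.2 ⟨mem_allDivs hdvd, ?_⟩))
  simp only [locDeg, excTT, Bool.and_eq_true, Bool.or_eq_true, Nat.ble_eq, Nat.beq_eq]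
  omega

/-- The exceptional degree at twenty-three is single. -/
theorem excTT_eq (L : Locals G) {χ ψ : IrrCharacter G} (h1 : excTT (charDegree (χ : G → ℂ)) = true)
    (h2 : excTT (charDegree (ψ : G → ℂ)) = true) :
    charDegree (χ : G → ℂ) = charDegree (ψ : G → ℂ) := by
  classical
  haveI : Fact (Nat.Prime 23) := ⟨by norm_num⟩
  obtain ⟨P⟩ : Nonempty (Sylow 23 G) := inferInstance
  haveI : Fintype (P : Subgroup G) := Fintype.ofFinite _
  obtain ⟨X, Y, δ, F, hall, -, -, -⟩ := pfam_at (p := 23) (e := 11) (k := 1) (by norm_num)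
    (fun x hx => by rw [L.c23 x hx]) (fun R => by rw [L.n23 R]) P
    (L.sylow_card (by norm_num) (by norm_num) P)
  simp only [excTT, Bool.or_eq_true, Nat.beq_eq] at h1 h2
  have hY : ∀ θ : IrrCharacter G,
      charDegree (θ : G → ℂ) % 23 = 11 ∨ charDegree (θ : G → ℂ) % 23 = 12 → θ ∈ Y := fun θ hθ =>
    (hall rfl θ fun h => by have := Nat.mod_eq_zero_of_dvd h; simp only [M23Uniq.dg] at *; omega).resolve_left fun h => by
      have := F.degX θ h; simp only [M23Uniq.dg] at *; omega
  exact F.eqY χ (hY χ h1) ψ (hY ψ h2)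

/-- There is an element of order ten whose fifth power inverts an element of order eleven. -/
theorem exists_ten (L : Locals G) : ∃ g x : G, orderOf g = 10 ∧ orderOf x = 11 ∧
    g ^ 5 * x * (g ^ 5)⁻¹ = x⁻¹ := by
  classical
  haveI : Fact (Nat.Prime 11) := ⟨by norm_num⟩
  haveI : Fact (Nat.Prime 2) := ⟨Nat.prime_two⟩
  haveI : Fact (Nat.Prime 5) := ⟨by norm_num⟩
  obtain ⟨Q⟩ : Nonempty (Sylow 11 G) := inferInstance
  have hQ : Nat.card Q = 11 := L.sylow_card (by norm_num) (by norm_num) Q
  set N := Subgroup.normalizer ((Q : Subgroup G) : Set G) with hNdef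
  have hN : Nat.card N = 110 := L.n11 Q
  have hc : IsCyclic (Q : Subgroup G) := isCyclic_of_prime_card hQ
  obtain ⟨y, hy⟩ := hc.exists_generator
  have hyo : orderOf y = 11 := by
    rw [orderOf_eq_card_of_forall_mem_zpowers hy]; exact hQ
  have hxo : orderOf (y : G) = 11 := by rw [Subgroup.orderOf_coe, hyo]
  let φ := Subgroup.normalizerMonoidHom (Q : Subgroup G)
  have hcomm : ∀ a b : MulAut (Q : Subgroup G), Commute a b := by
    intro a b
    ext z
    obtain ⟨i, rfl⟩ := Subgroup.mem_zpowers_iff.1 (hy z)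
    obtain ⟨m, hm⟩ := Subgroup.mem_zpowers_iff.1 (hy (a y))
    obtain ⟨n, hn⟩ := Subgroup.mem_zpowers_iff.1 (hy (b y))
    simp only [MulAut.mul_apply, map_zpow, ← hm, ← hn, ← zpow_mul]
    ring_nf
  have hker : ∀ w : N, φ w = 1 → Nat.Coprime (orderOf (w : G)) 11 → w = 1 := by
    intro w hw hco
    have h1 : (y : G) * w = w * y := by
      have h := congrArg (Subtype.val) (DFunLike.congr_fun hw y)
      change (w : G) * y * (w : G)⁻¹ = y at h
      exact (mul_inv_eq_iff_eq_mul.1 h).symm
    have hmem : (w : G) ∈ Subgroup.centralizer ({(y : G)} : Set G) :=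
      Subgroup.mem_centralizer_singleton_iff.2 h1.symm
    have h2 := Subgroup.orderOf_dvd_natCard _ hmem
    rw [L.c11 _ hxo] at h2
    exact Subtype.ext (orderOf_eq_one_iff.1 (Nat.eq_one_of_dvd_coprimes hco dvd_rfl h2))
  obtain ⟨h, hh⟩ := exists_prime_orderOf_dvd_card' (G := N) 5 (by rw [hN]; norm_num)
  obtain ⟨i, hi⟩ := exists_prime_orderOf_dvd_card' (G := N) 2 (by rw [hN]; norm_num)
  have hφh : orderOf (φ h) = 5 := orderOf_eq_prime (by rw [← map_pow, ← hh, pow_orderOf_eq_one, map_one])
    fun e => by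
      have := hker h e (by rw [Subgroup.orderOf_coe, hh]; norm_num)
      rw [this, orderOf_one] at hh; omega
  have hφi : orderOf (φ i) = 2 := orderOf_eq_prime (by rw [← map_pow, ← hi, pow_orderOf_eq_one, map_one])
    fun e => by
      have := hker i e (by rw [Subgroup.orderOf_coe, hi]; norm_num)
      rw [this, orderOf_one] at hi; omega
  have hφg : orderOf (φ (h * i)) = 10 := by
    rw [map_mul, (hcomm _ _).orderOf_mul_eq_mul_orderOf_of_coprime (by rw [hφh, hφi]; norm_num), hφh, hφi]
  have hg1 : 10 ∣ orderOf (h * i) := hφg ▸ orderOf_map_dvd φ (h * i)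
  have hg2 : orderOf (h * i) ∣ 110 := hN ▸ orderOf_dvd_natCard (h * i)
  have hgo : orderOf (h * i) = 10 := by
    have := Nat.le_of_dvd (by norm_num) hg2
    obtain ⟨l, hl⟩ := hg1
    rcases (Nat.dvd_prime (by norm_num : Nat.Prime 11)).1
      (Nat.dvd_of_mul_dvd_mul_left (by norm_num : 0 < 10) (by rw [← hl]; exact hg2 : 10 * l ∣ 10 * 11)) with e | e
    · rw [hl, e]
    exfalso
    have hg : orderOf ((h * i : N) : G) = 110 := by rw [Subgroup.orderOf_coe, hl, e]
    have hp : orderOf (((h * i : N) : G) ^ 10) = 11 := by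
      rw [orderOf_pow_of_dvd (by norm_num) (by rw [hg]; norm_num), hg]
    have h3 := Subgroup.orderOf_dvd_natCard _
      (Subgroup.mem_centralizer_singleton_iff.2 (Commute.self_pow ((h * i : N) : G) 10).eq)
    rw [L.c11 _ hp, hg] at h3
    norm_num at h3
  refine ⟨((h * i : N) : G), y, by rw [Subgroup.orderOf_coe, hgo], hxo, ?_⟩
  set w := (h * i) ^ 5 with hw
  obtain ⟨m, hm⟩ := Subgroup.mem_zpowers_iff.1 (hy (φ w y))
  have hw2 : φ w * φ w = 1 := by
    rw [← map_mul, hw, ← pow_add, show 5 + 5 = orderOf (h * i) by omega, pow_orderOf_eq_one, map_one]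
  have hwy : φ w y = y⁻¹ := by
    have h2 := DFunLike.congr_fun hw2 y
    rw [MulAut.mul_apply, ← hm, map_zpow, ← hm, ← zpow_mul, MulAut.one_apply] at h2
    have h3 : ((m * m : ℤ) : ZMod 11) = ((1 : ℤ) : ZMod 11) := by
      have := (zpow_eq_zpow_iff_modEq (x := y) (m := m * m) (n := 1)).1 (by rw [h2, zpow_one])
      rw [hyo] at this
      exact (ZMod.intCast_eq_intCast_iff _ _ 11).2 this
    push_cast at h3
    have h4 : ((m : ℤ) : ZMod 11) = 1 ∨ ((m : ℤ) : ZMod 11) = -1 := mul_self_eq_one_iff.1 h3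
    rcases h4 with h4 | h4
    · exfalso
      have : φ w = 1 := by
        ext z
        obtain ⟨j, rfl⟩ := Subgroup.mem_zpowers_iff.1 (hy z)
        have : y ^ m = y := by
          conv_rhs => rw [← zpow_one y]
          rw [zpow_eq_zpow_iff_modEq, hyo]
          exact (ZMod.intCast_eq_intCast_iff _ _ 11).1 (by push_cast; rw [h4])
        rw [map_zpow, ← hm, this, MulAut.one_apply]
      have h5 := congrArg orderOf (show φ (h * i) ^ 5 = 1 by rw [← map_pow]; exact this)
      rw [orderOf_pow_of_dvd (by norm_num) (by rw [hφg]; norm_num), hφg, orderOf_one] at h5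
      norm_num at h5
    · rw [← hm, ← zpow_neg_one, zpow_eq_zpow_iff_modEq, hyo]
      exact (ZMod.intCast_eq_intCast_iff _ _ 11).1 (by push_cast; rw [h4])
  have h6 := congrArg Subtype.val hwy
  change ((h * i : N) : G) ^ 5 * (y : G) * (((h * i : N) : G) ^ 5)⁻¹ = ((y⁻¹ : (Q : Subgroup G)) : G)
  rw [← h6, ← Subgroup.coe_pow, ← hw]
  rfl


/-- No character has degree eleven. -/
theorem no_eleven (L : Locals G) (a : IrrCharacter G) : charDegree (a : G → ℂ) ≠ 11 := by
  classical
  intro ha
  haveI : Fact (Nat.Prime 23) := ⟨by norm_num⟩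
  haveI := L.simple
  obtain ⟨P, V, K, hV⟩ := twentyThree L.card
  haveI : Fintype (P : Subgroup G) := Fintype.ofFinite _
  obtain ⟨X, Y, δ, F, hall, hzero⟩ := M23Order.fam K hV (by norm_num)
  have haY : a ∈ Y := (hall a (by rw [ha]; norm_num)).resolve_left fun h => by
    have := F.degX a h; rw [ha] at this; omega
  have hδ : δ = -1 := by
    have h := F.degY a haY
    rw [ha, Int.ModEq] at h
    rcases F.sign with s | s
    · rw [s] at h; norm_num at h
    · exact s
  -- the square of the absolute value decomposes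
  obtain ⟨m, hm⟩ := IsCharacter.exists_decomp
    (IsCharacter.mul (IsIrrCharacter.isCharacter a.2) (IsCharacter.conj (IsIrrCharacter.isCharacter a.2)))
  have hval : ∀ g : G, (a : G → ℂ) g * conj ((a : G → ℂ) g) = ∑ ψ : IrrCharacter G, (m ψ : ℂ) * (ψ : G → ℂ) g :=
    fun g => by
      have := congrFun hm g
      simpa [Finset.sum_apply] using this
  have hone : m (principal G) = 1 := by
    have h : (m (principal G) : ℂ) = 1 := by
      rw [← classInner_combination (fun ψ => (m ψ : ℂ)) (principal G), ← hm, ← classInner_self_irr a.2]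
      simp [Cfsg.classInner, principal]
    exact_mod_cast h
  have hdeg : ∑ ψ : IrrCharacter G, m ψ * charDegree (ψ : G → ℂ) = 121 := by
    have h := hval 1
    simp only [irr_one_eq_charDegree, map_natCast, ha] at h
    have h' : ((∑ ψ : IrrCharacter G, m ψ * charDegree (ψ : G → ℂ) : ℕ) : ℂ) = ((121 : ℕ) : ℂ) := by
      push_cast
      rw [← h]; norm_num
    exact_mod_cast h'
  -- the sums over the subgroup of order twenty-three
  have hts : ∀ ψ : IrrCharacter G, ∃ z : ℤ, tsum' (P : Subgroup G) ψ = z ∧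
      (ψ = principal G → z ≤ 22) ∧ (ψ ≠ principal G → m ψ ≠ 0 → z ≤ 0) := by
    intro ψ
    by_cases h : 23 ∣ charDegree (ψ : G → ℂ)
    · exact ⟨0, by rw [hzero ψ h]; simp, fun _ => by norm_num, fun _ _ => le_rfl⟩
    rcases hall ψ h with hX | hY
    · refine ⟨_, F.tX ψ hX, fun _ => ?_, fun hne hm0 => ?_⟩
      · simp only [sgn]; split_ifs <;> norm_num
      · have hle : charDegree (ψ : G → ℂ) ≤ 121 := by
          rw [← hdeg]
          exact le_trans (Nat.le_mul_of_pos_left _ (Nat.pos_of_ne_zero hm0))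
            (Finset.single_le_sum (f := fun χ : IrrCharacter G => m χ * charDegree (χ : G → ℂ))
              (fun _ _ => Nat.zero_le _) (Finset.mem_univ ψ))
        have hnot : charDegree (ψ : G → ℂ) % 23 ≠ 1 := by
          intro h1
          have h := List.all_eq_true.1 small_check _ (deg_mem L hne)
          simp only [Bool.or_eq_true, Bool.not_eq_true', ← Bool.not_eq_true, Nat.beq_eq,
            Nat.blt_eq] at h
          omega
        simp only [sgn, if_neg hnot]; norm_num
    · have : tsum' (P : Subgroup G) ψ = (((-1 : ℤ) * 11 : ℤ) : ℂ) := by rw [F.tY ψ hY, hδ]; norm_num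
      exact ⟨_, this, fun _ => by norm_num, fun _ _ => by norm_num⟩
  choose z hz hz1 hz2 using hts
  have hnorm : ((∑ u : (P : Subgroup G), (if u = 1 then 0 else Complex.normSq ((a : G → ℂ) u)) : ℝ) : ℂ) =
      ((∑ ψ : IrrCharacter G, (m ψ : ℤ) * z ψ : ℤ) : ℂ) := by
    push_cast
    have h1 : ∀ u : (P : Subgroup G), ((if u = 1 then 0 else Complex.normSq ((a : G → ℂ) u) : ℝ) : ℂ) =
        ∑ ψ : IrrCharacter G, (m ψ : ℂ) * (if u = 1 then 0 else (ψ : G → ℂ) u) := by
      intro u
      split_ifs with hu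
      · simp
      · rw [← hval, Complex.mul_conj]
    rw [Finset.sum_congr rfl fun u _ => h1 u, Finset.sum_comm]
    refine Finset.sum_congr rfl fun ψ _ => ?_
    rw [← hz ψ, ← Finset.mul_sum, M23Uniq.tsum'_eq]
    congr 1
    rw [← Finset.add_sum_erase _ _ (Finset.mem_univ (1 : (P : Subgroup G))), if_pos rfl, zero_add]
    exact Finset.sum_congr rfl fun u hu => if_neg (Finset.ne_of_mem_erase hu)
  have hle : ∑ ψ : IrrCharacter G, (m ψ : ℤ) * z ψ ≤ 22 := by
    rw [← Finset.add_sum_erase _ _ (Finset.mem_univ (principal G)), hone, Nat.cast_one, one_mul]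
    have : ∑ ψ ∈ (Finset.univ : Finset (IrrCharacter G)).erase (principal G), (m ψ : ℤ) * z ψ ≤ 0 :=
      Finset.sum_nonpos fun ψ hψ => by
        by_cases h0 : m ψ = 0
        · simp [h0]
        · exact mul_nonpos_of_nonneg_of_nonpos (by positivity) (hz2 ψ (Finset.ne_of_mem_erase hψ) h0)
    have := hz1 _ (rfl : principal G = principal G)
    linarith
  have hlow := (DefectZero.restrict_bound (p := 23) (IsIrrCharacter.isCharacter a.2)
    (irr_one_eq_charDegree a) (P : Subgroup G) K.hP 1 one_ne_zero (Nat.coprime_one_left 23) (fun u _ => by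
      rw [Nat.cast_one, div_one]
      exact IsCharacter.isIntegral (IsIrrCharacter.isCharacter a.2) (u : G))
    (r := 11) (by norm_num) (by rw [ha])).1
  have h' : (∑ u : (P : Subgroup G), (if u = 1 then 0 else Complex.normSq ((a : G → ℂ) u)) : ℝ) =
      ((∑ ψ : IrrCharacter G, (m ψ : ℤ) * z ψ : ℤ) : ℝ) := by exact_mod_cast hnorm
  rw [h'] at hlow
  have : (132 : ℤ) ≤ ∑ ψ : IrrCharacter G, (m ψ : ℤ) * z ψ := by
    have h2 : (((1 ^ 2 * (11 * (23 - 11)) : ℕ) : ℤ) : ℝ) ≤ ((∑ ψ : IrrCharacter G, (m ψ : ℤ) * z ψ : ℤ) : ℝ) := by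
      push_cast at hlow ⊢; linarith
    exact_mod_cast h2
  omega

variable {p e k : ℕ} {P V N : Subgroup G} [Fintype V] {M : Ideal AlgInt} [M.IsPrime]
  {S : Finset (IrrCharacter G)} {c : IrrCharacter G → ℤ} {t : IrrCharacter G}

/-- The relation summed over a subgroup of order prime to the prime. -/
theorem Rows.rel_tsum' (K : Conf p P V N e) (R : Rows p e k P V M S c t) (Q : Subgroup G) [Fintype Q]
    (hQ : ¬ p ∣ Nat.card Q) (f : ℕ → ℤ) (hf : ∀ χ : IrrCharacter G, tsum' Q χ = (f (charDegree (χ : G → ℂ)) : ℂ)) :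
    f 1 + ∑ χ ∈ S, c χ * f (charDegree (χ : G → ℂ)) = 0 := by
  classical
  have hd := R.relation 1 (by simpa using K.hp.ne_one)
  simp only [irr_one_eq_charDegree] at hd
  have hy : ∀ y : Q, ¬ p ∣ orderOf (y : G) := fun y h => hQ (h.trans (Subgroup.orderOf_dvd_natCard Q y.2))
  have h1 : tsum' Q (principal G) = (f 1 : ℂ) := by
    rw [hf, show charDegree (principal G : G → ℂ) = 1 from Cfsg.Agent.CharX.charDegree_one]
  have hp1 : tsum' Q (principal G) = ∑ _y : Q, (1 : ℂ) - 1 := by
    simp only [tsum', show charDegree (principal G : G → ℂ) = 1 from Cfsg.Agent.CharX.charDegree_one,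
      Nat.cast_one]
    rfl
  have hsum : ∑ y : Q, (1 + ∑ χ ∈ S, (c χ : ℂ) * (χ : G → ℂ) y) = 0 :=
    Finset.sum_eq_zero fun y _ => R.relation _ (hy y)
  rw [Finset.sum_add_distrib, Finset.sum_comm] at hsum
  simp only [← Finset.mul_sum] at hsum
  have : ((f 1 + ∑ χ ∈ S, c χ * f (charDegree (χ : G → ℂ)) : ℤ) : ℂ) = 0 := by
    push_cast
    rw [← h1, hp1, Finset.sum_congr (s₁ := S) rfl fun χ _ => by rw [← hf χ]]
    simp only [tsum', mul_sub, Finset.sum_sub_distrib]
    linear_combination hsum - hd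
  exact_mod_cast this

/-- The relations at twenty-three and eleven. -/
theorem Rows.rel_local (L : Locals G) (K : Conf p P V N e) (R : Rows p e k P V M S c t) (h23 : p ≠ 23)
    (h11 : p ≠ 11) :
    22 + ∑ χ ∈ S, c χ * t23 (charDegree (χ : G → ℂ)) = 0 ∧
      10 + ∑ χ ∈ S, c χ * t11 (charDegree (χ : G → ℂ)) = 0 := by
  classical
  haveI : Fact (Nat.Prime 23) := ⟨by norm_num⟩
  haveI : Fact (Nat.Prime 11) := ⟨by norm_num⟩
  obtain ⟨Q⟩ : Nonempty (Sylow 23 G) := inferInstance
  obtain ⟨Q'⟩ : Nonempty (Sylow 11 G) := inferInstance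
  haveI : Fintype (Q : Subgroup G) := Fintype.ofFinite _
  haveI : Fintype (Q' : Subgroup G) := Fintype.ofFinite _
  have hQ : Nat.card Q = 23 := L.sylow_card (by norm_num) (by norm_num) Q
  have hQ' : Nat.card Q' = 11 := L.sylow_card (by norm_num) (by norm_num) Q'
  refine ⟨?_, ?_⟩
  · have h := Rows.rel_tsum' K R (Q : Subgroup G)
      (by rw [hQ]; exact fun h => h23 ((Nat.prime_dvd_prime_iff_eq K.hp (by norm_num)).1 h)) t23
      (M24Uniq.tsum23 L Q)
    rwa [show t23 1 = 22 by decide] at h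
  · have h := Rows.rel_tsum' K R (Q' : Subgroup G)
      (by rw [hQ']; exact fun h => h11 ((Nat.prime_dvd_prime_iff_eq K.hp (by norm_num)).1 h)) t11
      (M24Uniq.tsum11 L Q')
    rwa [show t11 1 = 10 by decide] at h

/-- The primes twenty-three and eleven do not divide the complement at another prime. -/
theorem comp_coprime (L : Locals G) (K : Conf p P V N e) (h23 : p ≠ 23) (h11 : p ≠ 11) :
    ¬ 23 ∣ Nat.card V ∧ ¬ 11 ∣ Nat.card V := by
  haveI : Fact (Nat.Prime 23) := ⟨by norm_num⟩
  haveI : Fact (Nat.Prime 11) := ⟨by norm_num⟩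
  exact ⟨M23Order.not_dvd_of_cent L.c23 K h23, M23Order.not_dvd_of_cent L.c11 K h11⟩

/-- A prime with its full power in a degree of the principal block does not divide the complement. -/
theorem Rows.no_full (L : Locals G) (K : Conf p P V N e) [Fintype P] [Fintype N] [Fintype (P →* ℂˣ)]
    (hM : IsPModular p M) (R : Rows p e k P V M S c t) {q a : ℕ} (hq : q.Prime)
    (ha : ¬ q ^ (a + 1) ∣ 244823040) {χ : IrrCharacter G} (hχ : χ ∈ S)
    (hd : q ^ a ∣ charDegree (χ : G → ℂ)) : ¬ q ∣ Nat.card V := by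
  haveI := L.simple
  refine M23Order.not_dvd_V K hM (R.block χ hχ) hq ?_
  rw [L.card]
  refine le_antisymm ((Nat.factorization_le_iff_dvd (charDegree_pos χ).ne' (by norm_num)).2
    (deg_facts L.card χ).2 q) ?_
  have h1 : (244823040 : ℕ).factorization q ≤ a := by
    by_contra h
    exact ha ((hq.pow_dvd_iff_le_factorization (by norm_num)).2 (by omega))
  exact h1.trans ((hq.pow_dvd_iff_le_factorization (charDegree_pos χ).ne').1 hd)

end Cfsg.Agent.M24Order
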