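import Cfsg.Agent.Lib.M24Order.FiveData

/-!
The searches for the principal rows at seven.
-/

namespace Cfsg.Agent.M24Order

open Cfsg.Agent.M23Uniq (t23)
open Cfsg.Agent.M24Uniq (t11)

/-- The degrees congruent to `r` or `-r` modulo seven, eleven excepted. -/
def degsS (r : ℕ) : List ℕ :=
  degs.filter fun d => !(Nat.beq d 11) && (Nat.beq (d % 7) r || Nat.beq (d % 7) (7 - r))

set_option maxRecDepth 10000 in
/-- The rows for an action of order two. -/
theorem seven_two : (degsS 1).all (fun f => (degsS 2).all fun g =>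
    !(decide (1 + sgP 7 f * (f : ℤ) + excP 7 2 g * (g : ℤ) = 0)) || Nat.beq f 22 && Nat.beq g 23) = true := by
  decide +kernel

/-- The possible degrees for an action of order three: two ordinary rows and the exceptional one. -/
def threePats : List (ℕ × ℕ × ℕ) :=
  [(22, 22, 45), (22, 253, 276), (22, 736, 759), (22, 1035, 1012), (253, 736, 990), (1035, 2024, 990),
    (1035, 3520, 4554), (3520, 3795, 276)]

set_option maxRecDepth 10000 in
/-- The rows for an action of order three. -/
theorem seven_three : (degsS 1).all (fun f => (degsS 1).all fun g => (degsS 3).all fun h =>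
    !(decide (1 + (sgP 7 f * (f : ℤ) + sgP 7 g * (g : ℤ)) + excP 7 3 h * (h : ℤ) = 0)) ||
      threePats.elem (f, g, h) || threePats.elem (g, f, h)) = true := by
  decide +kernel

/-- The degrees of the rows other than 2024 for an action of order six. -/
def sixPats : List (List ℕ) := [
  [22, 230, 253, 1035, 1035], [22, 230, 736, 1035, 1518], [22, 253, 253, 1035, 1518],
  [22, 253, 736, 1518, 1518], [22, 253, 736, 2024, 5060], [22, 253, 736, 3795, 6831],
  [22, 253, 1035, 3795, 5060], [22, 736, 736, 3312, 6831], [22, 736, 1035, 3312, 5060],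
  [22, 736, 1518, 3795, 5060], [22, 736, 2024, 2024, 6831], [22, 736, 5060, 6831, 9108],
  [22, 1035, 1518, 1518, 2024], [22, 1035, 2024, 2024, 5060], [22, 1035, 2024, 3795, 6831],
  [22, 1035, 5060, 5060, 9108], [230, 253, 736, 736, 3520], [230, 736, 1035, 2024, 3520],
  [230, 1035, 1035, 3520, 3795], [253, 253, 253, 736, 3520], [253, 253, 1035, 2024, 3520],
  [253, 736, 1518, 2024, 3520], [253, 1035, 1035, 3312, 3520], [253, 1035, 1518, 3520, 3795],
  [253, 1035, 3520, 6831, 9108], [540, 540, 1035, 1035, 1035], [736, 1035, 1518, 3312, 3520],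
  [736, 1518, 1518, 3520, 3795], [736, 1518, 3520, 6831, 9108], [736, 2024, 3520, 3795, 5060],
  [736, 3520, 3795, 3795, 6831], [1035, 1518, 2024, 2024, 3520], [1035, 1518, 3520, 5060, 9108],
  [1035, 3520, 3795, 3795, 5060]]

/-- The weight of the five rows and the principal character. -/
def restSq : ℕ := 1 + (1771 * 1771 + (2024 * 2024 + (5544 * 5544 + 5796 * 5796)))

/-- At most one exceptional degree at twenty-three. -/
def excOne (l : List ℕ) : Bool :=
  l.all fun x => l.all fun y => !(excTT x) || !(excTT y) || Nat.beq x y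

/-- What five degrees have to satisfy. -/
def sixOk (l : List ℕ) : Bool :=
  !(decide (2025 + (l.map fun d : ℕ => sgP 7 d * (d : ℤ)).sum = 0)) ||
    !(decide (22 + (t23 2024 + (l.map fun d => sgP 7 d * t23 d).sum) = 0)) ||
    !(decide (10 + (t11 2024 + (l.map fun d => sgP 7 d * t11 d).sum) = 0)) ||
    !(excOne l) || !(Nat.ble ((l.map fun d => d * d).sum + restSq) 244823040) || sixPats.elem l

/-- The fifth degree is determined by four. -/
def sixStep (a b c d : ℕ) : Bool :=
  let f := (2025 + (sgP 7 a * (a : ℤ) + (sgP 7 b * (b : ℤ) + (sgP 7 c * (c : ℤ) + sgP 7 d * (d : ℤ))))).natAbs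
  !(Nat.ble d f) || !((degsS 1).elem f) || sixOk [a, b, c, d, f]

set_option maxRecDepth 10000 in
/-- The rows for an action of order six. -/
theorem seven_six : (degsS 1).all (fun a => (degsS 1).all fun b => !(Nat.ble a b) ||
    (degsS 1).all fun c => !(Nat.ble b c) || (degsS 1).all fun d => !(Nat.ble c d) || sixStep a b c d) = true := by
  decide +kernel

/-- Five sorted degrees are listed. -/
theorem seven_six_spec {l : List ℕ} (hl : l.length = 5) (hs : l.Pairwise (· ≤ ·)) (hm : ∀ d ∈ l, d ∈ degsS 1)
    (h1 : 2025 + (l.map fun d : ℕ => sgP 7 d * (d : ℤ)).sum = 0)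
    (h2 : 22 + (t23 2024 + (l.map fun d => sgP 7 d * t23 d).sum) = 0)
    (h3 : 10 + (t11 2024 + (l.map fun d => sgP 7 d * t11 d).sum) = 0)
    (hx : excOne l = true) (hq : (l.map fun d => d * d).sum + restSq ≤ 244823040) : l ∈ sixPats := by
  match l, hl with
  | [a, b, c, d, f], _ =>
    simp only [List.pairwise_cons, List.mem_cons, List.not_mem_nil, or_false, forall_eq_or_imp, forall_eq] at hs
    have h := List.all_eq_true.1 seven_six a (hm a (by simp))
    simp only [List.all_eq_true, Bool.or_eq_true, Bool.not_eq_true', ← Bool.not_eq_true, Nat.ble_eq] at h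
    have h' := ((((h b (hm b (by simp))).resolve_left (not_not_intro hs.1.1)) c (hm c (by simp))).resolve_left
      (not_not_intro hs.2.1.1) d (hm d (by simp))).resolve_left (not_not_intro hs.2.2.1.1)
    have hf : (2025 + (sgP 7 a * (a : ℤ) + (sgP 7 b * (b : ℤ) + (sgP 7 c * (c : ℤ) + sgP 7 d * (d : ℤ))))).natAbs
        = f := by
      simp only [List.map_cons, List.map_nil, List.sum_cons, List.sum_nil, add_zero] at h1
      have hs' : sgP 7 f = 1 ∨ sgP 7 f = -1 := by simp only [sgP]; split_ifs <;> simp
      rcases hs' with e | e <;> rw [e] at h1 <;> omega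
    simp only [sixStep, hf, List.elem_iff.2 (hm f (by simp)), Bool.not_true, Bool.false_or, Bool.or_eq_true,
      Bool.not_eq_true', ← Bool.not_eq_true, Nat.ble_eq, sixOk, decide_eq_true_eq, List.elem_iff] at h'
    rcases h' with (h' | h') | (((((h' | h') | h') | h') | h') | h')
    · exact absurd hs.2.2.2.1 h'
    · exact absurd h' Bool.false_ne_true
    all_goals first | exact absurd h1 h' | exact absurd h2 h' | exact absurd h3 h' | exact absurd hx h' |
      exact absurd hq h' | exact h'

end Cfsg.Agent.M24Order
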