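import Cfsg.Agent.Lib.M24Order.SevenData
import Cfsg.Agent.Lib.M24Order.FiveJoin

/-!
A simple group of order 244823040: the rows at seven. The action has order three with rows of degrees
1035, 2024, 990, or order six with the row of degree 2024 common with five and one of thirty-four patterns.
-/

set_option linter.unusedSectionVars false
set_option linter.style.haveILetI false

namespace Cfsg.Agent.M24Order

open Cfsg Cfsg.Agent.Char Cfsg.Agent.Blocks Cfsg.Agent.CCSylow Cfsg.Agent.DefOne
open Cfsg.Agent.M23Order (Rows exists_rows)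
open Cfsg.Agent.M23Uniq (t23)
open Cfsg.Agent.M24Uniq (Locals t11)

open scoped ComplexConjugate

universe u

variable {G : Type u} [Group G] [Fintype G]

/-- A row at seven has a listed degree. -/
theorem seven_mem (L : Locals G) {P V : Subgroup G} {M : Ideal AlgInt} [M.IsPrime] {e k : ℕ}
    {S : Finset (IrrCharacter G)} {c : IrrCharacter G → ℤ} {t : IrrCharacter G} [Fintype V]
    (R : Rows 7 e k P V M S c t) {χ : IrrCharacter G} (hχ : χ ∈ S) {r : ℕ}
    (hr : charDegree (χ : G → ℂ) % 7 = r ∨ charDegree (χ : G → ℂ) % 7 = 7 - r) :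
    charDegree (χ : G → ℂ) ∈ degsS r := by
  refine List.mem_filter.2 ⟨deg_mem L (fun e : χ = principal G => R.ne_one (e ▸ hχ)), ?_⟩
  simp only [Bool.and_eq_true, Bool.or_eq_true, Nat.beq_eq, Bool.not_eq_true', ← Bool.not_eq_true]
  exact ⟨no_eleven L χ, hr⟩

section

variable (L : Locals G) [Fact (Nat.Prime 5)] [Fact (Nat.Prime 7)]
  {P : Sylow 5 G} {V : Subgroup G}
  (K : Conf 5 (P : Subgroup G) V (Subgroup.normalizer ((P : Subgroup G) : Set G)) 4)
  [Fintype (P : Subgroup G)] [Fintype V] [Fintype (Subgroup.normalizer ((P : Subgroup G) : Set G))]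
  [Fintype ((P : Subgroup G) →* ℂˣ)] {M : Ideal AlgInt} [M.IsPrime] (hM : IsPModular 5 M)
  {S : Finset (IrrCharacter G)} {c : IrrCharacter G → ℤ} {t : IrrCharacter G}
  (R : Rows 5 4 1 (P : Subgroup G) V M S c t)

include L K hM R

/-- The degrees of the rows at five are different and among six. -/
theorem five_degs : (S.val.map fun χ : IrrCharacter G => charDegree (χ : G → ℂ)).Nodup ∧
    ∀ χ ∈ S, charDegree (χ : G → ℂ) ∈ [506, 759, 1771, 2024, 5544, 5796] := by
  rcases five_pinned L K hM R with h | h <;> refine ⟨by rw [h]; decide, fun χ hχ => ?_⟩ <;>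
    (have hd := Multiset.mem_map_of_mem (fun χ : IrrCharacter G => charDegree (χ : G → ℂ)) hχ
     rw [h] at hd
     simp only [Multiset.mem_coe, List.mem_cons, List.not_mem_nil, or_false] at hd ⊢
     omega)

/-- Two rows at five with the same degree are equal. -/
theorem five_inj {χ ψ : IrrCharacter G} (hχ : χ ∈ S) (hψ : ψ ∈ S)
    (h : charDegree (χ : G → ℂ) = charDegree (ψ : G → ℂ)) : χ = ψ :=
  Multiset.inj_on_of_nodup_map (five_degs L K hM R).1 χ hχ ψ hψ h

/-- The average over the section at five. -/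
theorem phi_five {χ : IrrCharacter G} (hne : χ ≠ principal G) {y : (P : Subgroup G)} (hy : y ≠ 1)
    [Decidable (χ ∈ S)] : phi (χ : G → ℂ) (trivB V) y = if χ ∈ S then (c χ : ℂ) else 0 := by
  split_ifs with h
  · exact R.phi_eq χ h (Or.inr rfl) y hy
  · exact phi_not_principal K hM (fun hb => (R.single rfl χ hb).elim hne h) hy

variable {P' : Sylow 7 G} {V' : Subgroup G} {e : ℕ}
  (K' : Conf 7 (P' : Subgroup G) V' (Subgroup.normalizer ((P' : Subgroup G) : Set G)) e)
  [Fintype (P' : Subgroup G)] [Fintype V'] [Fintype (Subgroup.normalizer ((P' : Subgroup G) : Set G))]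
  [Fintype ((P' : Subgroup G) →* ℂˣ)] {M' : Ideal AlgInt} [M'.IsPrime] (hM' : IsPModular 7 M')
  {k : ℕ} {S' : Finset (IrrCharacter G)} {c' : IrrCharacter G → ℤ} {t' : IrrCharacter G}
  (R' : Rows 7 e k (P' : Subgroup G) V' M' S' c' t')

include K'

/-- Five does not divide the complement at seven. -/
theorem five_not_dvd' : ¬ 5 ∣ Nat.card V' := by
  obtain ⟨-, -, -, -, h7⟩ := five_pattern L K hM R
  intro h
  obtain ⟨u, hu⟩ := exists_prime_orderOf_dvd_card' (G := V') 5 h
  obtain ⟨z, hz⟩ := exists_ne_one_P K'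
  have hmem : (z : G) ∈ Subgroup.centralizer ({(u : G)} : Set G) :=
    Subgroup.mem_centralizer_singleton_iff.2 (K'.D.pv _ z.2 _ u.2)
  have h' := Subgroup.orderOf_dvd_natCard _ hmem
  rw [DefOne.orderOf_P K' z.2 (fun e => hz (Subtype.ext e)),
    M22Uniq.cent_card K (show orderOf (u : G) = 5 by rw [Subgroup.orderOf_coe, hu])] at h'
  exact h7 ((show Nat.Coprime 7 5 by norm_num).dvd_of_dvd_mul_left h')

include R'

/-- The average over a section at five is fixed by the Galois automorphisms of seven. -/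
theorem phi_five_fixed (y : (P : Subgroup G)) (σ : ℂ ≃+* ℂ) (hσ : FixesP 7 σ) (χ : IrrCharacter G) :
    phi (galT σ χ : G → ℂ) (trivB V) y = phi (χ : G → ℂ) (trivB V) y := by
  obtain ⟨-, -, -, -, h7⟩ := five_pattern L K hM R
  simp only [phi, galT_apply]
  congr 1
  refine Finset.sum_congr rfl fun w _ => ?_
  rw [irr_regular_fixed hσ χ fun h => ?_]
  have hmem : (y : G) * w ∈ Subgroup.centralizer ((P : Subgroup G) : Set G) :=
    (K.hC _).2 ⟨y, y.2, w, w.2, rfl⟩
  have h' := h.trans (Subgroup.orderOf_dvd_natCard _ hmem)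
  rw [card_centralizer K] at h'
  exact h7 ((show Nat.Coprime 7 5 by norm_num).dvd_of_dvd_mul_left h')

open Classical in
/-- The principal components at five and seven are orthogonal. -/
theorem seven_orth : 1 + ∑ χ ∈ S', c' χ * (if χ ∈ S then c χ else 0) = 0 := by
  obtain ⟨y, hy⟩ := exists_ne_one_P K
  obtain ⟨z, hz⟩ := exists_ne_one_P K'
  have horth := M23Order.phi_orth K K' (by norm_num) (five_not_dvd' L K hM R K') hy z
  rw [R'.sum_phi (fun χ => phi (χ : G → ℂ) (trivB V) y)
      (phi_five_fixed L K hM R K' R' y) z hz,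
    phi_principal K hM principal_mem_principalBlock hy,
    Finset.sum_congr rfl fun χ hχ => by
      rw [phi_five L K hM R (fun e : χ = principal G => R'.ne_one (e ▸ hχ)) hy]] at horth
  simp only [principal] at horth
  exact_mod_cast horth

/-- Some row is common. -/
theorem exists_common : ∃ χ ∈ S', χ ∈ S := by
  classical
  by_contra h
  push Not at h
  have h0 := seven_orth L K hM R K' R'
  rw [Finset.sum_eq_zero fun χ hχ => by rw [if_neg (h χ hχ), mul_zero]] at h0
  norm_num at h0

end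

section

variable (L : Locals G) [Fact (Nat.Prime 5)] [Fact (Nat.Prime 7)]
  {P : Sylow 5 G} {V : Subgroup G}
  (K : Conf 5 (P : Subgroup G) V (Subgroup.normalizer ((P : Subgroup G) : Set G)) 4)
  [Fintype (P : Subgroup G)] [Fintype V] [Fintype (Subgroup.normalizer ((P : Subgroup G) : Set G))]
  [Fintype ((P : Subgroup G) →* ℂˣ)] {M : Ideal AlgInt} [M.IsPrime] (hM : IsPModular 5 M)
  {S : Finset (IrrCharacter G)} {c : IrrCharacter G → ℤ} {t : IrrCharacter G}
  (R : Rows 5 4 1 (P : Subgroup G) V M S c t)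

include L K hM R

/-- The action at seven has not order two. -/
theorem seven_not_two {P' : Sylow 7 G} {V' : Subgroup G}
    (K' : Conf 7 (P' : Subgroup G) V' (Subgroup.normalizer ((P' : Subgroup G) : Set G)) 2)
    [Fintype (P' : Subgroup G)] [Fintype V'] [Fintype (Subgroup.normalizer ((P' : Subgroup G) : Set G))]
    [Fintype ((P' : Subgroup G) →* ℂˣ)] {M' : Ideal AlgInt} [M'.IsPrime] (hM' : IsPModular 7 M') : False := by
  classical
  haveI := L.simple
  obtain ⟨k, S', c', t', R'⟩ := exists_rows hM' (by norm_num) K'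
  obtain ⟨x, hx⟩ := Finset.card_eq_one.1
    (show (S'.erase t').card = 1 by rw [Finset.card_erase_of_mem R'.mem_t, R'.card])
  obtain ⟨hne, hxS⟩ := Finset.mem_erase.1 (show x ∈ S'.erase t' by rw [hx]; exact Finset.mem_singleton_self _)
  obtain ⟨hcs, hfr⟩ := coef_ord K' R' (by norm_num) hxS hne
  obtain ⟨hts, htr⟩ := coef_exc K' R' (by norm_num)
  have h0 := R'.relation 1 (by simp)
  simp only [irr_one_eq_charDegree] at h0
  rw [← Finset.add_sum_erase _ _ R'.mem_t, hx, Finset.sum_singleton] at h0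
  have h0' : 1 + c' x * (charDegree (x : G → ℂ) : ℤ) + c' t' * (charDegree (t' : G → ℂ) : ℤ) = 0 := by
    have : (1 : ℤ) + (c' t' * (charDegree (t' : G → ℂ) : ℤ) + c' x * (charDegree (x : G → ℂ) : ℤ)) = 0 := by
      exact_mod_cast h0
    linarith
  have h := List.all_eq_true.1 (List.all_eq_true.1 seven_two _ (seven_mem L R' hxS hfr)) _
    (seven_mem L R' R'.mem_t htr)
  simp only [Bool.or_eq_true, Bool.and_eq_true, Bool.not_eq_true', decide_eq_false_iff_not, Nat.beq_eq,
    ← hcs, ← hts] at h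
  obtain ⟨e1, e2⟩ := h.resolve_left (not_not_intro h0')
  obtain ⟨χ, hχ', hχ⟩ := exists_common L K hM R K' R'
  have hd := (five_degs L K hM R).2 χ hχ
  by_cases hχt : χ = t'
  · rw [hχt, e2] at hd; simp at hd
  · have : χ = x := Finset.mem_singleton.1 (hx ▸ Finset.mem_erase.2 ⟨hχt, hχ'⟩)
    rw [this, e1] at hd; simp at hd

/-- The rows for an action of order three. -/
theorem three_rows {P' : Sylow 7 G} {V' : Subgroup G}
    (K' : Conf 7 (P' : Subgroup G) V' (Subgroup.normalizer ((P' : Subgroup G) : Set G)) 3)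
    [Fintype (P' : Subgroup G)] [Fintype V'] [Fintype (Subgroup.normalizer ((P' : Subgroup G) : Set G))]
    [Fintype ((P' : Subgroup G) →* ℂˣ)] {M' : Ideal AlgInt} [M'.IsPrime] (hM' : IsPModular 7 M') :
    ∃ (S' : Finset (IrrCharacter G)) (c' : IrrCharacter G → ℤ) (t' χu χb : IrrCharacter G),
      Rows 7 3 2 (P' : Subgroup G) V' M' S' c' t' ∧ charDegree (χu : G → ℂ) = 1035 ∧
      charDegree (χb : G → ℂ) = 2024 ∧ charDegree (t' : G → ℂ) = 990 ∧
      ∀ h : IrrCharacter G → ℂ, ∑ χ ∈ S', (c' χ : ℂ) * h χ = -h χu + h χb - h t' := by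
  classical
  haveI := L.simple
  obtain ⟨k, S', c', t', R'⟩ := exists_rows hM' (by norm_num) K'
  obtain rfl : k = 2 := by have := R'.ek; omega
  obtain ⟨x, x', hxx, hx⟩ := Finset.card_eq_two.1
    (show (S'.erase t').card = 2 by rw [Finset.card_erase_of_mem R'.mem_t, R'.card])
  obtain ⟨hne, hxS⟩ := Finset.mem_erase.1 (show x ∈ S'.erase t' by rw [hx]; exact Finset.mem_insert_self _ _)
  obtain ⟨hne', hxS'⟩ := Finset.mem_erase.1 (show x' ∈ S'.erase t' by
    rw [hx]; exact Finset.mem_insert_of_mem (Finset.mem_singleton_self _))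
  obtain ⟨hcs, hfr⟩ := coef_ord K' R' (by norm_num) hxS hne
  obtain ⟨hcs', hfr'⟩ := coef_ord K' R' (by norm_num) hxS' hne'
  obtain ⟨hts, htr⟩ := coef_exc K' R' (by norm_num)
  have hsum : ∀ h : IrrCharacter G → ℂ, ∑ χ ∈ S', (c' χ : ℂ) * h χ =
      (c' t' : ℂ) * h t' + ((c' x : ℂ) * h x + (c' x' : ℂ) * h x') := fun h => by
    rw [← Finset.add_sum_erase _ _ R'.mem_t, hx, Finset.sum_pair hxx]
  have h0 := R'.relation 1 (by simp)
  simp only [irr_one_eq_charDegree] at h0
  rw [hsum] at h0
  have h0' : 1 + (c' x * (charDegree (x : G → ℂ) : ℤ) + c' x' * (charDegree (x' : G → ℂ) : ℤ)) +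
      c' t' * (charDegree (t' : G → ℂ) : ℤ) = 0 := by
    have : (1 : ℤ) + (c' t' * (charDegree (t' : G → ℂ) : ℤ) +
        (c' x * (charDegree (x : G → ℂ) : ℤ) + c' x' * (charDegree (x' : G → ℂ) : ℤ))) = 0 := by
      exact_mod_cast h0
    linarith
  have h := List.all_eq_true.1 (List.all_eq_true.1 (List.all_eq_true.1 seven_three _ (seven_mem L R' hxS hfr)) _
    (seven_mem L R' hxS' hfr')) _ (seven_mem L R' R'.mem_t htr)
  simp only [Bool.or_eq_true, Bool.not_eq_true', decide_eq_false_iff_not, List.elem_iff, ← hcs, ← hcs',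
    ← hts] at h
  -- a common row
  obtain ⟨χ, hχ', hχ⟩ := exists_common L K hM R K' R'
  have hd := (five_degs L K hM R).2 χ hχ
  have h759 : χ = t' → False := fun e => by
    subst e
    obtain ⟨σ, hσ, hσt⟩ := exists_conj_row K' hM' R' le_rfl
    obtain ⟨y, hy⟩ := exists_ne_one_P K
    have hdg : charDegree (galT σ χ : G → ℂ) = charDegree (χ : G → ℂ) := by
      have e1 := DefOne.galT_one σ χ
      rw [irr_one_eq_charDegree, irr_one_eq_charDegree] at e1
      exact_mod_cast e1
    refine hσt (five_inj L K hM R (by_contra fun hn => ?_) hχ hdg)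
    have h1 := phi_five_fixed L K hM R K' R' y σ hσ χ
    rw [phi_five L K hM R (fun e : galT σ χ = principal G => ?_) hy, if_neg hn,
      phi_five L K hM R (fun e : χ = principal G => R.ne_one (e ▸ hχ)) hy, if_pos hχ] at h1
    · rcases R.sign χ hχ with s | s <;> rw [s] at h1 <;> norm_num at h1
    · have h1' : charDegree (principal G : G → ℂ) = 1 := Cfsg.Agent.CharX.charDegree_one
      rw [← e, hdg] at h1'
      rw [h1'] at hd
      simp at hd
  have hmem : χ = x ∨ χ = x' := by
    have : χ ∈ S'.erase t' := Finset.mem_erase.2 ⟨fun e => h759 e, hχ'⟩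
    rwa [hx, Finset.mem_insert, Finset.mem_singleton] at this
  have key : ∀ a b : IrrCharacter G, (χ = a ∨ χ = b) →
      (charDegree (a : G → ℂ), charDegree (b : G → ℂ), charDegree (t' : G → ℂ)) ∈ threePats →
      charDegree (a : G → ℂ) = 1035 ∧ charDegree (b : G → ℂ) = 2024 ∧ charDegree (t' : G → ℂ) = 990 := by
    intro a b hab hp
    simp only [threePats, List.mem_cons, List.not_mem_nil, or_false, Prod.mk.injEq] at hp
    simp only [List.mem_cons, List.not_mem_nil, or_false] at hd
    rcases hab with rfl | rfl <;> omega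
  rcases (h.imp_left fun h' => h'.resolve_left (not_not_intro h0')) with hp | hp
  · obtain ⟨h1, h2, h3⟩ := key x x' hmem hp
    refine ⟨S', c', t', x, x', R', h1, h2, h3, fun h => ?_⟩
    rw [hsum, hts, hcs, hcs', h1, h2, h3, show excP 7 3 990 = -1 by decide,
      show sgP 7 1035 = -1 by decide, show sgP 7 2024 = 1 by decide]
    push_cast
    ring
  · obtain ⟨h1, h2, h3⟩ := key x' x hmem.symm hp
    refine ⟨S', c', t', x', x, R', h1, h2, h3, fun h => ?_⟩
    rw [hsum, hts, hcs, hcs', h1, h2, h3, show excP 7 3 990 = -1 by decide,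
      show sgP 7 1035 = -1 by decide, show sgP 7 2024 = 1 by decide]
    push_cast
    ring

open Classical in
/-- The rows for an action of order six. -/
theorem six_rows {P' : Sylow 7 G} {V' : Subgroup G}
    (K' : Conf 7 (P' : Subgroup G) V' (Subgroup.normalizer ((P' : Subgroup G) : Set G)) 6)
    [Fintype (P' : Subgroup G)] [Fintype V'] [Fintype (Subgroup.normalizer ((P' : Subgroup G) : Set G))]
    [Fintype ((P' : Subgroup G) →* ℂˣ)] {M' : Ideal AlgInt} [M'.IsPrime] (hM' : IsPModular 7 M')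
    {k : ℕ} {S' : Finset (IrrCharacter G)} {c' : IrrCharacter G → ℤ} {t' : IrrCharacter G}
    (R' : Rows 7 6 k (P' : Subgroup G) V' M' S' c' t') :
    k = 1 ∧ (∀ χ ∈ S', c' χ = sgP 7 (charDegree (χ : G → ℂ))) ∧
      S.val.map (fun χ : IrrCharacter G => charDegree (χ : G → ℂ)) =
        (([1771, 2024, 5544, 5796] : List ℕ) : Multiset ℕ) ∧
      ∃ χb ∈ S', χb ∈ S ∧ charDegree (χb : G → ℂ) = 2024 ∧ (∀ χ ∈ S', χ ∈ S → χ = χb) ∧
        ∃ l ∈ sixPats, (S'.erase χb).val.map (fun χ : IrrCharacter G => charDegree (χ : G → ℂ)) =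
          (l : Multiset ℕ) := by
  haveI := L.simple
  have hk : k * 6 = 6 := R'.ek
  obtain rfl : k = 1 := by omega
  have hres : ∀ χ ∈ S', c' χ = sgP 7 (charDegree (χ : G → ℂ)) ∧
      (charDegree (χ : G → ℂ) % 7 = 1 ∨ charDegree (χ : G → ℂ) % 7 = 6) := fun χ h => by
    by_cases hne : χ = t'
    · subst hne
      obtain ⟨hts, htr⟩ := coef_exc K' R' (by norm_num)
      refine ⟨?_, by omega⟩
      rw [hts, excP, sgP]; split_ifs <;> omega
    · exact coef_ord K' R' (by norm_num) h hne
  have hcom : ∀ χ ∈ S', χ ∈ S → charDegree (χ : G → ℂ) = 2024 := fun χ h' h => by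
    have hd := (five_degs L K hM R).2 χ h
    have := (hres χ h').2
    simp only [List.mem_cons, List.not_mem_nil, or_false] at hd
    omega
  obtain ⟨χb, hb', hb⟩ := exists_common L K hM R K' R'
  have hdb := hcom χb hb' hb
  have hdeg : S.val.map (fun χ : IrrCharacter G => charDegree (χ : G → ℂ)) =
      (([1771, 2024, 5544, 5796] : List ℕ) : Multiset ℕ) := by
    refine (five_pinned L K hM R).resolve_left fun h => ?_
    have h1 : (2024 : ℕ) ∈ S.val.map fun χ : IrrCharacter G => charDegree (χ : G → ℂ) :=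
      Multiset.mem_map.2 ⟨χb, hb, hdb⟩
    rw [h] at h1
    exact absurd h1 (by decide)
  refine ⟨rfl, fun χ h => (hres χ h).1, hdeg, χb, hb', hb, hdb,
    fun χ h' h => five_inj L K hM R h hb ((hcom χ h' h).trans hdb.symm),
    ((S'.erase χb).val.map fun χ : IrrCharacter G => charDegree (χ : G → ℂ)).sort (· ≤ ·), ?_,
    (Multiset.sort_eq _ _).symm⟩
  set l := ((S'.erase χb).val.map fun χ : IrrCharacter G => charDegree (χ : G → ℂ)).sort (· ≤ ·) with hl
  have hmul : (l : Multiset ℕ) = (S'.erase χb).val.map fun χ : IrrCharacter G => charDegree (χ : G → ℂ) :=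
    Multiset.sort_eq _ _
  have hmem : ∀ d ∈ l, ∃ χ ∈ S', charDegree (χ : G → ℂ) = d := fun d hd => by
    have hd' : d ∈ (l : Multiset ℕ) := hd
    rw [hmul] at hd'
    obtain ⟨χ, hχ, rfl⟩ := Multiset.mem_map.1 hd'
    exact ⟨χ, Finset.mem_of_mem_erase hχ, rfl⟩
  have hsum : ∀ {β : Type} [AddCommMonoid β] (f : ℕ → β), (l.map f).sum =
      ∑ χ ∈ S'.erase χb, f (charDegree (χ : G → ℂ)) := fun f => by
    rw [← Multiset.sum_coe, ← Multiset.map_coe, hmul, Multiset.map_map]
    rfl
  have hrel : ∀ (a : ℤ) (f : ℕ → ℤ), a + ∑ χ ∈ S', c' χ * f (charDegree (χ : G → ℂ)) = 0 →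
      a + (f 2024 + (l.map fun d => sgP 7 d * f d).sum) = 0 := fun a f h => by
    rw [← Finset.add_sum_erase _ _ hb', (hres χb hb').1, hdb, show sgP 7 2024 = 1 by decide, one_mul] at h
    rw [Finset.sum_congr rfl fun χ hχ => show c' χ * f (charDegree (χ : G → ℂ)) =
      sgP 7 (charDegree (χ : G → ℂ)) * f (charDegree (χ : G → ℂ)) by
        rw [(hres χ (Finset.mem_of_mem_erase hχ)).1]] at h
    rw [hsum]
    exact h
  have h1 : 1 + ∑ χ ∈ S', c' χ * (charDegree (χ : G → ℂ) : ℤ) = 0 := by
    have h := R'.relation 1 (by simp)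
    simp only [irr_one_eq_charDegree] at h
    exact_mod_cast h
  obtain ⟨h23, h11⟩ := Rows.rel_local L K' R' (by norm_num) (by norm_num)
  refine seven_six_spec ?_ ?_ (fun d hd => ?_) ?_ (hrel _ _ h23) (hrel _ _ h11) ?_ ?_
  · rw [hl, Multiset.length_sort, Multiset.card_map, ← Finset.card_def, Finset.card_erase_of_mem hb', R'.card]
  · exact Multiset.pairwise_sort _ _
  · obtain ⟨χ, hχ, rfl⟩ := hmem d hd
    exact seven_mem L R' hχ (hres χ hχ).2
  · have h : (1 : ℤ) + (((2024 : ℕ) : ℤ) + (l.map fun d : ℕ => sgP 7 d * (d : ℤ)).sum) = 0 :=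
      hrel 1 (fun d : ℕ => (d : ℤ)) h1
    push_cast at h
    linarith
  · simp only [excOne, List.all_eq_true, Bool.or_eq_true, Bool.not_eq_true', Nat.beq_eq]
    intro a ha b hb
    obtain ⟨χ, -, rfl⟩ := hmem a ha
    obtain ⟨ψ, -, rfl⟩ := hmem b hb
    rcases Bool.eq_false_or_eq_true (excTT (charDegree (χ : G → ℂ))) with e1 | e1
    · rcases Bool.eq_false_or_eq_true (excTT (charDegree (ψ : G → ℂ))) with e2 | e2
      · exact Or.inr (excTT_eq L e1 e2)
      · exact Or.inl (Or.inr e2)
    · exact Or.inl (Or.inl e1)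
  · have hdis : Disjoint S (S'.erase χb) := Finset.disjoint_left.2 fun χ h h' => by
      have h2 := Finset.mem_of_mem_erase h'
      exact Finset.ne_of_mem_erase h' (five_inj L K hM R h hb ((hcom χ h2 h).trans hdb.symm))
    have hone : principal G ∉ S ∪ S'.erase χb := fun h => by
      rcases Finset.mem_union.1 h with h | h
      · exact R.ne_one h
      · exact R'.ne_one (Finset.mem_of_mem_erase h)
    have hS : ∑ χ ∈ S, charDegree (χ : G → ℂ) * charDegree (χ : G → ℂ) + 1 = restSq := by
      have h : (((S.val.map fun χ : IrrCharacter G => charDegree (χ : G → ℂ)).map fun d => d * d).sum) + 1 =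
          restSq := by
        rw [hdeg]; decide
      rw [Multiset.map_map] at h
      exact h
    rw [hsum, ← hS]
    have h := Finset.sum_le_sum_of_subset (f := fun χ : IrrCharacter G => charDegree (χ : G → ℂ) ^ 2)
      (Finset.subset_univ (insert (principal G) (S ∪ S'.erase χb)))
    rw [Cfsg.Agent.CharX.sum_deg_sq, L.card, Finset.sum_insert hone, Finset.sum_union hdis,
      show charDegree (principal G : G → ℂ) = 1 from Cfsg.Agent.CharX.charDegree_one] at h
    simp only [pow_two] at h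
    omega

end

/-- The configurations at seven that remain. -/
theorem seven_conf (L : Locals G) [Fact (Nat.Prime 7)] :
    ∃ (P : Sylow 7 G) (V : Subgroup G) (e n : ℕ),
      Conf 7 (P : Subgroup G) V (Subgroup.normalizer ((P : Subgroup G) : Set G)) e ∧
      (e = 3 ∨ e = 6) ∧ n % 7 = 1 ∧ n * (e * (7 * Nat.card V)) = 244823040 := by
  classical
  haveI := L.simple
  haveI : Fact (Nat.Prime 5) := ⟨by norm_num⟩
  obtain ⟨P₅, V₅, _, K₅, -⟩ := five_conf L
  haveI : Fintype (P₅ : Subgroup G) := Fintype.ofFinite _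
  haveI : Fintype V₅ := Fintype.ofFinite _
  haveI : Fintype (Subgroup.normalizer ((P₅ : Subgroup G) : Set G)) := Fintype.ofFinite _
  haveI : Fintype ((P₅ : Subgroup G) →* ℂˣ) := Fintype.ofFinite _
  obtain ⟨M, hM⟩ := exists_isPModular_witness 5
  haveI := IsPModular.isPrime hM
  obtain ⟨k, S, c, t, R⟩ := exists_rows hM (by norm_num) K₅
  obtain rfl : k = 1 := by have := R.ek; omega
  obtain ⟨P, V, e, K, he, n, hn1, hn7, hn⟩ := exists_config L.card (p := 7) (by norm_num) (by norm_num)
  haveI : Fintype (P : Subgroup G) := Fintype.ofFinite _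
  haveI : Fintype V := Fintype.ofFinite _
  haveI : Fintype (Subgroup.normalizer ((P : Subgroup G) : Set G)) := Fintype.ofFinite _
  haveI : Fintype ((P : Subgroup G) →* ℂˣ) := Fintype.ofFinite _
  have he1 := e_ne_one L.card (by norm_num) K
  have he' : e = 2 ∨ e = 3 ∨ e = 6 := by
    have := Nat.le_of_dvd (by norm_num) he
    interval_cases e <;> first | omega | norm_num at he
  rcases he' with rfl | he'
  · obtain ⟨M', hM'⟩ := exists_isPModular_witness 7
    haveI := IsPModular.isPrime hM'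
    exact (seven_not_two L K₅ hM R K hM').elim
  · exact ⟨P, V, e, n, K, he', hn7, hn⟩

end Cfsg.Agent.M24Order
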