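import Cfsg.Agent.Lib.M24Order.SixOrth
import Cfsg.Agent.Lib.M24Order.SevenRows

/-!
A simple group of order 244823040: no action of order six at seven with a complement of order three.
-/

set_option linter.unusedSectionVars false
set_option linter.style.haveILetI false

namespace Cfsg.Agent.M24Order

open Cfsg Cfsg.Agent.Char Cfsg.Agent.Blocks Cfsg.Agent.CCSylow Cfsg.Agent.DefOne
open Cfsg.Agent.M23Order (Rows exists_rows)
open Cfsg.Agent.M23Uniq (t23)
open Cfsg.Agent.M24Uniq (Locals)

universe u

set_option maxRecDepth 10000 in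
/-- Rows congruent to one in absolute value: the signs at twenty-three. -/
theorem one_check : (degsS 1).all (fun d => (excTT d && !(Nat.beq d 540)) || decide (sgP 7 d * t23 d ≤ 0)) = true := by decide +kernel

set_option maxRecDepth 10000 in
/-- Rows congruent to two in absolute value: parity at twenty-three. -/
theorem two_check : (degsS 2).all (fun d => excTT d || decide (t23 d % 22 = 0)) = true := by decide +kernel

/-- The only pattern with the degree 540. -/
theorem six_540 : sixPats.all (fun l => !(l.elem 540) || l == [540, 540, 1035, 1035, 1035]) = true := by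
  decide +kernel

/-- The patterns do not contain 45 or 3840. -/
theorem six_no45 : sixPats.all (fun l => !(l.elem 45) && !(l.elem 3840)) = true := by decide +kernel

variable {G : Type u} [Group G] [Fintype G]

/-- The degrees of the characters of a complement of order three. -/
theorem deg_comp_three {V : Subgroup G} [Fintype V] (hV : Nat.card V = 3) (b : IrrCharacter V) :
    charDegree (b : V → ℂ) = 1 := by
  classical
  have h := Finset.single_le_sum (f := fun χ : IrrCharacter V => charDegree (χ : V → ℂ) ^ 2)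
    (fun _ _ => Nat.zero_le _) (Finset.mem_univ b)
  rw [Cfsg.Agent.CharX.sum_deg_sq, hV] at h
  have h0 := charDegree_pos b
  nlinarith

/-- An orbit without the trivial character has at most two members. -/
theorem orb_three {V : Subgroup G} [Fintype V] (hV : Nat.card V = 3) {O : Finset (IrrCharacter V)}
    (hO : trivB V ∉ O) : O.card ≤ 2 := by
  classical
  have h := Finset.sum_le_sum_of_subset (f := fun χ : IrrCharacter V => charDegree (χ : V → ℂ) ^ 2)
    (Finset.subset_univ (insert (trivB V) O))
  rw [Cfsg.Agent.CharX.sum_deg_sq, hV, Finset.sum_congr rfl fun χ _ => by rw [deg_comp_three hV χ, one_pow],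
    Finset.sum_const, smul_eq_mul, mul_one, Finset.card_insert_of_notMem hO] at h
  omega

variable (L : Locals G) [Fact (Nat.Prime 5)] [Fact (Nat.Prime 7)]
  {P : Sylow 5 G} {V : Subgroup G}
  (K : Conf 5 (P : Subgroup G) V (Subgroup.normalizer ((P : Subgroup G) : Set G)) 4)
  [Fintype (P : Subgroup G)] [Fintype V] [Fintype (Subgroup.normalizer ((P : Subgroup G) : Set G))]
  [Fintype ((P : Subgroup G) →* ℂˣ)] {M : Ideal AlgInt} [M.IsPrime] (hM : IsPModular 5 M)
  {S : Finset (IrrCharacter G)} {c : IrrCharacter G → ℤ} {t : IrrCharacter G}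
  (R : Rows 5 4 1 (P : Subgroup G) V M S c t)

include L K hM R

/-- An action of order six excludes a complement of order three. -/
theorem six_not_three {P' : Sylow 7 G} {V' : Subgroup G}
    (K' : Conf 7 (P' : Subgroup G) V' (Subgroup.normalizer ((P' : Subgroup G) : Set G)) 6)
    [Fintype (P' : Subgroup G)] [Fintype V'] [Fintype (Subgroup.normalizer ((P' : Subgroup G) : Set G))]
    [Fintype ((P' : Subgroup G) →* ℂˣ)] {M' : Ideal AlgInt} [M'.IsPrime] (hM' : IsPModular 7 M') :
    Nat.card V' ≠ 3 := by
  classical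
  intro hV
  haveI := L.simple
  obtain ⟨k, S', c', t', R'⟩ := exists_rows hM' (by norm_num) K'
  obtain ⟨rfl, hsgn, -, χb, hb', -, hdb, -, l, hl, hdeg⟩ := six_rows L K hM R K' hM' R'
  have hl' : ∀ χ ∈ S', χ ≠ χb → charDegree (χ : G → ℂ) ∈ l := fun χ h hne => by
    have h1 := Multiset.mem_map_of_mem (fun χ : IrrCharacter G => charDegree (χ : G → ℂ))
      (Finset.mem_erase.2 ⟨hne, h⟩ : χ ∈ S'.erase χb)
    rw [hdeg] at h1
    exact h1
  -- the pattern with 540 does not fit the count at seven
  have h540 : (540 : ℕ) ∉ l := by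
    intro h
    have hp := List.all_eq_true.1 six_540 l hl
    rw [List.elem_iff.2 h, Bool.not_true, Bool.false_or, beq_iff_eq] at hp
    subst hp
    obtain ⟨n, hn⟩ := t_one K' hM' R'
    have hsum : ∑ χ ∈ S', (c' χ : ℚ) / (charDegree (χ : G → ℂ) : ℚ) =
        1 / 2024 + ((([540, 540, 1035, 1035, 1035] : List ℕ) : Multiset ℕ).map
          fun d : ℕ => (sgP 7 d : ℚ) / (d : ℚ)).sum := by
      rw [← Finset.add_sum_erase _ _ hb', hsgn χb hb', hdb, show sgP 7 2024 = 1 by decide, ← hdeg,
        Multiset.map_map]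
      push_cast
      congr 1
      exact Finset.sum_congr rfl fun χ hχ => by
        simp [hsgn χ (Finset.mem_of_mem_erase hχ)]
    rw [hsum, hV, L.card] at hn
    simp only [Multiset.map_coe, List.map_cons, List.map_nil, Multiset.sum_coe, List.sum_cons, List.sum_nil,
      show sgP 7 540 = 1 by decide, show sgP 7 1035 = -1 by decide] at hn
    norm_num at hn
    have h3 : n * 3 = 5002880 := by exact_mod_cast (by linarith : (n : ℚ) * 3 = 5002880)
    omega
  -- the key character
  obtain ⟨χ, hχ⟩ := exists_key L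
  have hχp : χ ≠ principal G := fun e => by
    rw [e, show charDegree (principal G : G → ℂ) = 1 from Cfsg.Agent.CharX.charDegree_one] at hχ
    omega
  have hχS : χ ∉ S' := fun h => by
    have hne : χ ≠ χb := fun e => by rw [e, hdb] at hχ; omega
    have hd := hl' χ h hne
    have h45 := List.all_eq_true.1 six_no45 l hl
    simp only [Bool.and_eq_true, Bool.not_eq_true', ← Bool.not_eq_true, List.elem_iff] at h45
    rcases hχ with e | e | e <;> rw [e] at hd
    exacts [h45.1 hd, h45.2 hd, h540 hd]
  have hχB : χ ∉ principalBlock M' G := fun h => (R'.single rfl χ h).elim hχp hχS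
  have h7 : ¬ 7 ∣ charDegree (χ : G → ℂ) := by rcases hχ with e | e | e <;> rw [e] <;> norm_num
  obtain ⟨b, hb⟩ := DefOne.exists_inR K' hM' h7
  have hnt : ∀ ψ : IrrCharacter G, ψ ∉ principalBlock M' G → InR K' ψ b → trivB V' ∉ orbB K' b := by
    intro ψ hψ hψb h
    obtain ⟨w, hw⟩ := (mem_orbB K').1 h
    rw [← DefOne.inR_bT K' ψ w b, hw] at hψb
    exact DefOne.not_inR_of_phi_eq_zero K' (fun y hy => phi_not_principal K' hM' hψ hy) hψb
  have ho2 := orb_three hV (hnt χ hχB hb)
  obtain ⟨eb, X, Y, δ, sg, F⟩ := exists_families K' hM' b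
  set o := (orbB K' b).card with ho'
  have ho : o * eb = 6 := by
    have h := card_orbB K' b
    rw [F.card_stab, K'.D.hcard, K'.hP, ← mul_assoc] at h
    exact Nat.eq_of_mul_eq_mul_right (Nat.mul_pos (by norm_num) Nat.card_pos) h
  have hb1 := deg_comp_three hV b
  have hx : ∀ ψ ∈ X, (charDegree (ψ : G → ℂ) : ℤ) ≡ (o : ℤ) * sg ψ [ZMOD 7] := by
    intro ψ hψ
    have h := degree_congr' K' hM' ((mem_iff_inR K' F ψ).1 (Or.inl hψ))
    rw [Families.sum_X K' F hψ, hb1] at h
    refine h.trans (Int.modEq_iff_dvd.2 ⟨(o : ℤ) * sg ψ, ?_⟩)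
    push_cast; ring
  have hy : ∀ ψ ∈ Y, (charDegree (ψ : G → ℂ) : ℤ) ≡ δ [ZMOD 7] := by
    intro ψ hψ
    have h := degree_congr' K' hM' ((mem_iff_inR K' F ψ).1 (Or.inr hψ))
    rw [F.sumY ψ hψ, hb1] at h
    refine h.trans (Int.modEq_iff_dvd.2 ⟨δ, ?_⟩)
    have : ((o : ℤ) * eb) = 6 := by exact_mod_cast ho
    push_cast
    linear_combination δ * this
  -- members are not principal
  have hmem : ∀ ψ : IrrCharacter G, ψ ∈ X ∨ ψ ∈ Y → charDegree (ψ : G → ℂ) ∈ degs ∧
      charDegree (ψ : G → ℂ) ≠ 11 := by
    intro ψ hψ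
    refine ⟨deg_mem L fun e => ?_, no_eleven L ψ⟩
    -- the principal character lies only over the trivial character
    obtain ⟨b', hb'', hb'1⟩ : ∃ b', InR K' (principal G) b' ∧ b' = b := ⟨b, e ▸ (mem_iff_inR K' F ψ).1 hψ, rfl⟩
    obtain ⟨w, hw⟩ := exists_conj_of_block K' hM' hb'' (show InR K' (principal G) (trivB V') from by
      by_contra hn
      obtain ⟨y, hy⟩ := exists_ne_one_P K'
      have h := phi_principal K' hM' principal_mem_principalBlock hy
      rw [phi_eq_zero_of_not_inR K' hn hy] at h
      simp [principal] at h) rfl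
    rw [hb'1] at hw
    exact hnt χ hχB hb ((mem_orbB K').2 ⟨w, hw⟩)
  obtain ⟨θ, hθ⟩ := F.nonempty
  have hrel := fam_rel_tt L K' (by norm_num) F hθ
  have hχXY : χ ∈ X ∨ χ ∈ Y := (mem_iff_inR K' F χ).2 hb
  have ho12 : o = 1 ∨ o = 2 := by
    have : o ≠ 0 := fun h => by rw [h] at ho; omega
    omega
  rcases ho12 with h1 | h1
  · -- a fixed character: all terms have one sign
    have hχd : charDegree (χ : G → ℂ) = 540 := by
      rcases hχXY with h | h
      · have hr := hx χ h
        rw [h1, Int.ModEq] at hr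
        rcases hχ with e | e | e
        · rw [e] at hr; rcases F.signX χ h with s | s <;> rw [s] at hr <;> norm_num at hr
        · rw [e] at hr; rcases F.signX χ h with s | s <;> rw [s] at hr <;> norm_num at hr
        · exact e
      · have hr := hy χ h
        rw [Int.ModEq] at hr
        rcases hχ with e | e | e
        · rw [e] at hr; rcases F.sign with s | s <;> rw [s] at hr <;> norm_num at hr
        · rw [e] at hr; rcases F.sign with s | s <;> rw [s] at hr <;> norm_num at hr
        · exact e
    have hS1 : ∀ ψ : IrrCharacter G, ∀ s : ℤ, (s = 1 ∨ s = -1) → (ψ ∈ X ∨ ψ ∈ Y) →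
        (charDegree (ψ : G → ℂ) : ℤ) ≡ s [ZMOD 7] →
        s = sgP 7 (charDegree (ψ : G → ℂ)) ∧ s * t23 (charDegree (ψ : G → ℂ)) ≤ 0 := by
      intro ψ s hs hψ h
      rw [Int.ModEq] at h
      have hr : charDegree (ψ : G → ℂ) % 7 = 1 ∨ charDegree (ψ : G → ℂ) % 7 = 6 := by
        rcases hs with e | e <;> rw [e] at h <;> omega
      have hs' : s = sgP 7 (charDegree (ψ : G → ℂ)) := by
        rw [sgP]; rcases hs with e | e <;> rw [e] at h <;> split_ifs <;> omega
      refine ⟨hs', ?_⟩
      have hd : charDegree (ψ : G → ℂ) ∈ degsS 1 := List.mem_filter.2 ⟨(hmem ψ hψ).1, by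
        simp only [Bool.and_eq_true, Bool.or_eq_true, Nat.beq_eq, Bool.not_eq_true', ← Bool.not_eq_true]
        exact ⟨(hmem ψ hψ).2, hr⟩⟩
      have h := List.all_eq_true.1 one_check _ hd
      simp only [Bool.or_eq_true, Bool.and_eq_true, Bool.not_eq_true', ← Bool.not_eq_true, Nat.beq_eq,
        decide_eq_true_eq] at h
      rcases h with ⟨h2, h3⟩ | h
      · exact absurd ((excTT_eq L h2 (show excTT (charDegree (χ : G → ℂ)) = true by rw [hχd]; decide)).trans hχd) h3
      · rwa [hs']
    have hX : ∀ ψ ∈ X, sg ψ * t23 (charDegree (ψ : G → ℂ)) ≤ 0 := fun ψ h =>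
      (hS1 ψ _ (F.signX ψ h) (Or.inl h) (by have := hx ψ h; rwa [h1, Nat.cast_one, one_mul] at this)).2
    have hX0 := Finset.sum_nonpos hX
    have hY0 : ∀ ψ ∈ Y, δ * t23 (charDegree (ψ : G → ℂ)) ≤ 0 := fun ψ h =>
      (hS1 ψ _ F.sign (Or.inr h) (hy ψ h)).2
    rcases hχXY with h | h
    · have h' := (hS1 χ _ (F.signX χ h) (Or.inl h) (by have := hx χ h; rwa [h1, Nat.cast_one, one_mul] at this)).1
      have hlt : sg χ * t23 (charDegree (χ : G → ℂ)) < 0 := by
        have hr := hx χ h
        rw [Int.ModEq] at hr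
        rcases hχ with e | e | e <;> rw [e] at h' hr ⊢
        · rcases F.signX χ h with s | s <;> rw [s, h1] at hr <;> norm_num at hr
        · rcases F.signX χ h with s | s <;> rw [s, h1] at hr <;> norm_num at hr
        · rw [h']; decide
      have := Finset.sum_lt_sum (f := fun ψ => sg ψ * t23 (charDegree (ψ : G → ℂ))) (g := fun _ => (0 : ℤ))
        hX ⟨χ, h, hlt⟩
      simp only [Finset.sum_const_zero] at this
      have := hY0 θ hθ
      omega
    · have heq : charDegree (θ : G → ℂ) = charDegree (χ : G → ℂ) := by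
        have h := Families.agree K' F hθ h (g := 1) (by simp)
        rw [irr_one_eq_charDegree, irr_one_eq_charDegree] at h
        exact_mod_cast h
      have hlt : δ * t23 (charDegree (θ : G → ℂ)) < 0 := by
        have hr := hy χ h
        rw [Int.ModEq] at hr
        rw [heq]
        rcases hχ with e | e | e <;> rw [e] at hr ⊢ <;> rcases F.sign with s | s <;> rw [s] at hr ⊢ <;>
          first | (norm_num at hr; done) | decide
      omega
  · -- two conjugate characters: parity
    have h540' : charDegree (χ : G → ℂ) = 540 ∧ χ ∈ Y := by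
      rcases hχXY with h | h
      · exfalso
        have hr := hx χ h
        rw [h1, Int.ModEq] at hr
        rcases hχ with e | e | e <;> rw [e] at hr <;> rcases F.signX χ h with s | s <;> rw [s] at hr <;>
          norm_num at hr
      · refine ⟨?_, h⟩
        have hr := hy χ h
        rw [Int.ModEq] at hr
        rcases hχ with e | e | e
        · rw [e] at hr; rcases F.sign with s | s <;> rw [s] at hr <;> norm_num at hr
        · rw [e] at hr; rcases F.sign with s | s <;> rw [s] at hr <;> norm_num at hr
        · exact e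
    obtain ⟨hχd, hχY⟩ := h540'
    have hX2 : ∀ ψ ∈ X, sg ψ * t23 (charDegree (ψ : G → ℂ)) % 22 = 0 := by
      intro ψ hψ
      have hr := hx ψ hψ
      rw [h1, Int.ModEq] at hr
      have hd : charDegree (ψ : G → ℂ) ∈ degsS 2 := List.mem_filter.2 ⟨(hmem ψ (Or.inl hψ)).1, by
        simp only [Bool.and_eq_true, Bool.or_eq_true, Nat.beq_eq, Bool.not_eq_true', ← Bool.not_eq_true]
        refine ⟨(hmem ψ (Or.inl hψ)).2, ?_⟩
        rcases F.signX ψ hψ with s | s <;> rw [s] at hr <;> omega⟩
      have h := List.all_eq_true.1 two_check _ hd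
      simp only [Bool.or_eq_true, decide_eq_true_eq] at h
      rcases h with h | h
      · exfalso
        have h' := excTT_eq L h (show excTT (charDegree (χ : G → ℂ)) = true by rw [hχd]; decide)
        rw [h', hχd] at hr
        rcases F.signX ψ hψ with s | s <;> rw [s] at hr <;> norm_num at hr
      · rw [Int.mul_emod, h]; simp
    have hsum : (∑ ψ ∈ X, sg ψ * t23 (charDegree (ψ : G → ℂ))) % 22 = 0 := by
      rw [Finset.sum_int_mod, Finset.sum_eq_zero hX2]; rfl
    have heq : charDegree (θ : G → ℂ) = 540 := by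
      have h := Families.agree K' F hθ hχY (g := 1) (by simp)
      rw [irr_one_eq_charDegree, irr_one_eq_charDegree] at h
      rw [← hχd]
      exact_mod_cast h
    rw [heq, show t23 540 = -11 by decide] at hrel
    rcases F.sign with s | s <;> rw [s] at hrel <;> omega

end Cfsg.Agent.M24Order
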