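import Cfsg.Agent.Lib.M24Order.LocalFacts
import Cfsg.Agent.Lib.M24Order.Lists

/-!
A simple group of order 244823040: the columns at twenty-three and eleven are orthogonal, so some degree is
45, 3840 or 540. The relations of any rows at seven at twenty-three.
-/

set_option linter.unusedSectionVars false
set_option linter.style.haveILetI false

namespace Cfsg.Agent.M24Order

open Cfsg Cfsg.Agent.Char Cfsg.Agent.Blocks Cfsg.Agent.CCSylow Cfsg.Agent.DefOne
open Cfsg.Agent.M23Uniq (t23 tsum' tsum'_eq)
open Cfsg.Agent.M24Uniq (Locals t11)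

open scoped ComplexConjugate

universe u

variable {G : Type u} [Group G] [Fintype G]

set_option maxRecDepth 10000 in
/-- The degrees with negative product. -/
theorem prod_check : degs.all (fun d => Nat.beq d 11 || Nat.beq d 45 || Nat.beq d 3840 || Nat.beq d 540 ||
    decide (0 ≤ t23 d * t11 d)) = true := by
  decide +kernel

/-- The columns at twenty-three and eleven are orthogonal. -/
theorem sum_tt_te (L : Locals G) :
    ∑ χ : IrrCharacter G, t23 (charDegree (χ : G → ℂ)) * t11 (charDegree (χ : G → ℂ)) = 0 := by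
  classical
  haveI : Fact (Nat.Prime 23) := ⟨by norm_num⟩
  haveI : Fact (Nat.Prime 11) := ⟨by norm_num⟩
  obtain ⟨Q⟩ : Nonempty (Sylow 23 G) := inferInstance
  obtain ⟨Q'⟩ : Nonempty (Sylow 11 G) := inferInstance
  haveI : Fintype (Q : Subgroup G) := Fintype.ofFinite _
  haveI : Fintype (Q' : Subgroup G) := Fintype.ofFinite _
  have hQ : Nat.card Q = 23 := L.sylow_card (by norm_num) (by norm_num) Q
  have hQ' : Nat.card Q' = 11 := L.sylow_card (by norm_num) (by norm_num) Q'
  have hterm : ∀ χ : IrrCharacter G, ((t23 (charDegree (χ : G → ℂ)) * t11 (charDegree (χ : G → ℂ)) : ℤ) : ℂ) =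
      ∑ y ∈ (Finset.univ : Finset (Q : Subgroup G)).erase 1,
        ∑ x ∈ (Finset.univ : Finset (Q' : Subgroup G)).erase 1, (χ : G → ℂ) y * conj ((χ : G → ℂ) x) := by
    intro χ
    rw [Int.cast_mul, ← M24Uniq.tsum23 L Q χ,
      show (t11 (charDegree (χ : G → ℂ)) : ℂ) = conj (t11 (charDegree (χ : G → ℂ)) : ℂ) from (map_intCast _ _).symm,
      ← M24Uniq.tsum11 L Q' χ, tsum'_eq, tsum'_eq, map_sum, Finset.sum_mul_sum]
  have h : ((∑ χ : IrrCharacter G, t23 (charDegree (χ : G → ℂ)) * t11 (charDegree (χ : G → ℂ)) : ℤ) : ℂ) = 0 := by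
    rw [Int.cast_sum, Finset.sum_congr rfl fun χ _ => hterm χ, Finset.sum_comm]
    refine Finset.sum_eq_zero fun y hy => ?_
    rw [Finset.sum_comm]
    refine Finset.sum_eq_zero fun x hx => column_orth_of_not_isConj fun hc => ?_
    obtain ⟨g, hg⟩ := isConj_iff.1 hc
    have hyo : orderOf (y : G) = 23 := by
      rcases (Nat.dvd_prime (by norm_num : Nat.Prime 23)).1 (hQ ▸ Subgroup.orderOf_dvd_natCard _ y.2) with e | e
      · exact absurd (Subtype.ext (orderOf_eq_one_iff.1 e)) (Finset.ne_of_mem_erase hy)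
      · exact e
    have hxo : orderOf (x : G) = 11 := by
      rcases (Nat.dvd_prime (by norm_num : Nat.Prime 11)).1 (hQ' ▸ Subgroup.orderOf_dvd_natCard _ x.2) with e | e
      · exact absurd (Subtype.ext (orderOf_eq_one_iff.1 e)) (Finset.ne_of_mem_erase hx)
      · exact e
    rw [← hg, ← MulAut.conj_apply, MulEquiv.orderOf_eq, hyo] at hxo
    norm_num at hxo
  exact_mod_cast h

/-- Some character has degree 45, 3840 or 540. -/
theorem exists_key (L : Locals G) :
    ∃ χ : IrrCharacter G, charDegree (χ : G → ℂ) = 45 ∨ charDegree (χ : G → ℂ) = 3840 ∨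
      charDegree (χ : G → ℂ) = 540 := by
  classical
  by_contra hno
  push Not at hno
  have h0 := sum_tt_te L
  rw [← Finset.add_sum_erase _ _ (Finset.mem_univ (principal G)),
    show charDegree (principal G : G → ℂ) = 1 from Cfsg.Agent.CharX.charDegree_one,
    show t23 1 * t11 1 = 220 by decide] at h0
  have h1 : 0 ≤ ∑ χ ∈ (Finset.univ : Finset (IrrCharacter G)).erase (principal G),
      t23 (charDegree (χ : G → ℂ)) * t11 (charDegree (χ : G → ℂ)) :=
    Finset.sum_nonneg fun χ hχ => by
      have h := List.all_eq_true.1 prod_check _ (deg_mem L (Finset.ne_of_mem_erase hχ))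
      simp only [Bool.or_eq_true, Nat.beq_eq, decide_eq_true_eq] at h
      obtain ⟨n45, n3840, n540⟩ := hno χ
      rcases h with (((h | h) | h) | h) | h
      · exact absurd h (no_eleven L χ)
      · exact absurd h n45
      · exact absurd h n3840
      · exact absurd h n540
      · exact h
  omega

/-- The relation of a family at a prime other than twenty-three, summed over a group of order twenty-three. -/
theorem fam_rel_tt (L : Locals G) {p : ℕ} {P V N : Subgroup G} {e : ℕ} (K : Conf p P V N e) (h23 : p ≠ 23)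
    [Fintype P] [Fintype V] [Fintype N] [Fintype (P →* ℂˣ)] {b : IrrCharacter V} {eb : ℕ}
    {X Y : Finset (IrrCharacter G)} {δ : ℤ} {sg : IrrCharacter G → ℤ} (F : Families K b eb X Y δ sg)
    {θ : IrrCharacter G} (hθ : θ ∈ Y) :
    ∑ χ ∈ X, sg χ * t23 (charDegree (χ : G → ℂ)) + δ * t23 (charDegree (θ : G → ℂ)) = 0 := by
  classical
  haveI : Fact (Nat.Prime 23) := ⟨by norm_num⟩
  obtain ⟨Q⟩ : Nonempty (Sylow 23 G) := inferInstance
  haveI : Fintype (Q : Subgroup G) := Fintype.ofFinite _
  have hQ : Nat.card Q = 23 := L.sylow_card (by norm_num) (by norm_num) Q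
  have hreg : ∀ y : (Q : Subgroup G), ¬ p ∣ orderOf (y : G) := fun y h => by
    have h' := h.trans (Subgroup.orderOf_dvd_natCard _ y.2)
    rw [hQ] at h'
    exact h23 ((Nat.prime_dvd_prime_iff_eq K.hp (by norm_num)).1 h')
  have h : ((∑ χ ∈ X, sg χ * t23 (charDegree (χ : G → ℂ)) + δ * t23 (charDegree (θ : G → ℂ)) : ℤ) : ℂ) = 0 := by
    push_cast
    simp only [← M24Uniq.tsum23 L Q, tsum'_eq, Finset.mul_sum]
    rw [Finset.sum_comm, ← Finset.sum_add_distrib]
    exact Finset.sum_eq_zero fun y _ => Families.relation K F hθ (hreg y)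
  exact_mod_cast h

end Cfsg.Agent.M24Order
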